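import Cfsg.Agent.H15.NS.He.C0
import Cfsg.Agent.H15.NS3
import Cfsg.Agent.H16.O.He
import Cfsg.Agent.H16.P.HeL

/-! Generated by tools/h15/ns/gen.py (kit tools/h0/tr). -/

set_option maxRecDepth 100000
set_option maxHeartbeats 0

namespace H15.NS.He
open H16 H0.TR
open scoped commutatorElement

noncomputable abbrev w {G : Type*} [Group G] (g : ℕ → G) : ℕ → G := wds (m g) wW
noncomputable abbrev u {G : Type*} [Group G] (g : ℕ → G) : ℕ → G := wds g uW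
theorem t_act {G Ω : Type*} [Group G] [MulAction G Ω] {g : ℕ → G} {pt : ℕ → Ω} {c : ℕ}
    (M : Md g pt Tm 714 6 B1 c) : Act (wds g t_W) pt t_P 714 11 :=
  M.wact t_lt
theorem t_r : ∀ k < 11, ∀ i < 336, (resEnt t_P tP tE tI (nat_lit 714) (nat_lit 336)) k i = 0 := allZ2_sound t_r_a
theorem t_sm {G Ω : Type*} [Group G] [MulAction G Ω] {g : ℕ → G} {pt : ℕ → Ω} {c : ℕ}
    (M : Md g pt Tm 714 6 B1 c) : Sm (wds g t_W) (fun i => pt (tE i)) tP 336 11 tB ∧ ∀ i < 336, tE i < 714 :=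
  M.res (t_act M) (by decide) t_r t_b
theorem tl0_e : ∀ i < 15, (dent tl0 (wdsP tP te) (nat_lit 336)) i = 0 := allZ_sound0 tl0_e_0
theorem tl0_ok : DOK tl0 (wdsP tP te) 336 := ⟨tl0_h, tl0_e⟩
theorem tl1_e : ∀ i < 3, (dent tl1 (wdsP tP te) (nat_lit 336)) i = 0 := allZ_sound0 tl1_e_0
theorem tl1_ok : DOK tl1 (wdsP tP te) 336 := ⟨tl1_h, tl1_e⟩
theorem tl2_e : ∀ i < 1, (dent tl2 (wdsP tP te) (nat_lit 336)) i = 0 := allZ_sound0 tl2_e_0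
theorem tl2_ok : DOK tl2 (wdsP tP te) 336 := ⟨tl2_h, tl2_e⟩
theorem tl3_e : ∀ i < 15, (dent tl3 (wdsP tP te) (nat_lit 336)) i = 0 := allZ_sound0 tl3_e_0
theorem tl3_ok : DOK tl3 (wdsP tP te) 336 := ⟨tl3_h, tl3_e⟩
theorem t_low {G Ω : Type*} [Group G] [MulAction G Ω] {g : ℕ → G} {pt : ℕ → Ω} {c : ℕ}
    (M : Md g pt Tm 714 6 B1 c) : SLow (gi (wds (wds g t_W) te)) (fun i => pt (tE i)) 336 [tl0, tl1, tl2, tl3] :=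
  ((((SLow.nil).cons tl3_ok ((t_sm M).1.act.wds t_e 40) t_f3).cons tl2_ok ((t_sm M).1.act.wds t_e 40) t_f2).cons tl1_ok ((t_sm M).1.act.wds t_e 40) t_f1).cons tl0_ok ((t_sm M).1.act.wds t_e 40) t_f0
theorem t_pc {G Ω : Type*} [Group G] [MulAction G Ω] {g : ℕ → G} {pt : ℕ → Ω}
    (M : Md g pt Tm 714 6 B1 43008) : PC (wds g t_W) 11 2 :=
  have := M.fin
  ((t_sm M).1.pc0 (by decide) t_p).pc (t_low M) (t_sm M).1.inj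
    (fun k => evA_mem_gen _ (nth_lt t_e k)) M.card ⟨by decide, t_c⟩
theorem t_pc0 {G Ω : Type*} [Group G] [MulAction G Ω] {g : ℕ → G} {pt : ℕ → Ω} {c : ℕ}
    (M : Md g pt Tm 714 6 B1 c) : PC0 (wds g t_W) 11 2 ∧ Nat.card (gen (wds g t_W) 11) = 2 ^ 11 :=
  have := M.fin
  pc0c ((t_sm M).1.pc0 (by decide) t_p) (t_low M) (t_sm M).1.inj (fun k => evA_mem_gen _ (nth_lt t_e k)) t_c.1
theorem pf_act {G Ω : Type*} [Group G] [MulAction G Ω] {g : ℕ → G} {pt : ℕ → Ω} {c : ℕ}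
    (M : Md g pt Tm 714 6 B1 c) : Act (wds g pf_W) pt pf_P 714 1 :=
  M.wact pf_lt
theorem pf_r : ∀ k < 1, ∀ i < 12, (resEnt pf_P pfP pfE pfI (nat_lit 714) (nat_lit 12)) k i = 0 := allZ2_sound pf_r_a
theorem pf_sm {G Ω : Type*} [Group G] [MulAction G Ω] {g : ℕ → G} {pt : ℕ → Ω} {c : ℕ}
    (M : Md g pt Tm 714 6 B1 c) : Sm (wds g pf_W) (fun i => pt (pfE i)) pfP 12 1 pfB ∧ ∀ i < 12, pfE i < 714 :=
  M.res (pf_act M) (by decide) pf_r pf_b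
theorem pfl0_e : ∀ i < 2, (dent pfl0 (wdsP pfP pfe) (nat_lit 12)) i = 0 := allZ_sound0 pfl0_e_0
theorem pfl0_ok : DOK pfl0 (wdsP pfP pfe) 12 := ⟨pfl0_h, pfl0_e⟩
theorem pf_low {G Ω : Type*} [Group G] [MulAction G Ω] {g : ℕ → G} {pt : ℕ → Ω} {c : ℕ}
    (M : Md g pt Tm 714 6 B1 c) : SLow (gi (wds (wds g pf_W) pfe)) (fun i => pt (pfE i)) 12 [pfl0] :=
  (SLow.nil).cons pfl0_ok ((pf_sm M).1.act.wds pf_e 12) pf_f0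
theorem pf_pc {G Ω : Type*} [Group G] [MulAction G Ω] {g : ℕ → G} {pt : ℕ → Ω}
    (M : Md g pt Tm 714 6 B1 43008) : PC (wds g pf_W) 1 3 :=
  have := M.fin
  ((pf_sm M).1.pc0 (by decide) pf_p).pc (pf_low M) (pf_sm M).1.inj
    (fun k => evA_mem_gen _ (nth_lt pf_e k)) M.card ⟨by decide, pf_c⟩
theorem pf_pc0 {G Ω : Type*} [Group G] [MulAction G Ω] {g : ℕ → G} {pt : ℕ → Ω} {c : ℕ}
    (M : Md g pt Tm 714 6 B1 c) : PC0 (wds g pf_W) 1 3 ∧ Nat.card (gen (wds g pf_W) 1) = 3 ^ 1 :=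
  have := M.fin
  pc0c ((pf_sm M).1.pc0 (by decide) pf_p) (pf_low M) (pf_sm M).1.inj (fun k => evA_mem_gen _ (nth_lt pf_e k)) pf_c.1
theorem co4 : ∀ i < 4, (comEnt Tm Tm 4 B1 co4U co4V) i = 0 := allZ_sound0 co4_0
theorem wzpx_act {G Ω : Type*} [Group G] [MulAction G Ω] {g : ℕ → G} {pt : ℕ → Ω} {c : ℕ}
    (M : Md g pt Tm 714 6 B1 c) : Act (wds g wzpx_W) pt wzpx_P 714 3 :=
  M.wact wzpx_lt
theorem wzpth_act {G Ω : Type*} [Group G] [MulAction G Ω] {g : ℕ → G} {pt : ℕ → Ω} {c : ℕ}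
    (M : Md g pt Tm 714 6 B1 c) : Act (wds g wzpth_W) pt wzpth_P 714 11 :=
  M.wact wzpth_lt
theorem wzptl0_e : ∀ i < 671, (dent wzptl0 wzpth_P (nat_lit 714)) i = 0 := allZ_sound0 wzptl0_e_0
theorem wzptl0_ok : DOK wzptl0 wzpth_P 714 := ⟨wzptl0_h, wzptl0_e⟩
theorem wzptl1_e : ∀ i < 15, (dent wzptl1 wzpth_P (nat_lit 714)) i = 0 := allZ_sound0 wzptl1_e_0
theorem wzptl1_ok : DOK wzptl1 wzpth_P 714 := ⟨wzptl1_h, wzptl1_e⟩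
theorem wzptl2_e : ∀ i < 1, (dent wzptl2 wzpth_P (nat_lit 714)) i = 0 := allZ_sound0 wzptl2_e_0
theorem wzptl2_ok : DOK wzptl2 wzpth_P 714 := ⟨wzptl2_h, wzptl2_e⟩
theorem wzptl3_e : ∀ i < 1, (dent wzptl3 wzpth_P (nat_lit 714)) i = 0 := allZ_sound0 wzptl3_e_0
theorem wzptl3_ok : DOK wzptl3 wzpth_P 714 := ⟨wzptl3_h, wzptl3_e⟩
theorem wzpt_low {G Ω : Type*} [Group G] [MulAction G Ω] {g : ℕ → G} {pt : ℕ → Ω} {c : ℕ}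
    (M : Md g pt Tm 714 6 B1 c) : SLow (gi (wds g wzpth_W)) pt 714 [wzptl0, wzptl1, wzptl2, wzptl3] :=
  ((((SLow.nil).cons wzptl3_ok (wzpth_act M) wzpt_f3).cons wzptl2_ok (wzpth_act M) wzpt_f2).cons wzptl1_ok (wzpth_act M) wzpt_f1).cons wzptl0_ok (wzpth_act M) wzpt_f0
theorem wzpt_S0 {G Ω : Type*} [Group G] [MulAction G Ω] {g : ℕ → G} {pt : ℕ → Ω}
    (M : Md g pt Tm 714 6 B1 43008) : Stage ⊤ (wds g wzpth_W) pt 714 [wzptl0, wzptl1, wzptl2, wzptl3] [] :=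
  M.stage (wzpt_low M) wzpt_c
theorem wzpt_S1 {G Ω : Type*} [Group G] [MulAction G Ω] {g : ℕ → G} {pt : ℕ → Ω}
    (M : Md g pt Tm 714 6 B1 43008) : Stage ⊤ (wds g wzpth_W) pt 714 [wzptl1, wzptl2, wzptl3] [wzptl0.Pt 0] :=
  (wzpt_S0 M).next
theorem wzpt_S2 {G Ω : Type*} [Group G] [MulAction G Ω] {g : ℕ → G} {pt : ℕ → Ω}
    (M : Md g pt Tm 714 6 B1 43008) : Stage ⊤ (wds g wzpth_W) pt 714 [wzptl2, wzptl3] [wzptl1.Pt 0, wzptl0.Pt 0] :=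
  (wzpt_S1 M).next
theorem wzpt_S3 {G Ω : Type*} [Group G] [MulAction G Ω] {g : ℕ → G} {pt : ℕ → Ω}
    (M : Md g pt Tm 714 6 B1 43008) : Stage ⊤ (wds g wzpth_W) pt 714 [wzptl3] [wzptl2.Pt 0, wzptl1.Pt 0, wzptl0.Pt 0] :=
  (wzpt_S2 M).next
theorem wzpt_S4 {G Ω : Type*} [Group G] [MulAction G Ω] {g : ℕ → G} {pt : ℕ → Ω}
    (M : Md g pt Tm 714 6 B1 43008) : Stage ⊤ (wds g wzpth_W) pt 714 [] [wzptl3.Pt 0, wzptl2.Pt 0, wzptl1.Pt 0, wzptl0.Pt 0] :=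
  (wzpt_S3 M).next
theorem wzpe_act {G Ω : Type*} [Group G] [MulAction G Ω] {g : ℕ → G} {pt : ℕ → Ω} {c : ℕ}
    (M : Md g pt Tm 714 6 B1 c) : Act (wds g wzpe_W) pt wzpe_P 714 2 :=
  M.wact wzpe_lt
theorem wzpc0_e : ∀ i < 3, (dent wzpc0 wzpe_P (nat_lit 714)) i = 0 := allZ_sound0 wzpc0_e_0
theorem wzpc0_ok : DOK wzpc0 wzpe_P 714 := ⟨wzpc0_h, wzpc0_e⟩
theorem wzptn0_1 : ∀ i < 672, (wzptn0.ent Tm wzpth_P wzpx_P wzpx_P wzpe_P (nat_lit 6) (nat_lit 3) B1 wzptl0 [wzptl1, wzptl2, wzptl3] (memO wzpc0)) i = 0 := allZ_sound0 wzptn0_1_0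
theorem wzptn0_t {G Ω : Type*} [Group G] [MulAction G Ω] {g : ℕ → G} {pt : ℕ → Ω}
    (M : Md g pt Tm 714 6 B1 43008) : TrO (gen (wds g wzpth_W) wzptl0.K) (wds g wzpx_W) (wds g wzpx_W) 3 pt 714 (wzptl0.Pt 0) (memO wzpc0) :=
  node M (wzpt_S0 M) (wzpth_act M) (wzpx_act M) (wzpx_act M) wzptn0 ((wzpe_act M).mono (by decide)) (fun _ _ => trivial) wzptn0_0 wzptn0_1 (List.forall_mem_nil _)
theorem wzp {G Ω : Type*} [Group G] [MulAction G Ω] {g : ℕ → G} {pt : ℕ → Ω}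
    (M : Md g pt Tm 714 6 B1 43008) : Cen ⊤ (wds g wzpx_W) 3 (wds g wzpe_W) pt 714 [wzpc0] :=
  (wzpt_S0 M).top ▸ Cen.lev M (wzpt_S0 M) (Cen.triv (wzpt_S1 M) (Cen.triv (wzpt_S2 M) (Cen.triv (wzpt_S3 M) (Cen.bot) (forced (wzpt_S3 M) (wzpth_act M) (wzpx_act M) _ _ wzp_f3)) (forced (wzpt_S2 M) (wzpth_act M) (wzpx_act M) _ _ wzp_f2)) (forced (wzpt_S1 M) (wzpth_act M) (wzpx_act M) _ _ wzp_f1)) (wzptn0_t M) (wzpx_act M) (wzpe_act M) (fun _ _ => trivial) wzpc0_ok wzp_f0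
theorem wzp_eq {G Ω : Type*} [Group G] [MulAction G Ω] {g : ℕ → G} {pt : ℕ → Ω}
    (M : Md g pt Tm 714 6 B1 43008) : Subgroup.centralizer (gen (wds g wzpx_W) 3) = gen (wds g wzpe_W) 2 ∧ Nat.card (gen (wds g wzpe_W) 2) = 4 :=
  wzp_c.1 ▸ wzp_c.2 ▸ ⟨(wzp M).cent, (wzp M).card M.inj⟩
theorem en7a : ∀ k < 2, ∀ i < 4, (tupEnt wzpe_P en7T en7N (nat_lit 714) (nat_lit 4) (nat_lit 4)) k i = 0 := allZ2_sound en7a_a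
theorem en7b : ∀ i < 4, (enEnt wzpe_P en7T en7W (nat_lit 4)) i = 0 := allZ_sound0 en7b_0
theorem cl8 : ∀ i < 4, (clEnt wzpe_P (wdsP Tm wW) 55 56 B1 cl8L en7W) i = 0 := allZ_sound0 cl8_0
theorem cl8g {G Ω : Type*} [Group G] [MulAction G Ω] {pt : ℕ → Ω} {w : ℕ → G} (S : Bm G pt 714 B1) (hw : Act w pt (wdsP Tm wW) 714 56) {x : ℕ → G}
    (e : En x 2 en7W 4) (hx : Act x pt wzpe_P 714 2) : ∀ v ∈ gen x 2,
    v = 1 ∨ v = w 0 ∨ v = w 1 ∨ v = w 0 * w 1 := S.cls e hx hw en7c.2.1 cl8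
theorem bzpx_act {G Ω : Type*} [Group G] [MulAction G Ω] {g : ℕ → G} {pt : ℕ → Ω} {c : ℕ}
    (M : Md g pt Tm 714 6 B1 c) : Act (wds g bzpx_W) pt bzpx_P 714 4 :=
  M.wact bzpx_lt
theorem bzpth_act {G Ω : Type*} [Group G] [MulAction G Ω] {g : ℕ → G} {pt : ℕ → Ω} {c : ℕ}
    (M : Md g pt Tm 714 6 B1 c) : Act (wds g bzpth_W) pt bzpth_P 714 16 :=
  M.wact bzpth_lt
theorem bzptl0_e : ∀ i < 41, (dent bzptl0 bzpth_P (nat_lit 714)) i = 0 := allZ_sound0 bzptl0_e_0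
theorem bzptl0_ok : DOK bzptl0 bzpth_P 714 := ⟨bzptl0_h, bzptl0_e⟩
theorem bzptl1_e : ∀ i < 7, (dent bzptl1 bzpth_P (nat_lit 714)) i = 0 := allZ_sound0 bzptl1_e_0
theorem bzptl1_ok : DOK bzptl1 bzpth_P 714 := ⟨bzptl1_h, bzptl1_e⟩
theorem bzptl2_e : ∀ i < 3, (dent bzptl2 bzpth_P (nat_lit 714)) i = 0 := allZ_sound0 bzptl2_e_0
theorem bzptl2_ok : DOK bzptl2 bzpth_P 714 := ⟨bzptl2_h, bzptl2_e⟩
theorem bzptl3_e : ∀ i < 3, (dent bzptl3 bzpth_P (nat_lit 714)) i = 0 := allZ_sound0 bzptl3_e_0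
theorem bzptl3_ok : DOK bzptl3 bzpth_P 714 := ⟨bzptl3_h, bzptl3_e⟩
theorem bzptl4_e : ∀ i < 1, (dent bzptl4 bzpth_P (nat_lit 714)) i = 0 := allZ_sound0 bzptl4_e_0
theorem bzptl4_ok : DOK bzptl4 bzpth_P 714 := ⟨bzptl4_h, bzptl4_e⟩
theorem bzptl5_e : ∀ i < 3, (dent bzptl5 bzpth_P (nat_lit 714)) i = 0 := allZ_sound0 bzptl5_e_0
theorem bzptl5_ok : DOK bzptl5 bzpth_P 714 := ⟨bzptl5_h, bzptl5_e⟩
theorem bzpt_low {G Ω : Type*} [Group G] [MulAction G Ω] {g : ℕ → G} {pt : ℕ → Ω} {c : ℕ}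
    (M : Md g pt Tm 714 6 B1 c) : SLow (gi (wds g bzpth_W)) pt 714 [bzptl0, bzptl1, bzptl2, bzptl3, bzptl4, bzptl5] :=
  ((((((SLow.nil).cons bzptl5_ok (bzpth_act M) bzpt_f5).cons bzptl4_ok (bzpth_act M) bzpt_f4).cons bzptl3_ok (bzpth_act M) bzpt_f3).cons bzptl2_ok (bzpth_act M) bzpt_f2).cons bzptl1_ok (bzpth_act M) bzpt_f1).cons bzptl0_ok (bzpth_act M) bzpt_f0
theorem bzpt_S0 {G Ω : Type*} [Group G] [MulAction G Ω] {g : ℕ → G} {pt : ℕ → Ω}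
    (M : Md g pt Tm 714 6 B1 43008) : Stage ⊤ (wds g bzpth_W) pt 714 [bzptl0, bzptl1, bzptl2, bzptl3, bzptl4, bzptl5] [] :=
  M.stage (bzpt_low M) bzpt_c
theorem bzpt_S1 {G Ω : Type*} [Group G] [MulAction G Ω] {g : ℕ → G} {pt : ℕ → Ω}
    (M : Md g pt Tm 714 6 B1 43008) : Stage ⊤ (wds g bzpth_W) pt 714 [bzptl1, bzptl2, bzptl3, bzptl4, bzptl5] [bzptl0.Pt 0] :=
  (bzpt_S0 M).next
theorem bzpt_S2 {G Ω : Type*} [Group G] [MulAction G Ω] {g : ℕ → G} {pt : ℕ → Ω}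
    (M : Md g pt Tm 714 6 B1 43008) : Stage ⊤ (wds g bzpth_W) pt 714 [bzptl2, bzptl3, bzptl4, bzptl5] [bzptl1.Pt 0, bzptl0.Pt 0] :=
  (bzpt_S1 M).next
theorem bzpt_S3 {G Ω : Type*} [Group G] [MulAction G Ω] {g : ℕ → G} {pt : ℕ → Ω}
    (M : Md g pt Tm 714 6 B1 43008) : Stage ⊤ (wds g bzpth_W) pt 714 [bzptl3, bzptl4, bzptl5] [bzptl2.Pt 0, bzptl1.Pt 0, bzptl0.Pt 0] :=
  (bzpt_S2 M).next
theorem bzpt_S4 {G Ω : Type*} [Group G] [MulAction G Ω] {g : ℕ → G} {pt : ℕ → Ω}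
    (M : Md g pt Tm 714 6 B1 43008) : Stage ⊤ (wds g bzpth_W) pt 714 [bzptl4, bzptl5] [bzptl3.Pt 0, bzptl2.Pt 0, bzptl1.Pt 0, bzptl0.Pt 0] :=
  (bzpt_S3 M).next
theorem bzpt_S5 {G Ω : Type*} [Group G] [MulAction G Ω] {g : ℕ → G} {pt : ℕ → Ω}
    (M : Md g pt Tm 714 6 B1 43008) : Stage ⊤ (wds g bzpth_W) pt 714 [bzptl5] [bzptl4.Pt 0, bzptl3.Pt 0, bzptl2.Pt 0, bzptl1.Pt 0, bzptl0.Pt 0] :=
  (bzpt_S4 M).next
theorem bzpt_S6 {G Ω : Type*} [Group G] [MulAction G Ω] {g : ℕ → G} {pt : ℕ → Ω}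
    (M : Md g pt Tm 714 6 B1 43008) : Stage ⊤ (wds g bzpth_W) pt 714 [] [bzptl5.Pt 0, bzptl4.Pt 0, bzptl3.Pt 0, bzptl2.Pt 0, bzptl1.Pt 0, bzptl0.Pt 0] :=
  (bzpt_S5 M).next
theorem bzpe_act {G Ω : Type*} [Group G] [MulAction G Ω] {g : ℕ → G} {pt : ℕ → Ω} {c : ℕ}
    (M : Md g pt Tm 714 6 B1 c) : Act (wds g bzpe_W) pt bzpe_P 714 3 :=
  M.wact bzpe_lt
theorem bzpc5_e : ∀ i < 1, (dent bzpc5 bzpe_P (nat_lit 714)) i = 0 := allZ_sound0 bzpc5_e_0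
theorem bzpc5_ok : DOK bzpc5 bzpe_P 714 := ⟨bzpc5_h, bzpc5_e⟩
theorem bzptn0_1 : ∀ i < 4, (bzptn0.ent Tm bzpth_P bzpx_P bzpx_P bzpe_P (nat_lit 6) (nat_lit 4) B1 bzptl5 [] (memO bzpc5)) i = 0 := allZ_sound0 bzptn0_1_0
theorem bzptn0_t {G Ω : Type*} [Group G] [MulAction G Ω] {g : ℕ → G} {pt : ℕ → Ω}
    (M : Md g pt Tm 714 6 B1 43008) : TrO (gen (wds g bzpth_W) bzptl5.K) (wds g bzpx_W) (wds g bzpx_W) 4 pt 714 (bzptl5.Pt 0) (memO bzpc5) :=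
  node M (bzpt_S5 M) (bzpth_act M) (bzpx_act M) (bzpx_act M) bzptn0 ((bzpe_act M).mono (by decide)) (fun _ _ => trivial) bzptn0_0 bzptn0_1 (List.forall_mem_nil _)
theorem bzpc0_e : ∀ i < 3, (dent bzpc0 bzpe_P (nat_lit 714)) i = 0 := allZ_sound0 bzpc0_e_0
theorem bzpc0_ok : DOK bzpc0 bzpe_P 714 := ⟨bzpc0_h, bzpc0_e⟩
theorem bzptn1_1 : ∀ i < 42, (bzptn1.ent Tm bzpth_P bzpx_P bzpx_P bzpe_P (nat_lit 6) (nat_lit 4) B1 bzptl0 [bzptl1, bzptl2, bzptl3, bzptl4, bzptl5] (memO bzpc0)) i = 0 := allZ_sound0 bzptn1_1_0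
theorem bzptn1_t {G Ω : Type*} [Group G] [MulAction G Ω] {g : ℕ → G} {pt : ℕ → Ω}
    (M : Md g pt Tm 714 6 B1 43008) : TrO (gen (wds g bzpth_W) bzptl0.K) (wds g bzpx_W) (wds g bzpx_W) 4 pt 714 (bzptl0.Pt 0) (memO bzpc0) :=
  node M (bzpt_S0 M) (bzpth_act M) (bzpx_act M) (bzpx_act M) bzptn1 ((bzpe_act M).mono (by decide)) (fun _ _ => trivial) bzptn1_0 bzptn1_1 (List.forall_mem_nil _)
theorem bzp {G Ω : Type*} [Group G] [MulAction G Ω] {g : ℕ → G} {pt : ℕ → Ω}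
    (M : Md g pt Tm 714 6 B1 43008) : Cen ⊤ (wds g bzpx_W) 4 (wds g bzpe_W) pt 714 [bzpc0, bzpc5] :=
  (bzpt_S0 M).top ▸ Cen.lev M (bzpt_S0 M) (Cen.triv (bzpt_S1 M) (Cen.triv (bzpt_S2 M) (Cen.triv (bzpt_S3 M) (Cen.triv (bzpt_S4 M) (Cen.lev M (bzpt_S5 M) (Cen.bot) (bzptn0_t M) (bzpx_act M) (bzpe_act M) (fun _ _ => trivial) bzpc5_ok bzp_f5) (forced (bzpt_S4 M) (bzpth_act M) (bzpx_act M) _ _ bzp_f4)) (forced (bzpt_S3 M) (bzpth_act M) (bzpx_act M) _ _ bzp_f3)) (forced (bzpt_S2 M) (bzpth_act M) (bzpx_act M) _ _ bzp_f2)) (forced (bzpt_S1 M) (bzpth_act M) (bzpx_act M) _ _ bzp_f1)) (bzptn1_t M) (bzpx_act M) (bzpe_act M) (fun _ _ => trivial) bzpc0_ok bzp_f0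
theorem bzp_eq {G Ω : Type*} [Group G] [MulAction G Ω] {g : ℕ → G} {pt : ℕ → Ω}
    (M : Md g pt Tm 714 6 B1 43008) : Subgroup.centralizer (gen (wds g bzpx_W) 4) = gen (wds g bzpe_W) 3 ∧ Nat.card (gen (wds g bzpe_W) 3) = 8 :=
  bzp_c.1 ▸ bzp_c.2 ▸ ⟨(bzp M).cent, (bzp M).card M.inj⟩
theorem en10a : ∀ k < 3, ∀ i < 8, (tupEnt bzpe_P en10T en10N (nat_lit 714) (nat_lit 8) (nat_lit 4)) k i = 0 := allZ2_sound en10a_a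
theorem en10b : ∀ i < 8, (enEnt bzpe_P en10T en10W (nat_lit 4)) i = 0 := allZ_sound0 en10b_0
theorem cl11 : ∀ i < 8, (clEnt (wdsP (wdsP P mW) bzpe_W) (catP (wdsP P wG) 55 (wdsP P uW)) 101 (55 + 47) B cl11L en10W) i = 0 := allZ_sound0 cl11_0
theorem cl11g {G Ω : Type*} [Group G] [MulAction G Ω] {pt : ℕ → Ω} {w u : ℕ → G} (S : Bm G pt 2058 B) (hw : Act (cat w 55 u) pt (catP (wdsP P wG) 55 (wdsP P uW)) 2058 (55 + 47)) {x : ℕ → G}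
    (e : En x 3 en10W 8) (hx : Act x pt (wdsP (wdsP P mW) bzpe_W) 2058 3) : ∀ v ∈ gen x 3,
    u 2 * v ≠ v * w 7 * w 1 * u 2 := S.cls e hx hw en10c.2.1 cl11
theorem wwx_act {G Ω : Type*} [Group G] [MulAction G Ω] {g : ℕ → G} {pt : ℕ → Ω} {c : ℕ}
    (M : Md g pt Tm 714 6 B1 c) : Act (wds g wwx_W) pt wwx_P 714 3 :=
  M.wact wwx_lt
theorem wwth_act {G Ω : Type*} [Group G] [MulAction G Ω] {g : ℕ → G} {pt : ℕ → Ω} {c : ℕ}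
    (M : Md g pt Tm 714 6 B1 c) : Act (wds g wwth_W) pt wwth_P 714 11 :=
  M.wact wwth_lt
theorem wwtl0_e : ∀ i < 671, (dent wwtl0 wwth_P (nat_lit 714)) i = 0 := allZ_sound0 wwtl0_e_0
theorem wwtl0_ok : DOK wwtl0 wwth_P 714 := ⟨wwtl0_h, wwtl0_e⟩
theorem wwtl1_e : ∀ i < 7, (dent wwtl1 wwth_P (nat_lit 714)) i = 0 := allZ_sound0 wwtl1_e_0
theorem wwtl1_ok : DOK wwtl1 wwth_P 714 := ⟨wwtl1_h, wwtl1_e⟩
theorem wwtl2_e : ∀ i < 7, (dent wwtl2 wwth_P (nat_lit 714)) i = 0 := allZ_sound0 wwtl2_e_0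
theorem wwtl2_ok : DOK wwtl2 wwth_P 714 := ⟨wwtl2_h, wwtl2_e⟩
theorem wwt_low {G Ω : Type*} [Group G] [MulAction G Ω] {g : ℕ → G} {pt : ℕ → Ω} {c : ℕ}
    (M : Md g pt Tm 714 6 B1 c) : SLow (gi (wds g wwth_W)) pt 714 [wwtl0, wwtl1, wwtl2] :=
  (((SLow.nil).cons wwtl2_ok (wwth_act M) wwt_f2).cons wwtl1_ok (wwth_act M) wwt_f1).cons wwtl0_ok (wwth_act M) wwt_f0
theorem wwt_S0 {G Ω : Type*} [Group G] [MulAction G Ω] {g : ℕ → G} {pt : ℕ → Ω}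
    (M : Md g pt Tm 714 6 B1 43008) : Stage ⊤ (wds g wwth_W) pt 714 [wwtl0, wwtl1, wwtl2] [] :=
  M.stage (wwt_low M) wwt_c
theorem wwt_S1 {G Ω : Type*} [Group G] [MulAction G Ω] {g : ℕ → G} {pt : ℕ → Ω}
    (M : Md g pt Tm 714 6 B1 43008) : Stage ⊤ (wds g wwth_W) pt 714 [wwtl1, wwtl2] [wwtl0.Pt 0] :=
  (wwt_S0 M).next
theorem wwt_S2 {G Ω : Type*} [Group G] [MulAction G Ω] {g : ℕ → G} {pt : ℕ → Ω}
    (M : Md g pt Tm 714 6 B1 43008) : Stage ⊤ (wds g wwth_W) pt 714 [wwtl2] [wwtl1.Pt 0, wwtl0.Pt 0] :=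
  (wwt_S1 M).next
theorem wwt_S3 {G Ω : Type*} [Group G] [MulAction G Ω] {g : ℕ → G} {pt : ℕ → Ω}
    (M : Md g pt Tm 714 6 B1 43008) : Stage ⊤ (wds g wwth_W) pt 714 [] [wwtl2.Pt 0, wwtl1.Pt 0, wwtl0.Pt 0] :=
  (wwt_S2 M).next
theorem wwe_act {G Ω : Type*} [Group G] [MulAction G Ω] {g : ℕ → G} {pt : ℕ → Ω} {c : ℕ}
    (M : Md g pt Tm 714 6 B1 c) : Act (wds g wwe_W) pt wwe_P 714 2 :=
  M.wact wwe_lt
theorem wwc0_e : ∀ i < 3, (dent wwc0 wwe_P (nat_lit 714)) i = 0 := allZ_sound0 wwc0_e_0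
theorem wwc0_ok : DOK wwc0 wwe_P 714 := ⟨wwc0_h, wwc0_e⟩
theorem wwtn0_1 : ∀ i < 672, (wwtn0.ent Tm wwth_P wwx_P wwx_P wwe_P (nat_lit 6) (nat_lit 3) B1 wwtl0 [wwtl1, wwtl2] (memO wwc0)) i = 0 := allZ_sound0 wwtn0_1_0
theorem wwtn0_t {G Ω : Type*} [Group G] [MulAction G Ω] {g : ℕ → G} {pt : ℕ → Ω}
    (M : Md g pt Tm 714 6 B1 43008) : TrO (gen (wds g wwth_W) wwtl0.K) (wds g wwx_W) (wds g wwx_W) 3 pt 714 (wwtl0.Pt 0) (memO wwc0) :=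
  node M (wwt_S0 M) (wwth_act M) (wwx_act M) (wwx_act M) wwtn0 ((wwe_act M).mono (by decide)) (fun _ _ => trivial) wwtn0_0 wwtn0_1 (List.forall_mem_nil _)
theorem ww {G Ω : Type*} [Group G] [MulAction G Ω] {g : ℕ → G} {pt : ℕ → Ω}
    (M : Md g pt Tm 714 6 B1 43008) : Cen ⊤ (wds g wwx_W) 3 (wds g wwe_W) pt 714 [wwc0] :=
  (wwt_S0 M).top ▸ Cen.lev M (wwt_S0 M) (Cen.triv (wwt_S1 M) (Cen.triv (wwt_S2 M) (Cen.bot) (forced (wwt_S2 M) (wwth_act M) (wwx_act M) _ _ ww_f2)) (forced (wwt_S1 M) (wwth_act M) (wwx_act M) _ _ ww_f1)) (wwtn0_t M) (wwx_act M) (wwe_act M) (fun _ _ => trivial) wwc0_ok ww_f0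
theorem ww_eq {G Ω : Type*} [Group G] [MulAction G Ω] {g : ℕ → G} {pt : ℕ → Ω}
    (M : Md g pt Tm 714 6 B1 43008) : Subgroup.centralizer (gen (wds g wwx_W) 3) = gen (wds g wwe_W) 2 ∧ Nat.card (gen (wds g wwe_W) 2) = 4 :=
  ww_c.1 ▸ ww_c.2 ▸ ⟨(ww M).cent, (ww M).card M.inj⟩
theorem en13a : ∀ k < 2, ∀ i < 4, (tupEnt wwe_P en13T en13N (nat_lit 714) (nat_lit 4) (nat_lit 4)) k i = 0 := allZ2_sound en13a_a
theorem en13b : ∀ i < 4, (enEnt wwe_P en13T en13W (nat_lit 4)) i = 0 := allZ_sound0 en13b_0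
theorem cl14 : ∀ i < 4, (clEnt wwe_P (wdsP Tm wW) 55 56 B1 cl14L en13W) i = 0 := allZ_sound0 cl14_0
theorem cl14g {G Ω : Type*} [Group G] [MulAction G Ω] {pt : ℕ → Ω} {w : ℕ → G} (S : Bm G pt 714 B1) (hw : Act w pt (wdsP Tm wW) 714 56) {x : ℕ → G}
    (e : En x 2 en13W 4) (hx : Act x pt wwe_P 714 2) : ∀ v ∈ gen x 2,
    v = 1 ∨ v = w 0 ∨ v = w 2 ∨ v = w 0 * w 2 := S.cls e hx hw en13c.2.1 cl14
theorem bwx_act {G Ω : Type*} [Group G] [MulAction G Ω] {g : ℕ → G} {pt : ℕ → Ω} {c : ℕ}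
    (M : Md g pt Tm 714 6 B1 c) : Act (wds g bwx_W) pt bwx_P 714 4 :=
  M.wact bwx_lt
theorem bwth_act {G Ω : Type*} [Group G] [MulAction G Ω] {g : ℕ → G} {pt : ℕ → Ω} {c : ℕ}
    (M : Md g pt Tm 714 6 B1 c) : Act (wds g bwth_W) pt bwth_P 714 14 :=
  M.wact bwth_lt
theorem bwtl0_e : ∀ i < 41, (dent bwtl0 bwth_P (nat_lit 714)) i = 0 := allZ_sound0 bwtl0_e_0
theorem bwtl0_ok : DOK bwtl0 bwth_P 714 := ⟨bwtl0_h, bwtl0_e⟩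
theorem bwtl1_e : ∀ i < 15, (dent bwtl1 bwth_P (nat_lit 714)) i = 0 := allZ_sound0 bwtl1_e_0
theorem bwtl1_ok : DOK bwtl1 bwth_P 714 := ⟨bwtl1_h, bwtl1_e⟩
theorem bwtl2_e : ∀ i < 3, (dent bwtl2 bwth_P (nat_lit 714)) i = 0 := allZ_sound0 bwtl2_e_0
theorem bwtl2_ok : DOK bwtl2 bwth_P 714 := ⟨bwtl2_h, bwtl2_e⟩
theorem bwtl3_e : ∀ i < 1, (dent bwtl3 bwth_P (nat_lit 714)) i = 0 := allZ_sound0 bwtl3_e_0
theorem bwtl3_ok : DOK bwtl3 bwth_P 714 := ⟨bwtl3_h, bwtl3_e⟩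
theorem bwtl4_e : ∀ i < 1, (dent bwtl4 bwth_P (nat_lit 714)) i = 0 := allZ_sound0 bwtl4_e_0
theorem bwtl4_ok : DOK bwtl4 bwth_P 714 := ⟨bwtl4_h, bwtl4_e⟩
theorem bwtl5_e : ∀ i < 3, (dent bwtl5 bwth_P (nat_lit 714)) i = 0 := allZ_sound0 bwtl5_e_0
theorem bwtl5_ok : DOK bwtl5 bwth_P 714 := ⟨bwtl5_h, bwtl5_e⟩
theorem bwt_low {G Ω : Type*} [Group G] [MulAction G Ω] {g : ℕ → G} {pt : ℕ → Ω} {c : ℕ}
    (M : Md g pt Tm 714 6 B1 c) : SLow (gi (wds g bwth_W)) pt 714 [bwtl0, bwtl1, bwtl2, bwtl3, bwtl4, bwtl5] :=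
  ((((((SLow.nil).cons bwtl5_ok (bwth_act M) bwt_f5).cons bwtl4_ok (bwth_act M) bwt_f4).cons bwtl3_ok (bwth_act M) bwt_f3).cons bwtl2_ok (bwth_act M) bwt_f2).cons bwtl1_ok (bwth_act M) bwt_f1).cons bwtl0_ok (bwth_act M) bwt_f0
theorem bwt_S0 {G Ω : Type*} [Group G] [MulAction G Ω] {g : ℕ → G} {pt : ℕ → Ω}
    (M : Md g pt Tm 714 6 B1 43008) : Stage ⊤ (wds g bwth_W) pt 714 [bwtl0, bwtl1, bwtl2, bwtl3, bwtl4, bwtl5] [] :=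
  M.stage (bwt_low M) bwt_c
theorem bwt_S1 {G Ω : Type*} [Group G] [MulAction G Ω] {g : ℕ → G} {pt : ℕ → Ω}
    (M : Md g pt Tm 714 6 B1 43008) : Stage ⊤ (wds g bwth_W) pt 714 [bwtl1, bwtl2, bwtl3, bwtl4, bwtl5] [bwtl0.Pt 0] :=
  (bwt_S0 M).next
theorem bwt_S2 {G Ω : Type*} [Group G] [MulAction G Ω] {g : ℕ → G} {pt : ℕ → Ω}
    (M : Md g pt Tm 714 6 B1 43008) : Stage ⊤ (wds g bwth_W) pt 714 [bwtl2, bwtl3, bwtl4, bwtl5] [bwtl1.Pt 0, bwtl0.Pt 0] :=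
  (bwt_S1 M).next
theorem bwt_S3 {G Ω : Type*} [Group G] [MulAction G Ω] {g : ℕ → G} {pt : ℕ → Ω}
    (M : Md g pt Tm 714 6 B1 43008) : Stage ⊤ (wds g bwth_W) pt 714 [bwtl3, bwtl4, bwtl5] [bwtl2.Pt 0, bwtl1.Pt 0, bwtl0.Pt 0] :=
  (bwt_S2 M).next
theorem bwt_S4 {G Ω : Type*} [Group G] [MulAction G Ω] {g : ℕ → G} {pt : ℕ → Ω}
    (M : Md g pt Tm 714 6 B1 43008) : Stage ⊤ (wds g bwth_W) pt 714 [bwtl4, bwtl5] [bwtl3.Pt 0, bwtl2.Pt 0, bwtl1.Pt 0, bwtl0.Pt 0] :=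
  (bwt_S3 M).next
theorem bwt_S5 {G Ω : Type*} [Group G] [MulAction G Ω] {g : ℕ → G} {pt : ℕ → Ω}
    (M : Md g pt Tm 714 6 B1 43008) : Stage ⊤ (wds g bwth_W) pt 714 [bwtl5] [bwtl4.Pt 0, bwtl3.Pt 0, bwtl2.Pt 0, bwtl1.Pt 0, bwtl0.Pt 0] :=
  (bwt_S4 M).next
theorem bwt_S6 {G Ω : Type*} [Group G] [MulAction G Ω] {g : ℕ → G} {pt : ℕ → Ω}
    (M : Md g pt Tm 714 6 B1 43008) : Stage ⊤ (wds g bwth_W) pt 714 [] [bwtl5.Pt 0, bwtl4.Pt 0, bwtl3.Pt 0, bwtl2.Pt 0, bwtl1.Pt 0, bwtl0.Pt 0] :=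
  (bwt_S5 M).next
theorem bwe_act {G Ω : Type*} [Group G] [MulAction G Ω] {g : ℕ → G} {pt : ℕ → Ω} {c : ℕ}
    (M : Md g pt Tm 714 6 B1 c) : Act (wds g bwe_W) pt bwe_P 714 3 :=
  M.wact bwe_lt
theorem bwc5_e : ∀ i < 1, (dent bwc5 bwe_P (nat_lit 714)) i = 0 := allZ_sound0 bwc5_e_0
theorem bwc5_ok : DOK bwc5 bwe_P 714 := ⟨bwc5_h, bwc5_e⟩
theorem bwtn0_1 : ∀ i < 4, (bwtn0.ent Tm bwth_P bwx_P bwx_P bwe_P (nat_lit 6) (nat_lit 4) B1 bwtl5 [] (memO bwc5)) i = 0 := allZ_sound0 bwtn0_1_0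
theorem bwtn0_t {G Ω : Type*} [Group G] [MulAction G Ω] {g : ℕ → G} {pt : ℕ → Ω}
    (M : Md g pt Tm 714 6 B1 43008) : TrO (gen (wds g bwth_W) bwtl5.K) (wds g bwx_W) (wds g bwx_W) 4 pt 714 (bwtl5.Pt 0) (memO bwc5) :=
  node M (bwt_S5 M) (bwth_act M) (bwx_act M) (bwx_act M) bwtn0 ((bwe_act M).mono (by decide)) (fun _ _ => trivial) bwtn0_0 bwtn0_1 (List.forall_mem_nil _)
theorem bwc0_e : ∀ i < 3, (dent bwc0 bwe_P (nat_lit 714)) i = 0 := allZ_sound0 bwc0_e_0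
theorem bwc0_ok : DOK bwc0 bwe_P 714 := ⟨bwc0_h, bwc0_e⟩
theorem bwtn1_1 : ∀ i < 42, (bwtn1.ent Tm bwth_P bwx_P bwx_P bwe_P (nat_lit 6) (nat_lit 4) B1 bwtl0 [bwtl1, bwtl2, bwtl3, bwtl4, bwtl5] (memO bwc0)) i = 0 := allZ_sound0 bwtn1_1_0
theorem bwtn1_t {G Ω : Type*} [Group G] [MulAction G Ω] {g : ℕ → G} {pt : ℕ → Ω}
    (M : Md g pt Tm 714 6 B1 43008) : TrO (gen (wds g bwth_W) bwtl0.K) (wds g bwx_W) (wds g bwx_W) 4 pt 714 (bwtl0.Pt 0) (memO bwc0) :=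
  node M (bwt_S0 M) (bwth_act M) (bwx_act M) (bwx_act M) bwtn1 ((bwe_act M).mono (by decide)) (fun _ _ => trivial) bwtn1_0 bwtn1_1 (List.forall_mem_nil _)
theorem bw {G Ω : Type*} [Group G] [MulAction G Ω] {g : ℕ → G} {pt : ℕ → Ω}
    (M : Md g pt Tm 714 6 B1 43008) : Cen ⊤ (wds g bwx_W) 4 (wds g bwe_W) pt 714 [bwc0, bwc5] :=
  (bwt_S0 M).top ▸ Cen.lev M (bwt_S0 M) (Cen.triv (bwt_S1 M) (Cen.triv (bwt_S2 M) (Cen.triv (bwt_S3 M) (Cen.triv (bwt_S4 M) (Cen.lev M (bwt_S5 M) (Cen.bot) (bwtn0_t M) (bwx_act M) (bwe_act M) (fun _ _ => trivial) bwc5_ok bw_f5) (forced (bwt_S4 M) (bwth_act M) (bwx_act M) _ _ bw_f4)) (forced (bwt_S3 M) (bwth_act M) (bwx_act M) _ _ bw_f3)) (forced (bwt_S2 M) (bwth_act M) (bwx_act M) _ _ bw_f2)) (forced (bwt_S1 M) (bwth_act M) (bwx_act M) _ _ bw_f1)) (bwtn1_t M) (bwx_act M) (bwe_act M) (fun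 _ _ => trivial) bwc0_ok bw_f0
theorem bw_eq {G Ω : Type*} [Group G] [MulAction G Ω] {g : ℕ → G} {pt : ℕ → Ω}
    (M : Md g pt Tm 714 6 B1 43008) : Subgroup.centralizer (gen (wds g bwx_W) 4) = gen (wds g bwe_W) 3 ∧ Nat.card (gen (wds g bwe_W) 3) = 8 :=
  bw_c.1 ▸ bw_c.2 ▸ ⟨(bw M).cent, (bw M).card M.inj⟩
theorem en16a : ∀ k < 3, ∀ i < 8, (tupEnt bwe_P en16T en16N (nat_lit 714) (nat_lit 8) (nat_lit 4)) k i = 0 := allZ2_sound en16a_a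
theorem en16b : ∀ i < 8, (enEnt bwe_P en16T en16W (nat_lit 4)) i = 0 := allZ_sound0 en16b_0
theorem cl17 : ∀ i < 8, (clEnt (wdsP (wdsP P mW) bwe_W) (catP (wdsP P wG) 55 (wdsP P uW)) 101 (55 + 47) B cl17L en16W) i = 0 := allZ_sound0 cl17_0
theorem cl17g {G Ω : Type*} [Group G] [MulAction G Ω] {pt : ℕ → Ω} {w u : ℕ → G} (S : Bm G pt 2058 B) (hw : Act (cat w 55 u) pt (catP (wdsP P wG) 55 (wdsP P uW)) 2058 (55 + 47)) {x : ℕ → G}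
    (e : En x 3 en16W 8) (hx : Act x pt (wdsP (wdsP P mW) bwe_W) 2058 3) : ∀ v ∈ gen x 3,
    u 5 * v ≠ v * w 8 * w 2 * u 5 := S.cls e hx hw en16c.2.1 cl17
theorem wb1x_act {G Ω : Type*} [Group G] [MulAction G Ω] {g : ℕ → G} {pt : ℕ → Ω} {c : ℕ}
    (M : Md g pt Tm 714 6 B1 c) : Act (wds g wb1x_W) pt wb1x_P 714 4 :=
  M.wact wb1x_lt
theorem wb1th_act {G Ω : Type*} [Group G] [MulAction G Ω] {g : ℕ → G} {pt : ℕ → Ω} {c : ℕ}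
    (M : Md g pt Tm 714 6 B1 c) : Act (wds g wb1th_W) pt wb1th_P 714 12 :=
  M.wact wb1th_lt
theorem wb1tl0_e : ∀ i < 671, (dent wb1tl0 wb1th_P (nat_lit 714)) i = 0 := allZ_sound0 wb1tl0_e_0
theorem wb1tl0_ok : DOK wb1tl0 wb1th_P 714 := ⟨wb1tl0_h, wb1tl0_e⟩
theorem wb1tl1_e : ∀ i < 7, (dent wb1tl1 wb1th_P (nat_lit 714)) i = 0 := allZ_sound0 wb1tl1_e_0
theorem wb1tl1_ok : DOK wb1tl1 wb1th_P 714 := ⟨wb1tl1_h, wb1tl1_e⟩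
theorem wb1tl2_e : ∀ i < 3, (dent wb1tl2 wb1th_P (nat_lit 714)) i = 0 := allZ_sound0 wb1tl2_e_0
theorem wb1tl2_ok : DOK wb1tl2 wb1th_P 714 := ⟨wb1tl2_h, wb1tl2_e⟩
theorem wb1tl3_e : ∀ i < 1, (dent wb1tl3 wb1th_P (nat_lit 714)) i = 0 := allZ_sound0 wb1tl3_e_0
theorem wb1tl3_ok : DOK wb1tl3 wb1th_P 714 := ⟨wb1tl3_h, wb1tl3_e⟩
theorem wb1t_low {G Ω : Type*} [Group G] [MulAction G Ω] {g : ℕ → G} {pt : ℕ → Ω} {c : ℕ}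
    (M : Md g pt Tm 714 6 B1 c) : SLow (gi (wds g wb1th_W)) pt 714 [wb1tl0, wb1tl1, wb1tl2, wb1tl3] :=
  ((((SLow.nil).cons wb1tl3_ok (wb1th_act M) wb1t_f3).cons wb1tl2_ok (wb1th_act M) wb1t_f2).cons wb1tl1_ok (wb1th_act M) wb1t_f1).cons wb1tl0_ok (wb1th_act M) wb1t_f0
theorem wb1t_S0 {G Ω : Type*} [Group G] [MulAction G Ω] {g : ℕ → G} {pt : ℕ → Ω}
    (M : Md g pt Tm 714 6 B1 43008) : Stage ⊤ (wds g wb1th_W) pt 714 [wb1tl0, wb1tl1, wb1tl2, wb1tl3] [] :=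
  M.stage (wb1t_low M) wb1t_c
theorem wb1t_S1 {G Ω : Type*} [Group G] [MulAction G Ω] {g : ℕ → G} {pt : ℕ → Ω}
    (M : Md g pt Tm 714 6 B1 43008) : Stage ⊤ (wds g wb1th_W) pt 714 [wb1tl1, wb1tl2, wb1tl3] [wb1tl0.Pt 0] :=
  (wb1t_S0 M).next
theorem wb1t_S2 {G Ω : Type*} [Group G] [MulAction G Ω] {g : ℕ → G} {pt : ℕ → Ω}
    (M : Md g pt Tm 714 6 B1 43008) : Stage ⊤ (wds g wb1th_W) pt 714 [wb1tl2, wb1tl3] [wb1tl1.Pt 0, wb1tl0.Pt 0] :=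
  (wb1t_S1 M).next
theorem wb1t_S3 {G Ω : Type*} [Group G] [MulAction G Ω] {g : ℕ → G} {pt : ℕ → Ω}
    (M : Md g pt Tm 714 6 B1 43008) : Stage ⊤ (wds g wb1th_W) pt 714 [wb1tl3] [wb1tl2.Pt 0, wb1tl1.Pt 0, wb1tl0.Pt 0] :=
  (wb1t_S2 M).next
theorem wb1t_S4 {G Ω : Type*} [Group G] [MulAction G Ω] {g : ℕ → G} {pt : ℕ → Ω}
    (M : Md g pt Tm 714 6 B1 43008) : Stage ⊤ (wds g wb1th_W) pt 714 [] [wb1tl3.Pt 0, wb1tl2.Pt 0, wb1tl1.Pt 0, wb1tl0.Pt 0] :=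
  (wb1t_S3 M).next
theorem wb1e_act {G Ω : Type*} [Group G] [MulAction G Ω] {g : ℕ → G} {pt : ℕ → Ω} {c : ℕ}
    (M : Md g pt Tm 714 6 B1 c) : Act (wds g wb1e_W) pt wb1e_P 714 3 :=
  M.wact wb1e_lt
theorem wb1c0_e : ∀ i < 7, (dent wb1c0 wb1e_P (nat_lit 714)) i = 0 := allZ_sound0 wb1c0_e_0
theorem wb1c0_ok : DOK wb1c0 wb1e_P 714 := ⟨wb1c0_h, wb1c0_e⟩
theorem wb1tn0_1 : ∀ i < 672, (wb1tn0.ent Tm wb1th_P wb1x_P wb1x_P wb1e_P (nat_lit 6) (nat_lit 4) B1 wb1tl0 [wb1tl1, wb1tl2, wb1tl3] (memO wb1c0)) i = 0 := allZ_sound0 wb1tn0_1_0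
theorem wb1tn0_t {G Ω : Type*} [Group G] [MulAction G Ω] {g : ℕ → G} {pt : ℕ → Ω}
    (M : Md g pt Tm 714 6 B1 43008) : TrO (gen (wds g wb1th_W) wb1tl0.K) (wds g wb1x_W) (wds g wb1x_W) 4 pt 714 (wb1tl0.Pt 0) (memO wb1c0) :=
  node M (wb1t_S0 M) (wb1th_act M) (wb1x_act M) (wb1x_act M) wb1tn0 ((wb1e_act M).mono (by decide)) (fun _ _ => trivial) wb1tn0_0 wb1tn0_1 (List.forall_mem_nil _)
theorem wb1 {G Ω : Type*} [Group G] [MulAction G Ω] {g : ℕ → G} {pt : ℕ → Ω}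
    (M : Md g pt Tm 714 6 B1 43008) : Cen ⊤ (wds g wb1x_W) 4 (wds g wb1e_W) pt 714 [wb1c0] :=
  (wb1t_S0 M).top ▸ Cen.lev M (wb1t_S0 M) (Cen.triv (wb1t_S1 M) (Cen.triv (wb1t_S2 M) (Cen.triv (wb1t_S3 M) (Cen.bot) (forced (wb1t_S3 M) (wb1th_act M) (wb1x_act M) _ _ wb1_f3)) (forced (wb1t_S2 M) (wb1th_act M) (wb1x_act M) _ _ wb1_f2)) (forced (wb1t_S1 M) (wb1th_act M) (wb1x_act M) _ _ wb1_f1)) (wb1tn0_t M) (wb1x_act M) (wb1e_act M) (fun _ _ => trivial) wb1c0_ok wb1_f0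
theorem wb1_eq {G Ω : Type*} [Group G] [MulAction G Ω] {g : ℕ → G} {pt : ℕ → Ω}
    (M : Md g pt Tm 714 6 B1 43008) : Subgroup.centralizer (gen (wds g wb1x_W) 4) = gen (wds g wb1e_W) 3 ∧ Nat.card (gen (wds g wb1e_W) 3) = 8 :=
  wb1_c.1 ▸ wb1_c.2 ▸ ⟨(wb1 M).cent, (wb1 M).card M.inj⟩
theorem en19a : ∀ k < 3, ∀ i < 8, (tupEnt wb1e_P en19T en19N (nat_lit 714) (nat_lit 8) (nat_lit 4)) k i = 0 := allZ2_sound en19a_a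
theorem en19b : ∀ i < 8, (enEnt wb1e_P en19T en19W (nat_lit 4)) i = 0 := allZ_sound0 en19b_0
theorem cl20 : ∀ i < 8, (clEnt wb1e_P (wdsP Tm wW) 55 56 B1 cl20L en19W) i = 0 := allZ_sound0 cl20_0
theorem cl20g {G Ω : Type*} [Group G] [MulAction G Ω] {pt : ℕ → Ω} {w : ℕ → G} (S : Bm G pt 714 B1) (hw : Act w pt (wdsP Tm wW) 714 56) {x : ℕ → G}
    (e : En x 3 en19W 8) (hx : Act x pt wb1e_P 714 3) : ∀ v ∈ gen x 3,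
    v = 1 ∨ v = w 0 ∨ v = w 9 ∨ v = w 0 * w 9 ∨ v = w 11 ∨ v = w 0 * w 11 ∨ v = w 9 * w 11 ∨ v = w 0 * w 9 * w 11 := S.cls e hx hw en19c.2.1 cl20
theorem wb2x_act {G Ω : Type*} [Group G] [MulAction G Ω] {g : ℕ → G} {pt : ℕ → Ω} {c : ℕ}
    (M : Md g pt Tm 714 6 B1 c) : Act (wds g wb2x_W) pt wb2x_P 714 4 :=
  M.wact wb2x_lt
theorem wb2th_act {G Ω : Type*} [Group G] [MulAction G Ω] {g : ℕ → G} {pt : ℕ → Ω} {c : ℕ}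
    (M : Md g pt Tm 714 6 B1 c) : Act (wds g wb2th_W) pt wb2th_P 714 14 :=
  M.wact wb2th_lt
theorem wb2tl0_e : ∀ i < 41, (dent wb2tl0 wb2th_P (nat_lit 714)) i = 0 := allZ_sound0 wb2tl0_e_0
theorem wb2tl0_ok : DOK wb2tl0 wb2th_P 714 := ⟨wb2tl0_h, wb2tl0_e⟩
theorem wb2tl1_e : ∀ i < 7, (dent wb2tl1 wb2th_P (nat_lit 714)) i = 0 := allZ_sound0 wb2tl1_e_0
theorem wb2tl1_ok : DOK wb2tl1 wb2th_P 714 := ⟨wb2tl1_h, wb2tl1_e⟩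
theorem wb2tl2_e : ∀ i < 7, (dent wb2tl2 wb2th_P (nat_lit 714)) i = 0 := allZ_sound0 wb2tl2_e_0
theorem wb2tl2_ok : DOK wb2tl2 wb2th_P 714 := ⟨wb2tl2_h, wb2tl2_e⟩
theorem wb2tl3_e : ∀ i < 1, (dent wb2tl3 wb2th_P (nat_lit 714)) i = 0 := allZ_sound0 wb2tl3_e_0
theorem wb2tl3_ok : DOK wb2tl3 wb2th_P 714 := ⟨wb2tl3_h, wb2tl3_e⟩
theorem wb2tl4_e : ∀ i < 1, (dent wb2tl4 wb2th_P (nat_lit 714)) i = 0 := allZ_sound0 wb2tl4_e_0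
theorem wb2tl4_ok : DOK wb2tl4 wb2th_P 714 := ⟨wb2tl4_h, wb2tl4_e⟩
theorem wb2tl5_e : ∀ i < 3, (dent wb2tl5 wb2th_P (nat_lit 714)) i = 0 := allZ_sound0 wb2tl5_e_0
theorem wb2tl5_ok : DOK wb2tl5 wb2th_P 714 := ⟨wb2tl5_h, wb2tl5_e⟩
theorem wb2t_low {G Ω : Type*} [Group G] [MulAction G Ω] {g : ℕ → G} {pt : ℕ → Ω} {c : ℕ}
    (M : Md g pt Tm 714 6 B1 c) : SLow (gi (wds g wb2th_W)) pt 714 [wb2tl0, wb2tl1, wb2tl2, wb2tl3, wb2tl4, wb2tl5] :=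
  ((((((SLow.nil).cons wb2tl5_ok (wb2th_act M) wb2t_f5).cons wb2tl4_ok (wb2th_act M) wb2t_f4).cons wb2tl3_ok (wb2th_act M) wb2t_f3).cons wb2tl2_ok (wb2th_act M) wb2t_f2).cons wb2tl1_ok (wb2th_act M) wb2t_f1).cons wb2tl0_ok (wb2th_act M) wb2t_f0
theorem wb2t_S0 {G Ω : Type*} [Group G] [MulAction G Ω] {g : ℕ → G} {pt : ℕ → Ω}
    (M : Md g pt Tm 714 6 B1 43008) : Stage ⊤ (wds g wb2th_W) pt 714 [wb2tl0, wb2tl1, wb2tl2, wb2tl3, wb2tl4, wb2tl5] [] :=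
  M.stage (wb2t_low M) wb2t_c
theorem wb2t_S1 {G Ω : Type*} [Group G] [MulAction G Ω] {g : ℕ → G} {pt : ℕ → Ω}
    (M : Md g pt Tm 714 6 B1 43008) : Stage ⊤ (wds g wb2th_W) pt 714 [wb2tl1, wb2tl2, wb2tl3, wb2tl4, wb2tl5] [wb2tl0.Pt 0] :=
  (wb2t_S0 M).next
theorem wb2t_S2 {G Ω : Type*} [Group G] [MulAction G Ω] {g : ℕ → G} {pt : ℕ → Ω}
    (M : Md g pt Tm 714 6 B1 43008) : Stage ⊤ (wds g wb2th_W) pt 714 [wb2tl2, wb2tl3, wb2tl4, wb2tl5] [wb2tl1.Pt 0, wb2tl0.Pt 0] :=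
  (wb2t_S1 M).next
theorem wb2t_S3 {G Ω : Type*} [Group G] [MulAction G Ω] {g : ℕ → G} {pt : ℕ → Ω}
    (M : Md g pt Tm 714 6 B1 43008) : Stage ⊤ (wds g wb2th_W) pt 714 [wb2tl3, wb2tl4, wb2tl5] [wb2tl2.Pt 0, wb2tl1.Pt 0, wb2tl0.Pt 0] :=
  (wb2t_S2 M).next
theorem wb2t_S4 {G Ω : Type*} [Group G] [MulAction G Ω] {g : ℕ → G} {pt : ℕ → Ω}
    (M : Md g pt Tm 714 6 B1 43008) : Stage ⊤ (wds g wb2th_W) pt 714 [wb2tl4, wb2tl5] [wb2tl3.Pt 0, wb2tl2.Pt 0, wb2tl1.Pt 0, wb2tl0.Pt 0] :=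
  (wb2t_S3 M).next
theorem wb2t_S5 {G Ω : Type*} [Group G] [MulAction G Ω] {g : ℕ → G} {pt : ℕ → Ω}
    (M : Md g pt Tm 714 6 B1 43008) : Stage ⊤ (wds g wb2th_W) pt 714 [wb2tl5] [wb2tl4.Pt 0, wb2tl3.Pt 0, wb2tl2.Pt 0, wb2tl1.Pt 0, wb2tl0.Pt 0] :=
  (wb2t_S4 M).next
theorem wb2t_S6 {G Ω : Type*} [Group G] [MulAction G Ω] {g : ℕ → G} {pt : ℕ → Ω}
    (M : Md g pt Tm 714 6 B1 43008) : Stage ⊤ (wds g wb2th_W) pt 714 [] [wb2tl5.Pt 0, wb2tl4.Pt 0, wb2tl3.Pt 0, wb2tl2.Pt 0, wb2tl1.Pt 0, wb2tl0.Pt 0] :=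
  (wb2t_S5 M).next
theorem wb2e_act {G Ω : Type*} [Group G] [MulAction G Ω] {g : ℕ → G} {pt : ℕ → Ω} {c : ℕ}
    (M : Md g pt Tm 714 6 B1 c) : Act (wds g wb2e_W) pt wb2e_P 714 3 :=
  M.wact wb2e_lt
theorem wb2c5_e : ∀ i < 1, (dent wb2c5 wb2e_P (nat_lit 714)) i = 0 := allZ_sound0 wb2c5_e_0
theorem wb2c5_ok : DOK wb2c5 wb2e_P 714 := ⟨wb2c5_h, wb2c5_e⟩
theorem wb2tn0_1 : ∀ i < 4, (wb2tn0.ent Tm wb2th_P wb2x_P wb2x_P wb2e_P (nat_lit 6) (nat_lit 4) B1 wb2tl5 [] (memO wb2c5)) i = 0 := allZ_sound0 wb2tn0_1_0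
theorem wb2tn0_t {G Ω : Type*} [Group G] [MulAction G Ω] {g : ℕ → G} {pt : ℕ → Ω}
    (M : Md g pt Tm 714 6 B1 43008) : TrO (gen (wds g wb2th_W) wb2tl5.K) (wds g wb2x_W) (wds g wb2x_W) 4 pt 714 (wb2tl5.Pt 0) (memO wb2c5) :=
  node M (wb2t_S5 M) (wb2th_act M) (wb2x_act M) (wb2x_act M) wb2tn0 ((wb2e_act M).mono (by decide)) (fun _ _ => trivial) wb2tn0_0 wb2tn0_1 (List.forall_mem_nil _)
theorem wb2c0_e : ∀ i < 3, (dent wb2c0 wb2e_P (nat_lit 714)) i = 0 := allZ_sound0 wb2c0_e_0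
theorem wb2c0_ok : DOK wb2c0 wb2e_P 714 := ⟨wb2c0_h, wb2c0_e⟩
theorem wb2tn1_1 : ∀ i < 42, (wb2tn1.ent Tm wb2th_P wb2x_P wb2x_P wb2e_P (nat_lit 6) (nat_lit 4) B1 wb2tl0 [wb2tl1, wb2tl2, wb2tl3, wb2tl4, wb2tl5] (memO wb2c0)) i = 0 := allZ_sound0 wb2tn1_1_0
theorem wb2tn1_t {G Ω : Type*} [Group G] [MulAction G Ω] {g : ℕ → G} {pt : ℕ → Ω}
    (M : Md g pt Tm 714 6 B1 43008) : TrO (gen (wds g wb2th_W) wb2tl0.K) (wds g wb2x_W) (wds g wb2x_W) 4 pt 714 (wb2tl0.Pt 0) (memO wb2c0) :=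
  node M (wb2t_S0 M) (wb2th_act M) (wb2x_act M) (wb2x_act M) wb2tn1 ((wb2e_act M).mono (by decide)) (fun _ _ => trivial) wb2tn1_0 wb2tn1_1 (List.forall_mem_nil _)
theorem wb2 {G Ω : Type*} [Group G] [MulAction G Ω] {g : ℕ → G} {pt : ℕ → Ω}
    (M : Md g pt Tm 714 6 B1 43008) : Cen ⊤ (wds g wb2x_W) 4 (wds g wb2e_W) pt 714 [wb2c0, wb2c5] :=
  (wb2t_S0 M).top ▸ Cen.lev M (wb2t_S0 M) (Cen.triv (wb2t_S1 M) (Cen.triv (wb2t_S2 M) (Cen.triv (wb2t_S3 M) (Cen.triv (wb2t_S4 M) (Cen.lev M (wb2t_S5 M) (Cen.bot) (wb2tn0_t M) (wb2x_act M) (wb2e_act M) (fun _ _ => trivial) wb2c5_ok wb2_f5) (forced (wb2t_S4 M) (wb2th_act M) (wb2x_act M) _ _ wb2_f4)) (forced (wb2t_S3 M) (wb2th_act M) (wb2x_act M) _ _ wb2_f3)) (forced (wb2t_S2 M) (wb2th_act M) (wb2x_act M) _ _ wb2_f2)) (forced (wb2t_S1 M) (wb2th_act M) (wb2x_act M) _ _ wb2_f1))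 (wb2tn1_t M) (wb2x_act M) (wb2e_act M) (fun _ _ => trivial) wb2c0_ok wb2_f0
theorem wb2_eq {G Ω : Type*} [Group G] [MulAction G Ω] {g : ℕ → G} {pt : ℕ → Ω}
    (M : Md g pt Tm 714 6 B1 43008) : Subgroup.centralizer (gen (wds g wb2x_W) 4) = gen (wds g wb2e_W) 3 ∧ Nat.card (gen (wds g wb2e_W) 3) = 8 :=
  wb2_c.1 ▸ wb2_c.2 ▸ ⟨(wb2 M).cent, (wb2 M).card M.inj⟩
theorem en26a : ∀ k < 3, ∀ i < 8, (tupEnt wb2e_P en26T en26N (nat_lit 714) (nat_lit 8) (nat_lit 4)) k i = 0 := allZ2_sound en26a_a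
theorem en26b : ∀ i < 8, (enEnt wb2e_P en26T en26W (nat_lit 4)) i = 0 := allZ_sound0 en26b_0
theorem cl27 : ∀ i < 8, (clEnt wb2e_P (wdsP Tm wW) 55 56 B1 cl27L en26W) i = 0 := allZ_sound0 cl27_0
theorem cl27g {G Ω : Type*} [Group G] [MulAction G Ω] {pt : ℕ → Ω} {w : ℕ → G} (S : Bm G pt 714 B1) (hw : Act w pt (wdsP Tm wW) 714 56) {x : ℕ → G}
    (e : En x 3 en26W 8) (hx : Act x pt wb2e_P 714 3) : ∀ v ∈ gen x 3,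
    v = 1 ∨ v = w 0 ∨ v = w 18 ∨ v = w 0 * w 18 ∨ v = w 20 ∨ v = w 0 * w 20 ∨ v = w 18 * w 20 ∨ v = w 0 * w 18 * w 20 := S.cls e hx hw en26c.2.1 cl27
theorem n3x_act {G Ω : Type*} [Group G] [MulAction G Ω] {g : ℕ → G} {pt : ℕ → Ω} {c : ℕ}
    (M : Md g pt Tm 714 6 B1 c) : Act (wds g n3x_W) pt n3x_P 714 6 :=
  M.wact n3x_lt
theorem n3th_act {G Ω : Type*} [Group G] [MulAction G Ω] {g : ℕ → G} {pt : ℕ → Ω} {c : ℕ}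
    (M : Md g pt Tm 714 6 B1 c) : Act (wds g n3th_W) pt n3th_P 714 13 :=
  M.wact n3th_lt
theorem n3tl0_e : ∀ i < 671, (dent n3tl0 n3th_P (nat_lit 714)) i = 0 := allZ_sound0 n3tl0_e_0
theorem n3tl0_ok : DOK n3tl0 n3th_P 714 := ⟨n3tl0_h, n3tl0_e⟩
theorem n3tl1_e : ∀ i < 1, (dent n3tl1 n3th_P (nat_lit 714)) i = 0 := allZ_sound0 n3tl1_e_0
theorem n3tl1_ok : DOK n3tl1 n3th_P 714 := ⟨n3tl1_h, n3tl1_e⟩
theorem n3tl2_e : ∀ i < 3, (dent n3tl2 n3th_P (nat_lit 714)) i = 0 := allZ_sound0 n3tl2_e_0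
theorem n3tl2_ok : DOK n3tl2 n3th_P 714 := ⟨n3tl2_h, n3tl2_e⟩
theorem n3tl3_e : ∀ i < 3, (dent n3tl3 n3th_P (nat_lit 714)) i = 0 := allZ_sound0 n3tl3_e_0
theorem n3tl3_ok : DOK n3tl3 n3th_P 714 := ⟨n3tl3_h, n3tl3_e⟩
theorem n3tl4_e : ∀ i < 1, (dent n3tl4 n3th_P (nat_lit 714)) i = 0 := allZ_sound0 n3tl4_e_0
theorem n3tl4_ok : DOK n3tl4 n3th_P 714 := ⟨n3tl4_h, n3tl4_e⟩
theorem n3t_low {G Ω : Type*} [Group G] [MulAction G Ω] {g : ℕ → G} {pt : ℕ → Ω} {c : ℕ}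
    (M : Md g pt Tm 714 6 B1 c) : SLow (gi (wds g n3th_W)) pt 714 [n3tl0, n3tl1, n3tl2, n3tl3, n3tl4] :=
  (((((SLow.nil).cons n3tl4_ok (n3th_act M) n3t_f4).cons n3tl3_ok (n3th_act M) n3t_f3).cons n3tl2_ok (n3th_act M) n3t_f2).cons n3tl1_ok (n3th_act M) n3t_f1).cons n3tl0_ok (n3th_act M) n3t_f0
theorem n3t_S0 {G Ω : Type*} [Group G] [MulAction G Ω] {g : ℕ → G} {pt : ℕ → Ω}
    (M : Md g pt Tm 714 6 B1 43008) : Stage ⊤ (wds g n3th_W) pt 714 [n3tl0, n3tl1, n3tl2, n3tl3, n3tl4] [] :=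
  M.stage (n3t_low M) n3t_c
theorem n3t_S1 {G Ω : Type*} [Group G] [MulAction G Ω] {g : ℕ → G} {pt : ℕ → Ω}
    (M : Md g pt Tm 714 6 B1 43008) : Stage ⊤ (wds g n3th_W) pt 714 [n3tl1, n3tl2, n3tl3, n3tl4] [n3tl0.Pt 0] :=
  (n3t_S0 M).next
theorem n3t_S2 {G Ω : Type*} [Group G] [MulAction G Ω] {g : ℕ → G} {pt : ℕ → Ω}
    (M : Md g pt Tm 714 6 B1 43008) : Stage ⊤ (wds g n3th_W) pt 714 [n3tl2, n3tl3, n3tl4] [n3tl1.Pt 0, n3tl0.Pt 0] :=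
  (n3t_S1 M).next
theorem n3t_S3 {G Ω : Type*} [Group G] [MulAction G Ω] {g : ℕ → G} {pt : ℕ → Ω}
    (M : Md g pt Tm 714 6 B1 43008) : Stage ⊤ (wds g n3th_W) pt 714 [n3tl3, n3tl4] [n3tl2.Pt 0, n3tl1.Pt 0, n3tl0.Pt 0] :=
  (n3t_S2 M).next
theorem n3t_S4 {G Ω : Type*} [Group G] [MulAction G Ω] {g : ℕ → G} {pt : ℕ → Ω}
    (M : Md g pt Tm 714 6 B1 43008) : Stage ⊤ (wds g n3th_W) pt 714 [n3tl4] [n3tl3.Pt 0, n3tl2.Pt 0, n3tl1.Pt 0, n3tl0.Pt 0] :=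
  (n3t_S3 M).next
theorem n3t_S5 {G Ω : Type*} [Group G] [MulAction G Ω] {g : ℕ → G} {pt : ℕ → Ω}
    (M : Md g pt Tm 714 6 B1 43008) : Stage ⊤ (wds g n3th_W) pt 714 [] [n3tl4.Pt 0, n3tl3.Pt 0, n3tl2.Pt 0, n3tl1.Pt 0, n3tl0.Pt 0] :=
  (n3t_S4 M).next
theorem n3e_act {G Ω : Type*} [Group G] [MulAction G Ω] {g : ℕ → G} {pt : ℕ → Ω} {c : ℕ}
    (M : Md g pt Tm 714 6 B1 c) : Act (wds g n3e_W) pt n3e_P 714 4 :=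
  M.wact n3e_lt
theorem n3c3_e : ∀ i < 3, (dent n3c3 n3e_P (nat_lit 714)) i = 0 := allZ_sound0 n3c3_e_0
theorem n3c3_ok : DOK n3c3 n3e_P 714 := ⟨n3c3_h, n3c3_e⟩
theorem n3tn0_1 : ∀ i < 4, (n3tn0.ent Tm n3th_P n3x_P n3x_P n3e_P (nat_lit 6) (nat_lit 6) B1 n3tl3 [n3tl4] (memO n3c3)) i = 0 := allZ_sound0 n3tn0_1_0
theorem n3tn0_t {G Ω : Type*} [Group G] [MulAction G Ω] {g : ℕ → G} {pt : ℕ → Ω}
    (M : Md g pt Tm 714 6 B1 43008) : TrO (gen (wds g n3th_W) n3tl3.K) (wds g n3x_W) (wds g n3x_W) 6 pt 714 (n3tl3.Pt 0) (memO n3c3) :=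
  node M (n3t_S3 M) (n3th_act M) (n3x_act M) (n3x_act M) n3tn0 ((n3e_act M).mono (by decide)) (fun _ _ => trivial) n3tn0_0 n3tn0_1 (List.forall_mem_nil _)
theorem n3c0_e : ∀ i < 3, (dent n3c0 n3e_P (nat_lit 714)) i = 0 := allZ_sound0 n3c0_e_0
theorem n3c0_ok : DOK n3c0 n3e_P 714 := ⟨n3c0_h, n3c0_e⟩
theorem n3tn1_1 : ∀ i < 672, (n3tn1.ent Tm n3th_P n3x_P n3x_P n3e_P (nat_lit 6) (nat_lit 6) B1 n3tl0 [n3tl1, n3tl2, n3tl3, n3tl4] (memO n3c0)) i = 0 := allZ_sound0 n3tn1_1_0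
theorem n3tn1_t {G Ω : Type*} [Group G] [MulAction G Ω] {g : ℕ → G} {pt : ℕ → Ω}
    (M : Md g pt Tm 714 6 B1 43008) : TrO (gen (wds g n3th_W) n3tl0.K) (wds g n3x_W) (wds g n3x_W) 6 pt 714 (n3tl0.Pt 0) (memO n3c0) :=
  node M (n3t_S0 M) (n3th_act M) (n3x_act M) (n3x_act M) n3tn1 ((n3e_act M).mono (by decide)) (fun _ _ => trivial) n3tn1_0 n3tn1_1 (List.forall_mem_nil _)
theorem n3 {G Ω : Type*} [Group G] [MulAction G Ω] {g : ℕ → G} {pt : ℕ → Ω}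
    (M : Md g pt Tm 714 6 B1 43008) : Cen ⊤ (wds g n3x_W) 6 (wds g n3e_W) pt 714 [n3c0, n3c3] :=
  (n3t_S0 M).top ▸ Cen.lev M (n3t_S0 M) (Cen.triv (n3t_S1 M) (Cen.triv (n3t_S2 M) (Cen.lev M (n3t_S3 M) (Cen.triv (n3t_S4 M) (Cen.bot) (forced (n3t_S4 M) (n3th_act M) (n3x_act M) _ _ n3_f4)) (n3tn0_t M) (n3x_act M) (n3e_act M) (fun _ _ => trivial) n3c3_ok n3_f3) (forced (n3t_S2 M) (n3th_act M) (n3x_act M) _ _ n3_f2)) (forced (n3t_S1 M) (n3th_act M) (n3x_act M) _ _ n3_f1)) (n3tn1_t M) (n3x_act M) (n3e_act M) (fun _ _ => trivial) n3c0_ok n3_f0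
theorem n3_eq {G Ω : Type*} [Group G] [MulAction G Ω] {g : ℕ → G} {pt : ℕ → Ω}
    (M : Md g pt Tm 714 6 B1 43008) : Subgroup.centralizer (gen (wds g n3x_W) 6) = gen (wds g n3e_W) 4 ∧ Nat.card (gen (wds g n3e_W) 4) = 16 :=
  n3_c.1 ▸ n3_c.2 ▸ ⟨(n3 M).cent, (n3 M).card M.inj⟩
theorem en33a : ∀ k < 4, ∀ i < 16, (tupEnt n3e_P en33T en33N (nat_lit 714) (nat_lit 16) (nat_lit 4)) k i = 0 := allZ2_sound en33a_a
theorem en33b : ∀ i < 16, (enEnt n3e_P en33T en33W (nat_lit 4)) i = 0 := allZ_sound0 en33b_0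
theorem cl34 : ∀ i < 16, (clEnt (wdsP (wdsP P mW) n3e_W) (catP (wdsP P wG) 55 (wdsP P uW)) 101 (55 + 47) B cl34L en33W) i = 0 := allZ_sound0 cl34_0
theorem cl34g {G Ω : Type*} [Group G] [MulAction G Ω] {pt : ℕ → Ω} {w u : ℕ → G} (S : Bm G pt 2058 B) (hw : Act (cat w 55 u) pt (catP (wdsP P wG) 55 (wdsP P uW)) 2058 (55 + 47)) {x : ℕ → G}
    (e : En x 4 en33W 16) (hx : Act x pt (wdsP (wdsP P mW) n3e_W) 2058 4) : ∀ v ∈ gen x 4,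
    v * v ≠ 1 ∨ u 19 * v * u 19 * w 15 ≠ w 15 * u 19 * v * u 19 ∨ v * u 19 * v * u 19 ≠ u 20 * v * u 21 ∨ v = 1 := S.cls e hx hw en33c.2.1 cl34
theorem le43 : ∀ i < 11, (leEnt (pk (catP (wdsP P wG) 55 (wdsP P uW)) [0, 84, 85]) P 3 B le43W) i = 0 := allZ_sound0 le43_0
theorem covr_act {G Ω : Type*} [Group G] [MulAction G Ω] {g : ℕ → G} {pt : ℕ → Ω} {c : ℕ}
    (M : Md g pt Tm 714 6 B1 c) : Act (wds g covr_W) pt covr_P 714 8 :=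
  M.wact covr_lt
theorem cov_0 {G Ω : Type*} [Group G] [MulAction G Ω] {g : ℕ → G} {pt : ℕ → Ω}
    (M : Md g pt Tm 714 6 B1 43008) : H0.TR.Cov (wds g t_W) (wds g covr_W) 2 8 11 (evA (wds g t_W) []) :=
  have := M.fin
  covT0.cov M (t_sm M).1 (t_sm M).2 (covr_act M) (t_pc M) _ _ cov_c0
theorem cov {G Ω : Type*} [Group G] [MulAction G Ω] {g : ℕ → G} {pt : ℕ → Ω}
    (M : Md g pt Tm 714 6 B1 43008) {y : G} {e : ℕ} (hy : y ^ 2 ^ e = 1) (hq : y ^ 2 = 1) : Good (wds g covr_W) 8 y :=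
  have := M.fin
  H0.TR.Cov.all (t_pc M) (cov_0 M) hy hq
theorem cj_act {G Ω : Type*} [Group G] [MulAction G Ω] {g : ℕ → G} {pt : ℕ → Ω}
    (M : Md g pt P 2058 12 B 8060774400) : Act (wds g cj_W) pt cj_P 2058 8 :=
  M.wact cj_lt
theorem cjk : ∀ i < 8, (cjEnt cj_P (wdsP (wdsP P mW) covr_W) (pk (catP (wdsP P wG) 55 (wdsP P uW)) [0, 3, 54, 54]) 4 B [nat_lit 1, nat_lit 0, nat_lit 1, nat_lit 0, nat_lit 0, nat_lit 0, nat_lit 2, nat_lit 2]) i = 0 := allZ_sound0 cjk_0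
theorem cfx_act {G Ω : Type*} [Group G] [MulAction G Ω] {g : ℕ → G} {pt : ℕ → Ω} {c : ℕ}
    (M : Md g pt Tm 714 6 B1 c) : Act (wds g cfx_W) pt cfx_P 714 1 :=
  M.wact cfx_lt
theorem cfth_act {G Ω : Type*} [Group G] [MulAction G Ω] {g : ℕ → G} {pt : ℕ → Ω} {c : ℕ}
    (M : Md g pt Tm 714 6 B1 c) : Act (wds g cfth_W) pt cfth_P 714 12 :=
  M.wact cfth_lt
theorem cftl0_e : ∀ i < 41, (dent cftl0 cfth_P (nat_lit 714)) i = 0 := allZ_sound0 cftl0_e_0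
theorem cftl0_ok : DOK cftl0 cfth_P 714 := ⟨cftl0_h, cftl0_e⟩
theorem cftl1_e : ∀ i < 15, (dent cftl1 cfth_P (nat_lit 714)) i = 0 := allZ_sound0 cftl1_e_0
theorem cftl1_ok : DOK cftl1 cfth_P 714 := ⟨cftl1_h, cftl1_e⟩
theorem cftl2_e : ∀ i < 1, (dent cftl2 cfth_P (nat_lit 714)) i = 0 := allZ_sound0 cftl2_e_0
theorem cftl2_ok : DOK cftl2 cfth_P 714 := ⟨cftl2_h, cftl2_e⟩
theorem cftl3_e : ∀ i < 1, (dent cftl3 cfth_P (nat_lit 714)) i = 0 := allZ_sound0 cftl3_e_0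
theorem cftl3_ok : DOK cftl3 cfth_P 714 := ⟨cftl3_h, cftl3_e⟩
theorem cftl4_e : ∀ i < 1, (dent cftl4 cfth_P (nat_lit 714)) i = 0 := allZ_sound0 cftl4_e_0
theorem cftl4_ok : DOK cftl4 cfth_P 714 := ⟨cftl4_h, cftl4_e⟩
theorem cftl5_e : ∀ i < 1, (dent cftl5 cfth_P (nat_lit 714)) i = 0 := allZ_sound0 cftl5_e_0
theorem cftl5_ok : DOK cftl5 cfth_P 714 := ⟨cftl5_h, cftl5_e⟩
theorem cftl6_e : ∀ i < 1, (dent cftl6 cfth_P (nat_lit 714)) i = 0 := allZ_sound0 cftl6_e_0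
theorem cftl6_ok : DOK cftl6 cfth_P 714 := ⟨cftl6_h, cftl6_e⟩
theorem cftl7_e : ∀ i < 1, (dent cftl7 cfth_P (nat_lit 714)) i = 0 := allZ_sound0 cftl7_e_0
theorem cftl7_ok : DOK cftl7 cfth_P 714 := ⟨cftl7_h, cftl7_e⟩
theorem cft_low {G Ω : Type*} [Group G] [MulAction G Ω] {g : ℕ → G} {pt : ℕ → Ω} {c : ℕ}
    (M : Md g pt Tm 714 6 B1 c) : SLow (gi (wds g cfth_W)) pt 714 [cftl0, cftl1, cftl2, cftl3, cftl4, cftl5, cftl6, cftl7] :=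
  ((((((((SLow.nil).cons cftl7_ok (cfth_act M) cft_f7).cons cftl6_ok (cfth_act M) cft_f6).cons cftl5_ok (cfth_act M) cft_f5).cons cftl4_ok (cfth_act M) cft_f4).cons cftl3_ok (cfth_act M) cft_f3).cons cftl2_ok (cfth_act M) cft_f2).cons cftl1_ok (cfth_act M) cft_f1).cons cftl0_ok (cfth_act M) cft_f0
theorem cft_S0 {G Ω : Type*} [Group G] [MulAction G Ω] {g : ℕ → G} {pt : ℕ → Ω}
    (M : Md g pt Tm 714 6 B1 43008) : Stage ⊤ (wds g cfth_W) pt 714 [cftl0, cftl1, cftl2, cftl3, cftl4, cftl5, cftl6, cftl7] [] :=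
  M.stage (cft_low M) cft_c
theorem cft_S1 {G Ω : Type*} [Group G] [MulAction G Ω] {g : ℕ → G} {pt : ℕ → Ω}
    (M : Md g pt Tm 714 6 B1 43008) : Stage ⊤ (wds g cfth_W) pt 714 [cftl1, cftl2, cftl3, cftl4, cftl5, cftl6, cftl7] [cftl0.Pt 0] :=
  (cft_S0 M).next
theorem cft_S2 {G Ω : Type*} [Group G] [MulAction G Ω] {g : ℕ → G} {pt : ℕ → Ω}
    (M : Md g pt Tm 714 6 B1 43008) : Stage ⊤ (wds g cfth_W) pt 714 [cftl2, cftl3, cftl4, cftl5, cftl6, cftl7] [cftl1.Pt 0, cftl0.Pt 0] :=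
  (cft_S1 M).next
theorem cft_S3 {G Ω : Type*} [Group G] [MulAction G Ω] {g : ℕ → G} {pt : ℕ → Ω}
    (M : Md g pt Tm 714 6 B1 43008) : Stage ⊤ (wds g cfth_W) pt 714 [cftl3, cftl4, cftl5, cftl6, cftl7] [cftl2.Pt 0, cftl1.Pt 0, cftl0.Pt 0] :=
  (cft_S2 M).next
theorem cft_S4 {G Ω : Type*} [Group G] [MulAction G Ω] {g : ℕ → G} {pt : ℕ → Ω}
    (M : Md g pt Tm 714 6 B1 43008) : Stage ⊤ (wds g cfth_W) pt 714 [cftl4, cftl5, cftl6, cftl7] [cftl3.Pt 0, cftl2.Pt 0, cftl1.Pt 0, cftl0.Pt 0] :=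
  (cft_S3 M).next
theorem cft_S5 {G Ω : Type*} [Group G] [MulAction G Ω] {g : ℕ → G} {pt : ℕ → Ω}
    (M : Md g pt Tm 714 6 B1 43008) : Stage ⊤ (wds g cfth_W) pt 714 [cftl5, cftl6, cftl7] [cftl4.Pt 0, cftl3.Pt 0, cftl2.Pt 0, cftl1.Pt 0, cftl0.Pt 0] :=
  (cft_S4 M).next
theorem cft_S6 {G Ω : Type*} [Group G] [MulAction G Ω] {g : ℕ → G} {pt : ℕ → Ω}
    (M : Md g pt Tm 714 6 B1 43008) : Stage ⊤ (wds g cfth_W) pt 714 [cftl6, cftl7] [cftl5.Pt 0, cftl4.Pt 0, cftl3.Pt 0, cftl2.Pt 0, cftl1.Pt 0, cftl0.Pt 0] :=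
  (cft_S5 M).next
theorem cft_S7 {G Ω : Type*} [Group G] [MulAction G Ω] {g : ℕ → G} {pt : ℕ → Ω}
    (M : Md g pt Tm 714 6 B1 43008) : Stage ⊤ (wds g cfth_W) pt 714 [cftl7] [cftl6.Pt 0, cftl5.Pt 0, cftl4.Pt 0, cftl3.Pt 0, cftl2.Pt 0, cftl1.Pt 0, cftl0.Pt 0] :=
  (cft_S6 M).next
theorem cft_S8 {G Ω : Type*} [Group G] [MulAction G Ω] {g : ℕ → G} {pt : ℕ → Ω}
    (M : Md g pt Tm 714 6 B1 43008) : Stage ⊤ (wds g cfth_W) pt 714 [] [cftl7.Pt 0, cftl6.Pt 0, cftl5.Pt 0, cftl4.Pt 0, cftl3.Pt 0, cftl2.Pt 0, cftl1.Pt 0, cftl0.Pt 0] :=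
  (cft_S7 M).next
theorem cfe_act {G Ω : Type*} [Group G] [MulAction G Ω] {g : ℕ → G} {pt : ℕ → Ω} {c : ℕ}
    (M : Md g pt Tm 714 6 B1 c) : Act (wds g cfe_W) pt cfe_P 714 6 :=
  M.wact cfe_lt
theorem cfc7_e : ∀ i < 1, (dent cfc7 cfe_P (nat_lit 714)) i = 0 := allZ_sound0 cfc7_e_0
theorem cfc7_ok : DOK cfc7 cfe_P 714 := ⟨cfc7_h, cfc7_e⟩
theorem cftn0_1 : ∀ i < 2, (cftn0.ent Tm cfth_P cfx_P cfx_P cfe_P (nat_lit 6) (nat_lit 1) B1 cftl7 [] (memO cfc7)) i = 0 := allZ_sound0 cftn0_1_0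
theorem cftn0_t {G Ω : Type*} [Group G] [MulAction G Ω] {g : ℕ → G} {pt : ℕ → Ω}
    (M : Md g pt Tm 714 6 B1 43008) : TrO (gen (wds g cfth_W) cftl7.K) (wds g cfx_W) (wds g cfx_W) 1 pt 714 (cftl7.Pt 0) (memO cfc7) :=
  node M (cft_S7 M) (cfth_act M) (cfx_act M) (cfx_act M) cftn0 ((cfe_act M).mono (by decide)) (fun _ _ => trivial) cftn0_0 cftn0_1 (List.forall_mem_nil _)
theorem cftn1y60_act {G Ω : Type*} [Group G] [MulAction G Ω] {g : ℕ → G} {pt : ℕ → Ω} {c : ℕ}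
    (M : Md g pt Tm 714 6 B1 c) : Act (wds g cftn1y60_W) pt cftn1y60_P 714 1 :=
  M.wact cftn1y60_lt
theorem cftr2k_act {G Ω : Type*} [Group G] [MulAction G Ω] {g : ℕ → G} {pt : ℕ → Ω} {c : ℕ}
    (M : Md g pt Tm 714 6 B1 c) : Act (wds g cftr2k_W) pt cftr2k_P 714 2 :=
  M.wact cftr2k_lt
theorem cftn2_1 : ∀ i < 2, (cftn2.ent Tm cfth_P cfx_P cftn1y60_P cftr2k_P (nat_lit 6) (nat_lit 1) B1 cftl7 [] (fun _ => nat_lit 1)) i = 0 := allZ_sound0 cftn2_1_0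
theorem cftn2_t {G Ω : Type*} [Group G] [MulAction G Ω] {g : ℕ → G} {pt : ℕ → Ω}
    (M : Md g pt Tm 714 6 B1 43008) : TrO (gen (wds g cfth_W) cftl7.K) (wds g cfx_W) (wds g cftn1y60_W) 1 pt 714 (cftl7.Pt 0) (fun _ => nat_lit 1) :=
  node M (cft_S7 M) (cfth_act M) (cfx_act M) (cftn1y60_act M) cftn2 ((cftr2k_act M).mono (by decide)) (fun _ _ => trivial) cftn2_0 cftn2_1 (List.forall_mem_nil _)
theorem cftr2 {G Ω : Type*} [Group G] [MulAction G Ω] {g : ℕ → G} {pt : ℕ → Ω}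
    (M : Md g pt Tm 714 6 B1 43008) : Ref (gen (wds g cfth_W) (topK [cftl7])) (wds g cfx_W) (wds g cftn1y60_W) 1 :=
  (cftn2_t M).ref
theorem cftn1_1 : ∀ i < 2, (cftn1.ent Tm cfth_P cfx_P cfx_P cfe_P (nat_lit 6) (nat_lit 1) B1 cftl6 [cftl7] (fun w => Nat.xor w (cftl6.Pt (nat_lit 0)))) i = 0 := allZ_sound0 cftn1_1_0
theorem cftn1_t {G Ω : Type*} [Group G] [MulAction G Ω] {g : ℕ → G} {pt : ℕ → Ω}
    (M : Md g pt Tm 714 6 B1 43008) : TrO (gen (wds g cfth_W) cftl6.K) (wds g cfx_W) (wds g cfx_W) 1 pt 714 (cftl6.Pt 0) (fun w => Nat.xor w (cftl6.Pt (nat_lit 0))) :=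
  node M (cft_S6 M) (cfth_act M) (cfx_act M) (cfx_act M) cftn1 ((cfe_act M).mono (by decide)) (fun _ _ => trivial) cftn1_0 cftn1_1 (List.forall_mem_cons.2 ⟨cftr2 M, List.forall_mem_nil _⟩)
theorem cftn3y114_act {G Ω : Type*} [Group G] [MulAction G Ω] {g : ℕ → G} {pt : ℕ → Ω} {c : ℕ}
    (M : Md g pt Tm 714 6 B1 c) : Act (wds g cftn3y114_W) pt cftn3y114_P 714 1 :=
  M.wact cftn3y114_lt
theorem cftr4k_act {G Ω : Type*} [Group G] [MulAction G Ω] {g : ℕ → G} {pt : ℕ → Ω} {c : ℕ}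
    (M : Md g pt Tm 714 6 B1 c) : Act (wds g cftr4k_W) pt cftr4k_P 714 2 :=
  M.wact cftr4k_lt
theorem cftn4_1 : ∀ i < 2, (cftn4.ent Tm cfth_P cfx_P cftn3y114_P cftr4k_P (nat_lit 6) (nat_lit 1) B1 cftl6 [cftl7] (fun _ => nat_lit 1)) i = 0 := allZ_sound0 cftn4_1_0
theorem cftn4_t {G Ω : Type*} [Group G] [MulAction G Ω] {g : ℕ → G} {pt : ℕ → Ω}
    (M : Md g pt Tm 714 6 B1 43008) : TrO (gen (wds g cfth_W) cftl6.K) (wds g cfx_W) (wds g cftn3y114_W) 1 pt 714 (cftl6.Pt 0) (fun _ => nat_lit 1) :=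
  node M (cft_S6 M) (cfth_act M) (cfx_act M) (cftn3y114_act M) cftn4 ((cftr4k_act M).mono (by decide)) (fun _ _ => trivial) cftn4_0 cftn4_1 (List.forall_mem_nil _)
theorem cftr4 {G Ω : Type*} [Group G] [MulAction G Ω] {g : ℕ → G} {pt : ℕ → Ω}
    (M : Md g pt Tm 714 6 B1 43008) : Ref (gen (wds g cfth_W) (topK [cftl6, cftl7])) (wds g cfx_W) (wds g cftn3y114_W) 1 :=
  (cftn4_t M).ref
theorem cftn3_1 : ∀ i < 2, (cftn3.ent Tm cfth_P cfx_P cfx_P cfe_P (nat_lit 6) (nat_lit 1) B1 cftl5 [cftl6, cftl7] (fun w => Nat.xor w (cftl5.Pt (nat_lit 0)))) i = 0 := allZ_sound0 cftn3_1_0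
theorem cftn3_t {G Ω : Type*} [Group G] [MulAction G Ω] {g : ℕ → G} {pt : ℕ → Ω}
    (M : Md g pt Tm 714 6 B1 43008) : TrO (gen (wds g cfth_W) cftl5.K) (wds g cfx_W) (wds g cfx_W) 1 pt 714 (cftl5.Pt 0) (fun w => Nat.xor w (cftl5.Pt (nat_lit 0))) :=
  node M (cft_S5 M) (cfth_act M) (cfx_act M) (cfx_act M) cftn3 ((cfe_act M).mono (by decide)) (fun _ _ => trivial) cftn3_0 cftn3_1 (List.forall_mem_cons.2 ⟨cftr4 M, List.forall_mem_nil _⟩)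
theorem cfc3_e : ∀ i < 1, (dent cfc3 cfe_P (nat_lit 714)) i = 0 := allZ_sound0 cfc3_e_0
theorem cfc3_ok : DOK cfc3 cfe_P 714 := ⟨cfc3_h, cfc3_e⟩
theorem cftn5_1 : ∀ i < 2, (cftn5.ent Tm cfth_P cfx_P cfx_P cfe_P (nat_lit 6) (nat_lit 1) B1 cftl3 [cftl4, cftl5, cftl6, cftl7] (memO cfc3)) i = 0 := allZ_sound0 cftn5_1_0
theorem cftn5_t {G Ω : Type*} [Group G] [MulAction G Ω] {g : ℕ → G} {pt : ℕ → Ω}
    (M : Md g pt Tm 714 6 B1 43008) : TrO (gen (wds g cfth_W) cftl3.K) (wds g cfx_W) (wds g cfx_W) 1 pt 714 (cftl3.Pt 0) (memO cfc3) :=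
  node M (cft_S3 M) (cfth_act M) (cfx_act M) (cfx_act M) cftn5 ((cfe_act M).mono (by decide)) (fun _ _ => trivial) cftn5_0 cftn5_1 (List.forall_mem_nil _)
theorem cfc2_e : ∀ i < 1, (dent cfc2 cfe_P (nat_lit 714)) i = 0 := allZ_sound0 cfc2_e_0
theorem cfc2_ok : DOK cfc2 cfe_P 714 := ⟨cfc2_h, cfc2_e⟩
theorem cftn6_1 : ∀ i < 2, (cftn6.ent Tm cfth_P cfx_P cfx_P cfe_P (nat_lit 6) (nat_lit 1) B1 cftl2 [cftl3, cftl4, cftl5, cftl6, cftl7] (memO cfc2)) i = 0 := allZ_sound0 cftn6_1_0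
theorem cftn6_t {G Ω : Type*} [Group G] [MulAction G Ω] {g : ℕ → G} {pt : ℕ → Ω}
    (M : Md g pt Tm 714 6 B1 43008) : TrO (gen (wds g cfth_W) cftl2.K) (wds g cfx_W) (wds g cfx_W) 1 pt 714 (cftl2.Pt 0) (memO cfc2) :=
  node M (cft_S2 M) (cfth_act M) (cfx_act M) (cfx_act M) cftn6 ((cfe_act M).mono (by decide)) (fun _ _ => trivial) cftn6_0 cftn6_1 (List.forall_mem_nil _)
theorem cfc0_e : ∀ i < 11, (dent cfc0 cfe_P (nat_lit 714)) i = 0 := allZ_sound0 cfc0_e_0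
theorem cfc0_ok : DOK cfc0 cfe_P 714 := ⟨cfc0_h, cfc0_e⟩
theorem cftn7_1 : ∀ i < 42, (cftn7.ent Tm cfth_P cfx_P cfx_P cfe_P (nat_lit 6) (nat_lit 1) B1 cftl0 [cftl1, cftl2, cftl3, cftl4, cftl5, cftl6, cftl7] (memO cfc0)) i = 0 := allZ_sound0 cftn7_1_0
theorem cftn7_t {G Ω : Type*} [Group G] [MulAction G Ω] {g : ℕ → G} {pt : ℕ → Ω}
    (M : Md g pt Tm 714 6 B1 43008) : TrO (gen (wds g cfth_W) cftl0.K) (wds g cfx_W) (wds g cfx_W) 1 pt 714 (cftl0.Pt 0) (memO cfc0) :=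
  node M (cft_S0 M) (cfth_act M) (cfx_act M) (cfx_act M) cftn7 ((cfe_act M).mono (by decide)) (fun _ _ => trivial) cftn7_0 cftn7_1 (List.forall_mem_nil _)
theorem cf {G Ω : Type*} [Group G] [MulAction G Ω] {g : ℕ → G} {pt : ℕ → Ω}
    (M : Md g pt Tm 714 6 B1 43008) : Cen ⊤ (wds g cfx_W) 1 (wds g cfe_W) pt 714 [cfc0, cfc2, cfc3, cfc7] :=
  (cft_S0 M).top ▸ Cen.lev M (cft_S0 M) (Cen.triv (cft_S1 M) (Cen.lev M (cft_S2 M) (Cen.lev M (cft_S3 M) (Cen.triv (cft_S4 M) (Cen.triv (cft_S5 M) (Cen.triv (cft_S6 M) (Cen.lev M (cft_S7 M) (Cen.bot) (cftn0_t M) (cfx_act M) (cfe_act M) (fun _ _ => trivial) cfc7_ok cf_f7) (cftn1_t M)) (cftn3_t M)) (forced (cft_S4 M) (cfth_act M) (cfx_act M) _ _ cf_f4)) (cftn5_t M) (cfx_act M) (cfe_act M) (fun _ _ => trivial) cfc3_ok cf_f3) (cftn6_t M) (cfx_act M) (cfe_act M) (fun _ _ => trivial)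 cfc2_ok cf_f2) (forced (cft_S1 M) (cfth_act M) (cfx_act M) _ _ cf_f1)) (cftn7_t M) (cfx_act M) (cfe_act M) (fun _ _ => trivial) cfc0_ok cf_f0
theorem cf_card {G Ω : Type*} [Group G] [MulAction G Ω] {g : ℕ → G} {pt : ℕ → Ω}
    (M : Md g pt Tm 714 6 B1 43008) : Nat.card (Subgroup.centralizer {(wds g cfx_W) 0}) = 96 :=
  (cf M).card_cent1 M.inj cf_c.1
theorem cf_eq {G Ω : Type*} [Group G] [MulAction G Ω] {g : ℕ → G} {pt : ℕ → Ω}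
    (M : Md g pt Tm 714 6 B1 43008) : Subgroup.centralizer (gen (wds g cfx_W) 1) = gen (wds g cfe_W) 6 ∧ Nat.card (gen (wds g cfe_W) 6) = 96 :=
  cf_c.1 ▸ cf_c.2 ▸ ⟨(cf M).cent, (cf M).card M.inj⟩
theorem ctx_act {G Ω : Type*} [Group G] [MulAction G Ω] {g : ℕ → G} {pt : ℕ → Ω} {c : ℕ}
    (M : Md g pt Tm 714 6 B1 c) : Act (wds g ctx_W) pt ctx_P 714 4 :=
  M.wact ctx_lt
theorem ctth_act {G Ω : Type*} [Group G] [MulAction G Ω] {g : ℕ → G} {pt : ℕ → Ω} {c : ℕ}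
    (M : Md g pt Tm 714 6 B1 c) : Act (wds g ctth_W) pt ctth_P 714 12 :=
  M.wact ctth_lt
theorem cttl0_e : ∀ i < 671, (dent cttl0 ctth_P (nat_lit 714)) i = 0 := allZ_sound0 cttl0_e_0
theorem cttl0_ok : DOK cttl0 ctth_P 714 := ⟨cttl0_h, cttl0_e⟩
theorem cttl1_e : ∀ i < 15, (dent cttl1 ctth_P (nat_lit 714)) i = 0 := allZ_sound0 cttl1_e_0
theorem cttl1_ok : DOK cttl1 ctth_P 714 := ⟨cttl1_h, cttl1_e⟩
theorem cttl2_e : ∀ i < 3, (dent cttl2 ctth_P (nat_lit 714)) i = 0 := allZ_sound0 cttl2_e_0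
theorem cttl2_ok : DOK cttl2 ctth_P 714 := ⟨cttl2_h, cttl2_e⟩
theorem ctt_low {G Ω : Type*} [Group G] [MulAction G Ω] {g : ℕ → G} {pt : ℕ → Ω} {c : ℕ}
    (M : Md g pt Tm 714 6 B1 c) : SLow (gi (wds g ctth_W)) pt 714 [cttl0, cttl1, cttl2] :=
  (((SLow.nil).cons cttl2_ok (ctth_act M) ctt_f2).cons cttl1_ok (ctth_act M) ctt_f1).cons cttl0_ok (ctth_act M) ctt_f0
theorem ctt_S0 {G Ω : Type*} [Group G] [MulAction G Ω] {g : ℕ → G} {pt : ℕ → Ω}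
    (M : Md g pt Tm 714 6 B1 43008) : Stage ⊤ (wds g ctth_W) pt 714 [cttl0, cttl1, cttl2] [] :=
  M.stage (ctt_low M) ctt_c
theorem ctt_S1 {G Ω : Type*} [Group G] [MulAction G Ω] {g : ℕ → G} {pt : ℕ → Ω}
    (M : Md g pt Tm 714 6 B1 43008) : Stage ⊤ (wds g ctth_W) pt 714 [cttl1, cttl2] [cttl0.Pt 0] :=
  (ctt_S0 M).next
theorem ctt_S2 {G Ω : Type*} [Group G] [MulAction G Ω] {g : ℕ → G} {pt : ℕ → Ω}
    (M : Md g pt Tm 714 6 B1 43008) : Stage ⊤ (wds g ctth_W) pt 714 [cttl2] [cttl1.Pt 0, cttl0.Pt 0] :=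
  (ctt_S1 M).next
theorem ctt_S3 {G Ω : Type*} [Group G] [MulAction G Ω] {g : ℕ → G} {pt : ℕ → Ω}
    (M : Md g pt Tm 714 6 B1 43008) : Stage ⊤ (wds g ctth_W) pt 714 [] [cttl2.Pt 0, cttl1.Pt 0, cttl0.Pt 0] :=
  (ctt_S2 M).next
theorem cte_act {G Ω : Type*} [Group G] [MulAction G Ω] {g : ℕ → G} {pt : ℕ → Ω} {c : ℕ}
    (M : Md g pt Tm 714 6 B1 c) : Act (wds g cte_W) pt cte_P 714 1 :=
  M.wact cte_lt
theorem ctc0_e : ∀ i < 1, (dent ctc0 cte_P (nat_lit 714)) i = 0 := allZ_sound0 ctc0_e_0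
theorem ctc0_ok : DOK ctc0 cte_P 714 := ⟨ctc0_h, ctc0_e⟩
theorem cttn0_1 : ∀ i < 672, (cttn0.ent Tm ctth_P ctx_P ctx_P cte_P (nat_lit 6) (nat_lit 4) B1 cttl0 [cttl1, cttl2] (memO ctc0)) i = 0 := allZ_sound0 cttn0_1_0
theorem cttn0_t {G Ω : Type*} [Group G] [MulAction G Ω] {g : ℕ → G} {pt : ℕ → Ω}
    (M : Md g pt Tm 714 6 B1 43008) : TrO (gen (wds g ctth_W) cttl0.K) (wds g ctx_W) (wds g ctx_W) 4 pt 714 (cttl0.Pt 0) (memO ctc0) :=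
  node M (ctt_S0 M) (ctth_act M) (ctx_act M) (ctx_act M) cttn0 ((cte_act M).mono (by decide)) (fun _ _ => trivial) cttn0_0 cttn0_1 (List.forall_mem_nil _)
theorem ct {G Ω : Type*} [Group G] [MulAction G Ω] {g : ℕ → G} {pt : ℕ → Ω}
    (M : Md g pt Tm 714 6 B1 43008) : Cen ⊤ (wds g ctx_W) 4 (wds g cte_W) pt 714 [ctc0] :=
  (ctt_S0 M).top ▸ Cen.lev M (ctt_S0 M) (Cen.triv (ctt_S1 M) (Cen.triv (ctt_S2 M) (Cen.bot) (forced (ctt_S2 M) (ctth_act M) (ctx_act M) _ _ ct_f2)) (forced (ctt_S1 M) (ctth_act M) (ctx_act M) _ _ ct_f1)) (cttn0_t M) (ctx_act M) (cte_act M) (fun _ _ => trivial) ctc0_ok ct_f0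
theorem ct_eq {G Ω : Type*} [Group G] [MulAction G Ω] {g : ℕ → G} {pt : ℕ → Ω}
    (M : Md g pt Tm 714 6 B1 43008) : Subgroup.centralizer (gen (wds g ctx_W) 4) = gen (wds g cte_W) 1 ∧ Nat.card (gen (wds g cte_W) 1) = 2 :=
  ct_c.1 ▸ ct_c.2 ▸ ⟨(ct M).cent, (ct M).card M.inj⟩
theorem en47a : ∀ k < 1, ∀ i < 2, (tupEnt cte_P en47T en47N (nat_lit 714) (nat_lit 2) (nat_lit 4)) k i = 0 := allZ2_sound en47a_a
theorem en47b : ∀ i < 2, (enEnt cte_P en47T en47W (nat_lit 4)) i = 0 := allZ_sound0 en47b_0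
theorem cl48 : ∀ i < 2, (clEnt cte_P (wdsP Tm wW) 55 56 B1 cl48L en47W) i = 0 := allZ_sound0 cl48_0
theorem cl48g {G Ω : Type*} [Group G] [MulAction G Ω] {pt : ℕ → Ω} {w : ℕ → G} (S : Bm G pt 714 B1) (hw : Act w pt (wdsP Tm wW) 714 56) {x : ℕ → G}
    (e : En x 1 en47W 2) (hx : Act x pt cte_P 714 1) : ∀ v ∈ gen x 1,
    v = 1 ∨ v = w 0 := S.cls e hx hw en47c.2.1 cl48
theorem le49 : ∀ i < 4, (leEnt t_P ctx_P 10 B1 le49W) i = 0 := allZ_sound0 le49_0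
theorem ckx_act {G Ω : Type*} [Group G] [MulAction G Ω] {g : ℕ → G} {pt : ℕ → Ω} {c : ℕ}
    (M : Md g pt Tm 714 6 B1 c) : Act (wds g ckx_W) pt ckx_P 714 2 :=
  M.wact ckx_lt
theorem ckth_act {G Ω : Type*} [Group G] [MulAction G Ω] {g : ℕ → G} {pt : ℕ → Ω} {c : ℕ}
    (M : Md g pt Tm 714 6 B1 c) : Act (wds g ckth_W) pt ckth_P 714 11 :=
  M.wact ckth_lt
theorem cktl0_e : ∀ i < 671, (dent cktl0 ckth_P (nat_lit 714)) i = 0 := allZ_sound0 cktl0_e_0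
theorem cktl0_ok : DOK cktl0 ckth_P 714 := ⟨cktl0_h, cktl0_e⟩
theorem cktl1_e : ∀ i < 63, (dent cktl1 ckth_P (nat_lit 714)) i = 0 := allZ_sound0 cktl1_e_0
theorem cktl1_ok : DOK cktl1 ckth_P 714 := ⟨cktl1_h, cktl1_e⟩
theorem ckt_low {G Ω : Type*} [Group G] [MulAction G Ω] {g : ℕ → G} {pt : ℕ → Ω} {c : ℕ}
    (M : Md g pt Tm 714 6 B1 c) : SLow (gi (wds g ckth_W)) pt 714 [cktl0, cktl1] :=
  ((SLow.nil).cons cktl1_ok (ckth_act M) ckt_f1).cons cktl0_ok (ckth_act M) ckt_f0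
theorem ckt_S0 {G Ω : Type*} [Group G] [MulAction G Ω] {g : ℕ → G} {pt : ℕ → Ω}
    (M : Md g pt Tm 714 6 B1 43008) : Stage ⊤ (wds g ckth_W) pt 714 [cktl0, cktl1] [] :=
  M.stage (ckt_low M) ckt_c
theorem ckt_S1 {G Ω : Type*} [Group G] [MulAction G Ω] {g : ℕ → G} {pt : ℕ → Ω}
    (M : Md g pt Tm 714 6 B1 43008) : Stage ⊤ (wds g ckth_W) pt 714 [cktl1] [cktl0.Pt 0] :=
  (ckt_S0 M).next
theorem ckt_S2 {G Ω : Type*} [Group G] [MulAction G Ω] {g : ℕ → G} {pt : ℕ → Ω}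
    (M : Md g pt Tm 714 6 B1 43008) : Stage ⊤ (wds g ckth_W) pt 714 [] [cktl1.Pt 0, cktl0.Pt 0] :=
  (ckt_S1 M).next
theorem cke_act {G Ω : Type*} [Group G] [MulAction G Ω] {g : ℕ → G} {pt : ℕ → Ω} {c : ℕ}
    (M : Md g pt Tm 714 6 B1 c) : Act (wds g cke_W) pt cke_P 714 1 :=
  M.wact cke_lt
theorem ckc0_e : ∀ i < 1, (dent ckc0 cke_P (nat_lit 714)) i = 0 := allZ_sound0 ckc0_e_0
theorem ckc0_ok : DOK ckc0 cke_P 714 := ⟨ckc0_h, ckc0_e⟩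
theorem cktn0_1 : ∀ i < 672, (cktn0.ent Tm ckth_P ckx_P ckx_P cke_P (nat_lit 6) (nat_lit 2) B1 cktl0 [cktl1] (memO ckc0)) i = 0 := allZ_sound0 cktn0_1_0
theorem cktn0_t {G Ω : Type*} [Group G] [MulAction G Ω] {g : ℕ → G} {pt : ℕ → Ω}
    (M : Md g pt Tm 714 6 B1 43008) : TrO (gen (wds g ckth_W) cktl0.K) (wds g ckx_W) (wds g ckx_W) 2 pt 714 (cktl0.Pt 0) (memO ckc0) :=
  node M (ckt_S0 M) (ckth_act M) (ckx_act M) (ckx_act M) cktn0 ((cke_act M).mono (by decide)) (fun _ _ => trivial) cktn0_0 cktn0_1 (List.forall_mem_nil _)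
theorem ck {G Ω : Type*} [Group G] [MulAction G Ω] {g : ℕ → G} {pt : ℕ → Ω}
    (M : Md g pt Tm 714 6 B1 43008) : Cen ⊤ (wds g ckx_W) 2 (wds g cke_W) pt 714 [ckc0] :=
  (ckt_S0 M).top ▸ Cen.lev M (ckt_S0 M) (Cen.triv (ckt_S1 M) (Cen.bot) (forced (ckt_S1 M) (ckth_act M) (ckx_act M) _ _ ck_f1)) (cktn0_t M) (ckx_act M) (cke_act M) (fun _ _ => trivial) ckc0_ok ck_f0
theorem ck_eq {G Ω : Type*} [Group G] [MulAction G Ω] {g : ℕ → G} {pt : ℕ → Ω}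
    (M : Md g pt Tm 714 6 B1 43008) : Subgroup.centralizer (gen (wds g ckx_W) 2) = gen (wds g cke_W) 1 ∧ Nat.card (gen (wds g cke_W) 1) = 2 :=
  ck_c.1 ▸ ck_c.2 ▸ ⟨(ck M).cent, (ck M).card M.inj⟩
theorem clx_act {G Ω : Type*} [Group G] [MulAction G Ω] {g : ℕ → G} {pt : ℕ → Ω} {c : ℕ}
    (M : Md g pt Tm 714 5 B1 c) : Act (wds g clx_W) pt clx_P 714 1 :=
  M.wact clx_lt
theorem clth_act {G Ω : Type*} [Group G] [MulAction G Ω] {g : ℕ → G} {pt : ℕ → Ω} {c : ℕ}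
    (M : Md g pt Tm 714 5 B1 c) : Act (wds g clth_W) pt clth_P 714 12 :=
  M.wact clth_lt
theorem cltl0_e : ∀ i < 41, (dent cltl0 clth_P (nat_lit 714)) i = 0 := allZ_sound0 cltl0_e_0
theorem cltl0_ok : DOK cltl0 clth_P 714 := ⟨cltl0_h, cltl0_e⟩
theorem cltl1_e : ∀ i < 3, (dent cltl1 clth_P (nat_lit 714)) i = 0 := allZ_sound0 cltl1_e_0
theorem cltl1_ok : DOK cltl1 clth_P 714 := ⟨cltl1_h, cltl1_e⟩
theorem cltl2_e : ∀ i < 3, (dent cltl2 clth_P (nat_lit 714)) i = 0 := allZ_sound0 cltl2_e_0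
theorem cltl2_ok : DOK cltl2 clth_P 714 := ⟨cltl2_h, cltl2_e⟩
theorem cltl3_e : ∀ i < 3, (dent cltl3 clth_P (nat_lit 714)) i = 0 := allZ_sound0 cltl3_e_0
theorem cltl3_ok : DOK cltl3 clth_P 714 := ⟨cltl3_h, cltl3_e⟩
theorem cltl4_e : ∀ i < 1, (dent cltl4 clth_P (nat_lit 714)) i = 0 := allZ_sound0 cltl4_e_0
theorem cltl4_ok : DOK cltl4 clth_P 714 := ⟨cltl4_h, cltl4_e⟩
theorem cltl5_e : ∀ i < 1, (dent cltl5 clth_P (nat_lit 714)) i = 0 := allZ_sound0 cltl5_e_0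
theorem cltl5_ok : DOK cltl5 clth_P 714 := ⟨cltl5_h, cltl5_e⟩
theorem cltl6_e : ∀ i < 1, (dent cltl6 clth_P (nat_lit 714)) i = 0 := allZ_sound0 cltl6_e_0
theorem cltl6_ok : DOK cltl6 clth_P 714 := ⟨cltl6_h, cltl6_e⟩
theorem clt_low {G Ω : Type*} [Group G] [MulAction G Ω] {g : ℕ → G} {pt : ℕ → Ω} {c : ℕ}
    (M : Md g pt Tm 714 5 B1 c) : SLow (gi (wds g clth_W)) pt 714 [cltl0, cltl1, cltl2, cltl3, cltl4, cltl5, cltl6] :=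
  (((((((SLow.nil).cons cltl6_ok (clth_act M) clt_f6).cons cltl5_ok (clth_act M) clt_f5).cons cltl4_ok (clth_act M) clt_f4).cons cltl3_ok (clth_act M) clt_f3).cons cltl2_ok (clth_act M) clt_f2).cons cltl1_ok (clth_act M) clt_f1).cons cltl0_ok (clth_act M) clt_f0
theorem clt_S0 {G Ω : Type*} [Group G] [MulAction G Ω] {g : ℕ → G} {pt : ℕ → Ω}
    (M : Md g pt Tm 714 5 B1 21504) : Stage ⊤ (wds g clth_W) pt 714 [cltl0, cltl1, cltl2, cltl3, cltl4, cltl5, cltl6] [] :=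
  M.stage (clt_low M) clt_c
theorem clt_S1 {G Ω : Type*} [Group G] [MulAction G Ω] {g : ℕ → G} {pt : ℕ → Ω}
    (M : Md g pt Tm 714 5 B1 21504) : Stage ⊤ (wds g clth_W) pt 714 [cltl1, cltl2, cltl3, cltl4, cltl5, cltl6] [cltl0.Pt 0] :=
  (clt_S0 M).next
theorem clt_S2 {G Ω : Type*} [Group G] [MulAction G Ω] {g : ℕ → G} {pt : ℕ → Ω}
    (M : Md g pt Tm 714 5 B1 21504) : Stage ⊤ (wds g clth_W) pt 714 [cltl2, cltl3, cltl4, cltl5, cltl6] [cltl1.Pt 0, cltl0.Pt 0] :=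
  (clt_S1 M).next
theorem clt_S3 {G Ω : Type*} [Group G] [MulAction G Ω] {g : ℕ → G} {pt : ℕ → Ω}
    (M : Md g pt Tm 714 5 B1 21504) : Stage ⊤ (wds g clth_W) pt 714 [cltl3, cltl4, cltl5, cltl6] [cltl2.Pt 0, cltl1.Pt 0, cltl0.Pt 0] :=
  (clt_S2 M).next
theorem clt_S4 {G Ω : Type*} [Group G] [MulAction G Ω] {g : ℕ → G} {pt : ℕ → Ω}
    (M : Md g pt Tm 714 5 B1 21504) : Stage ⊤ (wds g clth_W) pt 714 [cltl4, cltl5, cltl6] [cltl3.Pt 0, cltl2.Pt 0, cltl1.Pt 0, cltl0.Pt 0] :=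
  (clt_S3 M).next
theorem clt_S5 {G Ω : Type*} [Group G] [MulAction G Ω] {g : ℕ → G} {pt : ℕ → Ω}
    (M : Md g pt Tm 714 5 B1 21504) : Stage ⊤ (wds g clth_W) pt 714 [cltl5, cltl6] [cltl4.Pt 0, cltl3.Pt 0, cltl2.Pt 0, cltl1.Pt 0, cltl0.Pt 0] :=
  (clt_S4 M).next
theorem clt_S6 {G Ω : Type*} [Group G] [MulAction G Ω] {g : ℕ → G} {pt : ℕ → Ω}
    (M : Md g pt Tm 714 5 B1 21504) : Stage ⊤ (wds g clth_W) pt 714 [cltl6] [cltl5.Pt 0, cltl4.Pt 0, cltl3.Pt 0, cltl2.Pt 0, cltl1.Pt 0, cltl0.Pt 0] :=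
  (clt_S5 M).next
theorem clt_S7 {G Ω : Type*} [Group G] [MulAction G Ω] {g : ℕ → G} {pt : ℕ → Ω}
    (M : Md g pt Tm 714 5 B1 21504) : Stage ⊤ (wds g clth_W) pt 714 [] [cltl6.Pt 0, cltl5.Pt 0, cltl4.Pt 0, cltl3.Pt 0, cltl2.Pt 0, cltl1.Pt 0, cltl0.Pt 0] :=
  (clt_S6 M).next
theorem cle_act {G Ω : Type*} [Group G] [MulAction G Ω] {g : ℕ → G} {pt : ℕ → Ω} {c : ℕ}
    (M : Md g pt Tm 714 5 B1 c) : Act (wds g cle_W) pt cle_P 714 9 :=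
  M.wact cle_lt
theorem clc6_e : ∀ i < 1, (dent clc6 cle_P (nat_lit 714)) i = 0 := allZ_sound0 clc6_e_0
theorem clc6_ok : DOK clc6 cle_P 714 := ⟨clc6_h, clc6_e⟩
theorem cltn0_1 : ∀ i < 2, (cltn0.ent Tm clth_P clx_P clx_P cle_P (nat_lit 5) (nat_lit 1) B1 cltl6 [] (memO clc6)) i = 0 := allZ_sound0 cltn0_1_0
theorem cltn0_t {G Ω : Type*} [Group G] [MulAction G Ω] {g : ℕ → G} {pt : ℕ → Ω}
    (M : Md g pt Tm 714 5 B1 21504) : TrO (gen (wds g clth_W) cltl6.K) (wds g clx_W) (wds g clx_W) 1 pt 714 (cltl6.Pt 0) (memO clc6) :=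
  node M (clt_S6 M) (clth_act M) (clx_act M) (clx_act M) cltn0 ((cle_act M).mono (by decide)) (fun _ _ => trivial) cltn0_0 cltn0_1 (List.forall_mem_nil _)
theorem clc5_e : ∀ i < 1, (dent clc5 cle_P (nat_lit 714)) i = 0 := allZ_sound0 clc5_e_0
theorem clc5_ok : DOK clc5 cle_P 714 := ⟨clc5_h, clc5_e⟩
theorem cltn1_1 : ∀ i < 2, (cltn1.ent Tm clth_P clx_P clx_P cle_P (nat_lit 5) (nat_lit 1) B1 cltl5 [cltl6] (memO clc5)) i = 0 := allZ_sound0 cltn1_1_0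
theorem cltn1_t {G Ω : Type*} [Group G] [MulAction G Ω] {g : ℕ → G} {pt : ℕ → Ω}
    (M : Md g pt Tm 714 5 B1 21504) : TrO (gen (wds g clth_W) cltl5.K) (wds g clx_W) (wds g clx_W) 1 pt 714 (cltl5.Pt 0) (memO clc5) :=
  node M (clt_S5 M) (clth_act M) (clx_act M) (clx_act M) cltn1 ((cle_act M).mono (by decide)) (fun _ _ => trivial) cltn1_0 cltn1_1 (List.forall_mem_nil _)
theorem clc4_e : ∀ i < 1, (dent clc4 cle_P (nat_lit 714)) i = 0 := allZ_sound0 clc4_e_0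
theorem clc4_ok : DOK clc4 cle_P 714 := ⟨clc4_h, clc4_e⟩
theorem cltn2_1 : ∀ i < 2, (cltn2.ent Tm clth_P clx_P clx_P cle_P (nat_lit 5) (nat_lit 1) B1 cltl4 [cltl5, cltl6] (memO clc4)) i = 0 := allZ_sound0 cltn2_1_0
theorem cltn2_t {G Ω : Type*} [Group G] [MulAction G Ω] {g : ℕ → G} {pt : ℕ → Ω}
    (M : Md g pt Tm 714 5 B1 21504) : TrO (gen (wds g clth_W) cltl4.K) (wds g clx_W) (wds g clx_W) 1 pt 714 (cltl4.Pt 0) (memO clc4) :=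
  node M (clt_S4 M) (clth_act M) (clx_act M) (clx_act M) cltn2 ((cle_act M).mono (by decide)) (fun _ _ => trivial) cltn2_0 cltn2_1 (List.forall_mem_nil _)
theorem clc2_e : ∀ i < 3, (dent clc2 cle_P (nat_lit 714)) i = 0 := allZ_sound0 clc2_e_0
theorem clc2_ok : DOK clc2 cle_P 714 := ⟨clc2_h, clc2_e⟩
theorem cltn3_1 : ∀ i < 4, (cltn3.ent Tm clth_P clx_P clx_P cle_P (nat_lit 5) (nat_lit 1) B1 cltl2 [cltl3, cltl4, cltl5, cltl6] (memO clc2)) i = 0 := allZ_sound0 cltn3_1_0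
theorem cltn3_t {G Ω : Type*} [Group G] [MulAction G Ω] {g : ℕ → G} {pt : ℕ → Ω}
    (M : Md g pt Tm 714 5 B1 21504) : TrO (gen (wds g clth_W) cltl2.K) (wds g clx_W) (wds g clx_W) 1 pt 714 (cltl2.Pt 0) (memO clc2) :=
  node M (clt_S2 M) (clth_act M) (clx_act M) (clx_act M) cltn3 ((cle_act M).mono (by decide)) (fun _ _ => trivial) cltn3_0 cltn3_1 (List.forall_mem_nil _)
theorem clc1_e : ∀ i < 1, (dent clc1 cle_P (nat_lit 714)) i = 0 := allZ_sound0 clc1_e_0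
theorem clc1_ok : DOK clc1 cle_P 714 := ⟨clc1_h, clc1_e⟩
theorem cltn4_1 : ∀ i < 4, (cltn4.ent Tm clth_P clx_P clx_P cle_P (nat_lit 5) (nat_lit 1) B1 cltl1 [cltl2, cltl3, cltl4, cltl5, cltl6] (memO clc1)) i = 0 := allZ_sound0 cltn4_1_0
theorem cltn4_t {G Ω : Type*} [Group G] [MulAction G Ω] {g : ℕ → G} {pt : ℕ → Ω}
    (M : Md g pt Tm 714 5 B1 21504) : TrO (gen (wds g clth_W) cltl1.K) (wds g clx_W) (wds g clx_W) 1 pt 714 (cltl1.Pt 0) (memO clc1) :=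
  node M (clt_S1 M) (clth_act M) (clx_act M) (clx_act M) cltn4 ((cle_act M).mono (by decide)) (fun _ _ => trivial) cltn4_0 cltn4_1 (List.forall_mem_nil _)
theorem clc0_e : ∀ i < 7, (dent clc0 cle_P (nat_lit 714)) i = 0 := allZ_sound0 clc0_e_0
theorem clc0_ok : DOK clc0 cle_P 714 := ⟨clc0_h, clc0_e⟩
theorem cltn5y163_act {G Ω : Type*} [Group G] [MulAction G Ω] {g : ℕ → G} {pt : ℕ → Ω} {c : ℕ}
    (M : Md g pt Tm 714 5 B1 c) : Act (wds g cltn5y163_W) pt cltn5y163_P 714 1 :=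
  M.wact cltn5y163_lt
theorem cltr6k_act {G Ω : Type*} [Group G] [MulAction G Ω] {g : ℕ → G} {pt : ℕ → Ω} {c : ℕ}
    (M : Md g pt Tm 714 5 B1 c) : Act (wds g cltr6k_W) pt cltr6k_P 714 4 :=
  M.wact cltr6k_lt
theorem cltn6_1 : ∀ i < 4, (cltn6.ent Tm clth_P clx_P cltn5y163_P cltr6k_P (nat_lit 5) (nat_lit 1) B1 cltl1 [cltl2, cltl3, cltl4, cltl5, cltl6] (fun _ => nat_lit 1)) i = 0 := allZ_sound0 cltn6_1_0
theorem cltn6_t {G Ω : Type*} [Group G] [MulAction G Ω] {g : ℕ → G} {pt : ℕ → Ω}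
    (M : Md g pt Tm 714 5 B1 21504) : TrO (gen (wds g clth_W) cltl1.K) (wds g clx_W) (wds g cltn5y163_W) 1 pt 714 (cltl1.Pt 0) (fun _ => nat_lit 1) :=
  node M (clt_S1 M) (clth_act M) (clx_act M) (cltn5y163_act M) cltn6 ((cltr6k_act M).mono (by decide)) (fun _ _ => trivial) cltn6_0 cltn6_1 (List.forall_mem_nil _)
theorem cltr6 {G Ω : Type*} [Group G] [MulAction G Ω] {g : ℕ → G} {pt : ℕ → Ω}
    (M : Md g pt Tm 714 5 B1 21504) : Ref (gen (wds g clth_W) (topK [cltl1, cltl2, cltl3, cltl4, cltl5, cltl6])) (wds g clx_W) (wds g cltn5y163_W) 1 :=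
  (cltn6_t M).ref
theorem cltn5_1 : ∀ i < 42, (cltn5.ent Tm clth_P clx_P clx_P cle_P (nat_lit 5) (nat_lit 1) B1 cltl0 [cltl1, cltl2, cltl3, cltl4, cltl5, cltl6] (memO clc0)) i = 0 := allZ_sound0 cltn5_1_0
theorem cltn5_t {G Ω : Type*} [Group G] [MulAction G Ω] {g : ℕ → G} {pt : ℕ → Ω}
    (M : Md g pt Tm 714 5 B1 21504) : TrO (gen (wds g clth_W) cltl0.K) (wds g clx_W) (wds g clx_W) 1 pt 714 (cltl0.Pt 0) (memO clc0) :=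
  node M (clt_S0 M) (clth_act M) (clx_act M) (clx_act M) cltn5 ((cle_act M).mono (by decide)) (fun _ _ => trivial) cltn5_0 cltn5_1 (List.forall_mem_cons.2 ⟨cltr6 M, List.forall_mem_nil _⟩)
theorem cl {G Ω : Type*} [Group G] [MulAction G Ω] {g : ℕ → G} {pt : ℕ → Ω}
    (M : Md g pt Tm 714 5 B1 21504) : Cen ⊤ (wds g clx_W) 1 (wds g cle_W) pt 714 [clc0, clc1, clc2, clc4, clc5, clc6] :=
  (clt_S0 M).top ▸ Cen.lev M (clt_S0 M) (Cen.lev M (clt_S1 M) (Cen.lev M (clt_S2 M) (Cen.triv (clt_S3 M) (Cen.lev M (clt_S4 M) (Cen.lev M (clt_S5 M) (Cen.lev M (clt_S6 M) (Cen.bot) (cltn0_t M) (clx_act M) (cle_act M) (fun _ _ => trivial) clc6_ok cl_f6) (cltn1_t M) (clx_act M) (cle_act M) (fun _ _ => trivial) clc5_ok cl_f5) (cltn2_t M) (clx_act M) (cle_act M) (fun _ _ => trivial) clc4_ok cl_f4) (forced (clt_S3 M) (clth_act M) (clx_act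 M) _ _ cl_f3)) (cltn3_t M) (clx_act M) (cle_act M) (fun _ _ => trivial) clc2_ok cl_f2) (cltn4_t M) (clx_act M) (cle_act M) (fun _ _ => trivial) clc1_ok cl_f1) (cltn5_t M) (clx_act M) (cle_act M) (fun _ _ => trivial) clc0_ok cl_f0
theorem cl_card {G Ω : Type*} [Group G] [MulAction G Ω] {g : ℕ → G} {pt : ℕ → Ω}
    (M : Md g pt Tm 714 5 B1 21504) : Nat.card (Subgroup.centralizer {(wds g clx_W) 0}) = 512 :=
  (cl M).card_cent1 M.inj cl_c.1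
theorem cl_eq {G Ω : Type*} [Group G] [MulAction G Ω] {g : ℕ → G} {pt : ℕ → Ω}
    (M : Md g pt Tm 714 5 B1 21504) : Subgroup.centralizer (gen (wds g clx_W) 1) = gen (wds g cle_W) 9 ∧ Nat.card (gen (wds g cle_W) 9) = 512 :=
  cl_c.1 ▸ cl_c.2 ▸ ⟨(cl M).cent, (cl M).card M.inj⟩
theorem nu_act {G Ω : Type*} [Group G] [MulAction G Ω] {g : ℕ → G} {pt : ℕ → Ω} {c : ℕ}
    (M : Md g pt Tm 714 6 B1 c) : Act (wds g nu_W) pt nu_P 714 4 :=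
  M.wact nu_lt
theorem cnx_act {G Ω : Type*} [Group G] [MulAction G Ω] {g : ℕ → G} {pt : ℕ → Ω} {c : ℕ}
    (M : Md g pt Tm 714 5 B1 c) : Act (wds g cnx_W) pt cnx_P 714 2 :=
  M.wact cnx_lt
theorem cnth_act {G Ω : Type*} [Group G] [MulAction G Ω] {g : ℕ → G} {pt : ℕ → Ω} {c : ℕ}
    (M : Md g pt Tm 714 5 B1 c) : Act (wds g cnth_W) pt cnth_P 714 9 :=
  M.wact cnth_lt
theorem cntl0_e : ∀ i < 41, (dent cntl0 cnth_P (nat_lit 714)) i = 0 := allZ_sound0 cntl0_e_0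
theorem cntl0_ok : DOK cntl0 cnth_P 714 := ⟨cntl0_h, cntl0_e⟩
theorem cntl1_e : ∀ i < 15, (dent cntl1 cnth_P (nat_lit 714)) i = 0 := allZ_sound0 cntl1_e_0
theorem cntl1_ok : DOK cntl1 cnth_P 714 := ⟨cntl1_h, cntl1_e⟩
theorem cntl2_e : ∀ i < 7, (dent cntl2 cnth_P (nat_lit 714)) i = 0 := allZ_sound0 cntl2_e_0
theorem cntl2_ok : DOK cntl2 cnth_P 714 := ⟨cntl2_h, cntl2_e⟩
theorem cntl3_e : ∀ i < 1, (dent cntl3 cnth_P (nat_lit 714)) i = 0 := allZ_sound0 cntl3_e_0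
theorem cntl3_ok : DOK cntl3 cnth_P 714 := ⟨cntl3_h, cntl3_e⟩
theorem cntl4_e : ∀ i < 1, (dent cntl4 cnth_P (nat_lit 714)) i = 0 := allZ_sound0 cntl4_e_0
theorem cntl4_ok : DOK cntl4 cnth_P 714 := ⟨cntl4_h, cntl4_e⟩
theorem cnt_low {G Ω : Type*} [Group G] [MulAction G Ω] {g : ℕ → G} {pt : ℕ → Ω} {c : ℕ}
    (M : Md g pt Tm 714 5 B1 c) : SLow (gi (wds g cnth_W)) pt 714 [cntl0, cntl1, cntl2, cntl3, cntl4] :=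
  (((((SLow.nil).cons cntl4_ok (cnth_act M) cnt_f4).cons cntl3_ok (cnth_act M) cnt_f3).cons cntl2_ok (cnth_act M) cnt_f2).cons cntl1_ok (cnth_act M) cnt_f1).cons cntl0_ok (cnth_act M) cnt_f0
theorem cnt_S0 {G Ω : Type*} [Group G] [MulAction G Ω] {g : ℕ → G} {pt : ℕ → Ω}
    (M : Md g pt Tm 714 5 B1 21504) : Stage ⊤ (wds g cnth_W) pt 714 [cntl0, cntl1, cntl2, cntl3, cntl4] [] :=
  M.stage (cnt_low M) cnt_c
theorem cnt_S1 {G Ω : Type*} [Group G] [MulAction G Ω] {g : ℕ → G} {pt : ℕ → Ω}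
    (M : Md g pt Tm 714 5 B1 21504) : Stage ⊤ (wds g cnth_W) pt 714 [cntl1, cntl2, cntl3, cntl4] [cntl0.Pt 0] :=
  (cnt_S0 M).next
theorem cnt_S2 {G Ω : Type*} [Group G] [MulAction G Ω] {g : ℕ → G} {pt : ℕ → Ω}
    (M : Md g pt Tm 714 5 B1 21504) : Stage ⊤ (wds g cnth_W) pt 714 [cntl2, cntl3, cntl4] [cntl1.Pt 0, cntl0.Pt 0] :=
  (cnt_S1 M).next
theorem cnt_S3 {G Ω : Type*} [Group G] [MulAction G Ω] {g : ℕ → G} {pt : ℕ → Ω}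
    (M : Md g pt Tm 714 5 B1 21504) : Stage ⊤ (wds g cnth_W) pt 714 [cntl3, cntl4] [cntl2.Pt 0, cntl1.Pt 0, cntl0.Pt 0] :=
  (cnt_S2 M).next
theorem cnt_S4 {G Ω : Type*} [Group G] [MulAction G Ω] {g : ℕ → G} {pt : ℕ → Ω}
    (M : Md g pt Tm 714 5 B1 21504) : Stage ⊤ (wds g cnth_W) pt 714 [cntl4] [cntl3.Pt 0, cntl2.Pt 0, cntl1.Pt 0, cntl0.Pt 0] :=
  (cnt_S3 M).next
theorem cnt_S5 {G Ω : Type*} [Group G] [MulAction G Ω] {g : ℕ → G} {pt : ℕ → Ω}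
    (M : Md g pt Tm 714 5 B1 21504) : Stage ⊤ (wds g cnth_W) pt 714 [] [cntl4.Pt 0, cntl3.Pt 0, cntl2.Pt 0, cntl1.Pt 0, cntl0.Pt 0] :=
  (cnt_S4 M).next
theorem cne_act {G Ω : Type*} [Group G] [MulAction G Ω] {g : ℕ → G} {pt : ℕ → Ω} {c : ℕ}
    (M : Md g pt Tm 714 5 B1 c) : Act (wds g cne_W) pt cne_P 714 4 :=
  M.wact cne_lt
theorem cnc4_e : ∀ i < 1, (dent cnc4 cne_P (nat_lit 714)) i = 0 := allZ_sound0 cnc4_e_0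
theorem cnc4_ok : DOK cnc4 cne_P 714 := ⟨cnc4_h, cnc4_e⟩
theorem cntn0_1 : ∀ i < 2, (cntn0.ent Tm cnth_P cnx_P cnx_P cne_P (nat_lit 5) (nat_lit 2) B1 cntl4 [] (memO cnc4)) i = 0 := allZ_sound0 cntn0_1_0
theorem cntn0_t {G Ω : Type*} [Group G] [MulAction G Ω] {g : ℕ → G} {pt : ℕ → Ω}
    (M : Md g pt Tm 714 5 B1 21504) : TrO (gen (wds g cnth_W) cntl4.K) (wds g cnx_W) (wds g cnx_W) 2 pt 714 (cntl4.Pt 0) (memO cnc4) :=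
  node M (cnt_S4 M) (cnth_act M) (cnx_act M) (cnx_act M) cntn0 ((cne_act M).mono (by decide)) (fun _ _ => trivial) cntn0_0 cntn0_1 (List.forall_mem_nil _)
theorem cnc3_e : ∀ i < 1, (dent cnc3 cne_P (nat_lit 714)) i = 0 := allZ_sound0 cnc3_e_0
theorem cnc3_ok : DOK cnc3 cne_P 714 := ⟨cnc3_h, cnc3_e⟩
theorem cntn1_1 : ∀ i < 2, (cntn1.ent Tm cnth_P cnx_P cnx_P cne_P (nat_lit 5) (nat_lit 2) B1 cntl3 [cntl4] (memO cnc3)) i = 0 := allZ_sound0 cntn1_1_0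
theorem cntn1_t {G Ω : Type*} [Group G] [MulAction G Ω] {g : ℕ → G} {pt : ℕ → Ω}
    (M : Md g pt Tm 714 5 B1 21504) : TrO (gen (wds g cnth_W) cntl3.K) (wds g cnx_W) (wds g cnx_W) 2 pt 714 (cntl3.Pt 0) (memO cnc3) :=
  node M (cnt_S3 M) (cnth_act M) (cnx_act M) (cnx_act M) cntn1 ((cne_act M).mono (by decide)) (fun _ _ => trivial) cntn1_0 cntn1_1 (List.forall_mem_nil _)
theorem cnc1_e : ∀ i < 3, (dent cnc1 cne_P (nat_lit 714)) i = 0 := allZ_sound0 cnc1_e_0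
theorem cnc1_ok : DOK cnc1 cne_P 714 := ⟨cnc1_h, cnc1_e⟩
theorem cntn2y346_act {G Ω : Type*} [Group G] [MulAction G Ω] {g : ℕ → G} {pt : ℕ → Ω} {c : ℕ}
    (M : Md g pt Tm 714 5 B1 c) : Act (wds g cntn2y346_W) pt cntn2y346_P 714 2 :=
  M.wact cntn2y346_lt
theorem cntr3k_act {G Ω : Type*} [Group G] [MulAction G Ω] {g : ℕ → G} {pt : ℕ → Ω} {c : ℕ}
    (M : Md g pt Tm 714 5 B1 c) : Act (wds g cntr3k_W) pt cntr3k_P 714 2 :=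
  M.wact cntr3k_lt
theorem cntn3y1_act {G Ω : Type*} [Group G] [MulAction G Ω] {g : ℕ → G} {pt : ℕ → Ω} {c : ℕ}
    (M : Md g pt Tm 714 5 B1 c) : Act (wds g cntn3y1_W) pt cntn3y1_P 714 2 :=
  M.wact cntn3y1_lt
theorem cntr4k_act {G Ω : Type*} [Group G] [MulAction G Ω] {g : ℕ → G} {pt : ℕ → Ω} {c : ℕ}
    (M : Md g pt Tm 714 5 B1 c) : Act (wds g cntr4k_W) pt cntr4k_P 714 2 :=
  M.wact cntr4k_lt
theorem cntn4_1 : ∀ i < 2, (cntn4.ent Tm cnth_P cnx_P cntn3y1_P cntr4k_P (nat_lit 5) (nat_lit 2) B1 cntl4 [] (fun _ => nat_lit 1)) i = 0 := allZ_sound0 cntn4_1_0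
theorem cntn4_t {G Ω : Type*} [Group G] [MulAction G Ω] {g : ℕ → G} {pt : ℕ → Ω}
    (M : Md g pt Tm 714 5 B1 21504) : TrO (gen (wds g cnth_W) cntl4.K) (wds g cnx_W) (wds g cntn3y1_W) 2 pt 714 (cntl4.Pt 0) (fun _ => nat_lit 1) :=
  node M (cnt_S4 M) (cnth_act M) (cnx_act M) (cntn3y1_act M) cntn4 ((cntr4k_act M).mono (by decide)) (fun _ _ => trivial) cntn4_0 cntn4_1 (List.forall_mem_nil _)
theorem cntr4 {G Ω : Type*} [Group G] [MulAction G Ω] {g : ℕ → G} {pt : ℕ → Ω}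
    (M : Md g pt Tm 714 5 B1 21504) : Ref (gen (wds g cnth_W) (topK [cntl4])) (wds g cnx_W) (wds g cntn3y1_W) 2 :=
  (cntn4_t M).ref
theorem cntn3_1 : ∀ i < 2, (cntn3.ent Tm cnth_P cnx_P cntn2y346_P cntr3k_P (nat_lit 5) (nat_lit 2) B1 cntl3 [cntl4] (fun _ => nat_lit 1)) i = 0 := allZ_sound0 cntn3_1_0
theorem cntn3_t {G Ω : Type*} [Group G] [MulAction G Ω] {g : ℕ → G} {pt : ℕ → Ω}
    (M : Md g pt Tm 714 5 B1 21504) : TrO (gen (wds g cnth_W) cntl3.K) (wds g cnx_W) (wds g cntn2y346_W) 2 pt 714 (cntl3.Pt 0) (fun _ => nat_lit 1) :=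
  node M (cnt_S3 M) (cnth_act M) (cnx_act M) (cntn2y346_act M) cntn3 ((cntr3k_act M).mono (by decide)) (fun _ _ => trivial) cntn3_0 cntn3_1 (List.forall_mem_cons.2 ⟨cntr4 M, List.forall_mem_nil _⟩)
theorem cntr3 {G Ω : Type*} [Group G] [MulAction G Ω] {g : ℕ → G} {pt : ℕ → Ω}
    (M : Md g pt Tm 714 5 B1 21504) : Ref (gen (wds g cnth_W) (topK [cntl3, cntl4])) (wds g cnx_W) (wds g cntn2y346_W) 2 :=
  (cntn3_t M).ref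
theorem cntn2_1 : ∀ i < 16, (cntn2.ent Tm cnth_P cnx_P cnx_P cne_P (nat_lit 5) (nat_lit 2) B1 cntl1 [cntl2, cntl3, cntl4] (memO cnc1)) i = 0 := allZ_sound0 cntn2_1_0
theorem cntn2_t {G Ω : Type*} [Group G] [MulAction G Ω] {g : ℕ → G} {pt : ℕ → Ω}
    (M : Md g pt Tm 714 5 B1 21504) : TrO (gen (wds g cnth_W) cntl1.K) (wds g cnx_W) (wds g cnx_W) 2 pt 714 (cntl1.Pt 0) (memO cnc1) :=
  node M (cnt_S1 M) (cnth_act M) (cnx_act M) (cnx_act M) cntn2 ((cne_act M).mono (by decide)) (fun _ _ => trivial) cntn2_0 cntn2_1 (List.forall_mem_cons.2 ⟨cntr3 M, List.forall_mem_nil _⟩)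
theorem cntn5y246_act {G Ω : Type*} [Group G] [MulAction G Ω] {g : ℕ → G} {pt : ℕ → Ω} {c : ℕ}
    (M : Md g pt Tm 714 5 B1 c) : Act (wds g cntn5y246_W) pt cntn5y246_P 714 2 :=
  M.wact cntn5y246_lt
theorem cntr6k_act {G Ω : Type*} [Group G] [MulAction G Ω] {g : ℕ → G} {pt : ℕ → Ω} {c : ℕ}
    (M : Md g pt Tm 714 5 B1 c) : Act (wds g cntr6k_W) pt cntr6k_P 714 4 :=
  M.wact cntr6k_lt
theorem cntn6y26_act {G Ω : Type*} [Group G] [MulAction G Ω] {g : ℕ → G} {pt : ℕ → Ω} {c : ℕ}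
    (M : Md g pt Tm 714 5 B1 c) : Act (wds g cntn6y26_W) pt cntn6y26_P 714 2 :=
  M.wact cntn6y26_lt
theorem cntr7k_act {G Ω : Type*} [Group G] [MulAction G Ω] {g : ℕ → G} {pt : ℕ → Ω} {c : ℕ}
    (M : Md g pt Tm 714 5 B1 c) : Act (wds g cntr7k_W) pt cntr7k_P 714 2 :=
  M.wact cntr7k_lt
theorem cntn7y1_act {G Ω : Type*} [Group G] [MulAction G Ω] {g : ℕ → G} {pt : ℕ → Ω} {c : ℕ}
    (M : Md g pt Tm 714 5 B1 c) : Act (wds g cntn7y1_W) pt cntn7y1_P 714 2 :=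
  M.wact cntn7y1_lt
theorem cntr8k_act {G Ω : Type*} [Group G] [MulAction G Ω] {g : ℕ → G} {pt : ℕ → Ω} {c : ℕ}
    (M : Md g pt Tm 714 5 B1 c) : Act (wds g cntr8k_W) pt cntr8k_P 714 2 :=
  M.wact cntr8k_lt
theorem cntn8_1 : ∀ i < 2, (cntn8.ent Tm cnth_P cnx_P cntn7y1_P cntr8k_P (nat_lit 5) (nat_lit 2) B1 cntl4 [] (fun _ => nat_lit 1)) i = 0 := allZ_sound0 cntn8_1_0
theorem cntn8_t {G Ω : Type*} [Group G] [MulAction G Ω] {g : ℕ → G} {pt : ℕ → Ω}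
    (M : Md g pt Tm 714 5 B1 21504) : TrO (gen (wds g cnth_W) cntl4.K) (wds g cnx_W) (wds g cntn7y1_W) 2 pt 714 (cntl4.Pt 0) (fun _ => nat_lit 1) :=
  node M (cnt_S4 M) (cnth_act M) (cnx_act M) (cntn7y1_act M) cntn8 ((cntr8k_act M).mono (by decide)) (fun _ _ => trivial) cntn8_0 cntn8_1 (List.forall_mem_nil _)
theorem cntr8 {G Ω : Type*} [Group G] [MulAction G Ω] {g : ℕ → G} {pt : ℕ → Ω}
    (M : Md g pt Tm 714 5 B1 21504) : Ref (gen (wds g cnth_W) (topK [cntl4])) (wds g cnx_W) (wds g cntn7y1_W) 2 :=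
  (cntn8_t M).ref
theorem cntn7_1 : ∀ i < 2, (cntn7.ent Tm cnth_P cnx_P cntn6y26_P cntr7k_P (nat_lit 5) (nat_lit 2) B1 cntl3 [cntl4] (fun _ => nat_lit 1)) i = 0 := allZ_sound0 cntn7_1_0
theorem cntn7_t {G Ω : Type*} [Group G] [MulAction G Ω] {g : ℕ → G} {pt : ℕ → Ω}
    (M : Md g pt Tm 714 5 B1 21504) : TrO (gen (wds g cnth_W) cntl3.K) (wds g cnx_W) (wds g cntn6y26_W) 2 pt 714 (cntl3.Pt 0) (fun _ => nat_lit 1) :=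
  node M (cnt_S3 M) (cnth_act M) (cnx_act M) (cntn6y26_act M) cntn7 ((cntr7k_act M).mono (by decide)) (fun _ _ => trivial) cntn7_0 cntn7_1 (List.forall_mem_cons.2 ⟨cntr8 M, List.forall_mem_nil _⟩)
theorem cntr7 {G Ω : Type*} [Group G] [MulAction G Ω] {g : ℕ → G} {pt : ℕ → Ω}
    (M : Md g pt Tm 714 5 B1 21504) : Ref (gen (wds g cnth_W) (topK [cntl3, cntl4])) (wds g cnx_W) (wds g cntn6y26_W) 2 :=
  (cntn7_t M).ref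
theorem cntn6y346_act {G Ω : Type*} [Group G] [MulAction G Ω] {g : ℕ → G} {pt : ℕ → Ω} {c : ℕ}
    (M : Md g pt Tm 714 5 B1 c) : Act (wds g cntn6y346_W) pt cntn6y346_P 714 2 :=
  M.wact cntn6y346_lt
theorem cntr9k_act {G Ω : Type*} [Group G] [MulAction G Ω] {g : ℕ → G} {pt : ℕ → Ω} {c : ℕ}
    (M : Md g pt Tm 714 5 B1 c) : Act (wds g cntr9k_W) pt cntr9k_P 714 2 :=
  M.wact cntr9k_lt
theorem cntn9y1_act {G Ω : Type*} [Group G] [MulAction G Ω] {g : ℕ → G} {pt : ℕ → Ω} {c : ℕ}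
    (M : Md g pt Tm 714 5 B1 c) : Act (wds g cntn9y1_W) pt cntn9y1_P 714 2 :=
  M.wact cntn9y1_lt
theorem cntr10k_act {G Ω : Type*} [Group G] [MulAction G Ω] {g : ℕ → G} {pt : ℕ → Ω} {c : ℕ}
    (M : Md g pt Tm 714 5 B1 c) : Act (wds g cntr10k_W) pt cntr10k_P 714 2 :=
  M.wact cntr10k_lt
theorem cntn10_1 : ∀ i < 2, (cntn10.ent Tm cnth_P cnx_P cntn9y1_P cntr10k_P (nat_lit 5) (nat_lit 2) B1 cntl4 [] (fun _ => nat_lit 1)) i = 0 := allZ_sound0 cntn10_1_0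
theorem cntn10_t {G Ω : Type*} [Group G] [MulAction G Ω] {g : ℕ → G} {pt : ℕ → Ω}
    (M : Md g pt Tm 714 5 B1 21504) : TrO (gen (wds g cnth_W) cntl4.K) (wds g cnx_W) (wds g cntn9y1_W) 2 pt 714 (cntl4.Pt 0) (fun _ => nat_lit 1) :=
  node M (cnt_S4 M) (cnth_act M) (cnx_act M) (cntn9y1_act M) cntn10 ((cntr10k_act M).mono (by decide)) (fun _ _ => trivial) cntn10_0 cntn10_1 (List.forall_mem_nil _)
theorem cntr10 {G Ω : Type*} [Group G] [MulAction G Ω] {g : ℕ → G} {pt : ℕ → Ω}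
    (M : Md g pt Tm 714 5 B1 21504) : Ref (gen (wds g cnth_W) (topK [cntl4])) (wds g cnx_W) (wds g cntn9y1_W) 2 :=
  (cntn10_t M).ref
theorem cntn9_1 : ∀ i < 2, (cntn9.ent Tm cnth_P cnx_P cntn6y346_P cntr9k_P (nat_lit 5) (nat_lit 2) B1 cntl3 [cntl4] (fun _ => nat_lit 1)) i = 0 := allZ_sound0 cntn9_1_0
theorem cntn9_t {G Ω : Type*} [Group G] [MulAction G Ω] {g : ℕ → G} {pt : ℕ → Ω}
    (M : Md g pt Tm 714 5 B1 21504) : TrO (gen (wds g cnth_W) cntl3.K) (wds g cnx_W) (wds g cntn6y346_W) 2 pt 714 (cntl3.Pt 0) (fun _ => nat_lit 1) :=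
  node M (cnt_S3 M) (cnth_act M) (cnx_act M) (cntn6y346_act M) cntn9 ((cntr9k_act M).mono (by decide)) (fun _ _ => trivial) cntn9_0 cntn9_1 (List.forall_mem_cons.2 ⟨cntr10 M, List.forall_mem_nil _⟩)
theorem cntr9 {G Ω : Type*} [Group G] [MulAction G Ω] {g : ℕ → G} {pt : ℕ → Ω}
    (M : Md g pt Tm 714 5 B1 21504) : Ref (gen (wds g cnth_W) (topK [cntl3, cntl4])) (wds g cnx_W) (wds g cntn6y346_W) 2 :=
  (cntn9_t M).ref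
theorem cntn6_1 : ∀ i < 16, (cntn6.ent Tm cnth_P cnx_P cntn5y246_P cntr6k_P (nat_lit 5) (nat_lit 2) B1 cntl1 [cntl2, cntl3, cntl4] (fun _ => nat_lit 1)) i = 0 := allZ_sound0 cntn6_1_0
theorem cntn6_t {G Ω : Type*} [Group G] [MulAction G Ω] {g : ℕ → G} {pt : ℕ → Ω}
    (M : Md g pt Tm 714 5 B1 21504) : TrO (gen (wds g cnth_W) cntl1.K) (wds g cnx_W) (wds g cntn5y246_W) 2 pt 714 (cntl1.Pt 0) (fun _ => nat_lit 1) :=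
  node M (cnt_S1 M) (cnth_act M) (cnx_act M) (cntn5y246_act M) cntn6 ((cntr6k_act M).mono (by decide)) (fun _ _ => trivial) cntn6_0 cntn6_1 (List.forall_mem_cons.2 ⟨cntr7 M, List.forall_mem_cons.2 ⟨cntr9 M, List.forall_mem_nil _⟩⟩)
theorem cntr6 {G Ω : Type*} [Group G] [MulAction G Ω] {g : ℕ → G} {pt : ℕ → Ω}
    (M : Md g pt Tm 714 5 B1 21504) : Ref (gen (wds g cnth_W) (topK [cntl1, cntl2, cntl3, cntl4])) (wds g cnx_W) (wds g cntn5y246_W) 2 :=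
  (cntn6_t M).ref
theorem cntn5y488_act {G Ω : Type*} [Group G] [MulAction G Ω] {g : ℕ → G} {pt : ℕ → Ω} {c : ℕ}
    (M : Md g pt Tm 714 5 B1 c) : Act (wds g cntn5y488_W) pt cntn5y488_P 714 2 :=
  M.wact cntn5y488_lt
theorem cntr11k_act {G Ω : Type*} [Group G] [MulAction G Ω] {g : ℕ → G} {pt : ℕ → Ω} {c : ℕ}
    (M : Md g pt Tm 714 5 B1 c) : Act (wds g cntr11k_W) pt cntr11k_P 714 5 :=
  M.wact cntr11k_lt
theorem cntn11_1 : ∀ i < 16, (cntn11.ent Tm cnth_P cnx_P cntn5y488_P cntr11k_P (nat_lit 5) (nat_lit 2) B1 cntl1 [cntl2, cntl3, cntl4] (fun _ => nat_lit 1)) i = 0 := allZ_sound0 cntn11_1_0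
theorem cntn11_t {G Ω : Type*} [Group G] [MulAction G Ω] {g : ℕ → G} {pt : ℕ → Ω}
    (M : Md g pt Tm 714 5 B1 21504) : TrO (gen (wds g cnth_W) cntl1.K) (wds g cnx_W) (wds g cntn5y488_W) 2 pt 714 (cntl1.Pt 0) (fun _ => nat_lit 1) :=
  node M (cnt_S1 M) (cnth_act M) (cnx_act M) (cntn5y488_act M) cntn11 ((cntr11k_act M).mono (by decide)) (fun _ _ => trivial) cntn11_0 cntn11_1 (List.forall_mem_nil _)
theorem cntr11 {G Ω : Type*} [Group G] [MulAction G Ω] {g : ℕ → G} {pt : ℕ → Ω}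
    (M : Md g pt Tm 714 5 B1 21504) : Ref (gen (wds g cnth_W) (topK [cntl1, cntl2, cntl3, cntl4])) (wds g cnx_W) (wds g cntn5y488_W) 2 :=
  (cntn11_t M).ref
theorem cntn5y93_act {G Ω : Type*} [Group G] [MulAction G Ω] {g : ℕ → G} {pt : ℕ → Ω} {c : ℕ}
    (M : Md g pt Tm 714 5 B1 c) : Act (wds g cntn5y93_W) pt cntn5y93_P 714 2 :=
  M.wact cntn5y93_lt
theorem cntr12k_act {G Ω : Type*} [Group G] [MulAction G Ω] {g : ℕ → G} {pt : ℕ → Ω} {c : ℕ}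
    (M : Md g pt Tm 714 5 B1 c) : Act (wds g cntr12k_W) pt cntr12k_P 714 4 :=
  M.wact cntr12k_lt
theorem cntn12_1 : ∀ i < 16, (cntn12.ent Tm cnth_P cnx_P cntn5y93_P cntr12k_P (nat_lit 5) (nat_lit 2) B1 cntl1 [cntl2, cntl3, cntl4] (fun _ => nat_lit 1)) i = 0 := allZ_sound0 cntn12_1_0
theorem cntn12_t {G Ω : Type*} [Group G] [MulAction G Ω] {g : ℕ → G} {pt : ℕ → Ω}
    (M : Md g pt Tm 714 5 B1 21504) : TrO (gen (wds g cnth_W) cntl1.K) (wds g cnx_W) (wds g cntn5y93_W) 2 pt 714 (cntl1.Pt 0) (fun _ => nat_lit 1) :=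
  node M (cnt_S1 M) (cnth_act M) (cnx_act M) (cntn5y93_act M) cntn12 ((cntr12k_act M).mono (by decide)) (fun _ _ => trivial) cntn12_0 cntn12_1 (List.forall_mem_nil _)
theorem cntr12 {G Ω : Type*} [Group G] [MulAction G Ω] {g : ℕ → G} {pt : ℕ → Ω}
    (M : Md g pt Tm 714 5 B1 21504) : Ref (gen (wds g cnth_W) (topK [cntl1, cntl2, cntl3, cntl4])) (wds g cnx_W) (wds g cntn5y93_W) 2 :=
  (cntn12_t M).ref
theorem cntn5_1 : ∀ i < 42, (cntn5.ent Tm cnth_P cnx_P cnx_P cne_P (nat_lit 5) (nat_lit 2) B1 cntl0 [cntl1, cntl2, cntl3, cntl4] (fun w => Nat.xor w (cntl0.Pt (nat_lit 0)))) i = 0 := allZ_sound0 cntn5_1_0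
theorem cntn5_t {G Ω : Type*} [Group G] [MulAction G Ω] {g : ℕ → G} {pt : ℕ → Ω}
    (M : Md g pt Tm 714 5 B1 21504) : TrO (gen (wds g cnth_W) cntl0.K) (wds g cnx_W) (wds g cnx_W) 2 pt 714 (cntl0.Pt 0) (fun w => Nat.xor w (cntl0.Pt (nat_lit 0))) :=
  node M (cnt_S0 M) (cnth_act M) (cnx_act M) (cnx_act M) cntn5 ((cne_act M).mono (by decide)) (fun _ _ => trivial) cntn5_0 cntn5_1 (List.forall_mem_cons.2 ⟨cntr6 M, List.forall_mem_cons.2 ⟨cntr11 M, List.forall_mem_cons.2 ⟨cntr12 M, List.forall_mem_nil _⟩⟩⟩)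
theorem cn {G Ω : Type*} [Group G] [MulAction G Ω] {g : ℕ → G} {pt : ℕ → Ω}
    (M : Md g pt Tm 714 5 B1 21504) : Cen ⊤ (wds g cnx_W) 2 (wds g cne_W) pt 714 [cnc1, cnc3, cnc4] :=
  (cnt_S0 M).top ▸ Cen.triv (cnt_S0 M) (Cen.lev M (cnt_S1 M) (Cen.triv (cnt_S2 M) (Cen.lev M (cnt_S3 M) (Cen.lev M (cnt_S4 M) (Cen.bot) (cntn0_t M) (cnx_act M) (cne_act M) (fun _ _ => trivial) cnc4_ok cn_f4) (cntn1_t M) (cnx_act M) (cne_act M) (fun _ _ => trivial) cnc3_ok cn_f3) (forced (cnt_S2 M) (cnth_act M) (cnx_act M) _ _ cn_f2)) (cntn2_t M) (cnx_act M) (cne_act M) (fun _ _ => trivial) cnc1_ok cn_f1) (cntn5_t M)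
theorem cn_eq {G Ω : Type*} [Group G] [MulAction G Ω] {g : ℕ → G} {pt : ℕ → Ω}
    (M : Md g pt Tm 714 5 B1 21504) : Subgroup.centralizer (gen (wds g cnx_W) 2) = gen (wds g cne_W) 4 ∧ Nat.card (gen (wds g cne_W) 4) = 16 :=
  cn_c.1 ▸ cn_c.2 ▸ ⟨(cn M).cent, (cn M).card M.inj⟩
theorem en50a : ∀ k < 4, ∀ i < 16, (tupEnt cne_P en50T en50N (nat_lit 714) (nat_lit 16) (nat_lit 4)) k i = 0 := allZ2_sound en50a_a
theorem en50b : ∀ i < 16, (enEnt cne_P en50T en50W (nat_lit 4)) i = 0 := allZ_sound0 en50b_0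
theorem cl51 : ∀ i < 16, (clEnt cne_P (wdsP Tm wW) 55 56 B1 cl51L en50W) i = 0 := allZ_sound0 cl51_0
theorem cl51g {G Ω : Type*} [Group G] [MulAction G Ω] {pt : ℕ → Ω} {w : ℕ → G} (S : Bm G pt 714 B1) (hw : Act w pt (wdsP Tm wW) 714 56) {x : ℕ → G}
    (e : En x 4 en50W 16) (hx : Act x pt cne_P 714 4) : ∀ v ∈ gen x 4,
    v = 1 ∨ v = w 0 ∨ v * w 38 * w 39 = w 38 * v * w 39 * w 36 ∨ v * w 40 * w 39 = w 40 * v * w 39 * w 37 ∨ v * w 41 * w 35 = w 41 * v * w 35 * w 37 ∨ v * w 42 * w 43 = w 42 * v * w 43 * w 37 := S.cls e hx hw en50c.2.1 cl51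
theorem le52 : ∀ i < 3, (leEnt (pk (catP (wdsP P wG) 55 (wdsP P uW)) [44, 45, 91]) (pk (catP (wdsP P wG) 55 (wdsP P uW)) [0, 84, 85]) 3 B le52W) i = 0 := allZ_sound0 le52_0
theorem le53 : ∀ i < 3, (leEnt (pk (catP (wdsP P wG) 55 (wdsP P uW)) [46, 47, 92]) (pk (catP (wdsP P wG) 55 (wdsP P uW)) [0, 84, 85]) 3 B le53W) i = 0 := allZ_sound0 le53_0
theorem le55 : ∀ i < 4, (leEnt t_P nu_P 10 B1 le55W) i = 0 := allZ_sound0 le55_0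
theorem co56 : ∀ i < 2, (comEnt nu_P cnx_P 4 B1 co56U co56V) i = 0 := allZ_sound0 co56_0
theorem le57 : ∀ i < 3, (leEnt (pk (catP (wdsP P wG) 55 (wdsP P uW)) [93, 94, 95]) (pk (catP (wdsP P wG) 55 (wdsP P uW)) [0, 84, 85]) 3 B le57W) i = 0 := allZ_sound0 le57_0
theorem zlx_act {G Ω : Type*} [Group G] [MulAction G Ω] {g : ℕ → G} {pt : ℕ → Ω} {c : ℕ}
    (M : Md g pt Tm 714 6 B1 c) : Act (wds g zlx_W) pt zlx_P 714 9 :=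
  M.wact zlx_lt
theorem zlth_act {G Ω : Type*} [Group G] [MulAction G Ω] {g : ℕ → G} {pt : ℕ → Ω} {c : ℕ}
    (M : Md g pt Tm 714 6 B1 c) : Act (wds g zlth_W) pt zlth_P 714 13 :=
  M.wact zlth_lt
theorem zltl0_e : ∀ i < 671, (dent zltl0 zlth_P (nat_lit 714)) i = 0 := allZ_sound0 zltl0_e_0
theorem zltl0_ok : DOK zltl0 zlth_P 714 := ⟨zltl0_h, zltl0_e⟩
theorem zltl1_e : ∀ i < 1, (dent zltl1 zlth_P (nat_lit 714)) i = 0 := allZ_sound0 zltl1_e_0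
theorem zltl1_ok : DOK zltl1 zlth_P 714 := ⟨zltl1_h, zltl1_e⟩
theorem zltl2_e : ∀ i < 3, (dent zltl2 zlth_P (nat_lit 714)) i = 0 := allZ_sound0 zltl2_e_0
theorem zltl2_ok : DOK zltl2 zlth_P 714 := ⟨zltl2_h, zltl2_e⟩
theorem zltl3_e : ∀ i < 7, (dent zltl3 zlth_P (nat_lit 714)) i = 0 := allZ_sound0 zltl3_e_0
theorem zltl3_ok : DOK zltl3 zlth_P 714 := ⟨zltl3_h, zltl3_e⟩
theorem zlt_low {G Ω : Type*} [Group G] [MulAction G Ω] {g : ℕ → G} {pt : ℕ → Ω} {c : ℕ}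
    (M : Md g pt Tm 714 6 B1 c) : SLow (gi (wds g zlth_W)) pt 714 [zltl0, zltl1, zltl2, zltl3] :=
  ((((SLow.nil).cons zltl3_ok (zlth_act M) zlt_f3).cons zltl2_ok (zlth_act M) zlt_f2).cons zltl1_ok (zlth_act M) zlt_f1).cons zltl0_ok (zlth_act M) zlt_f0
theorem zlt_S0 {G Ω : Type*} [Group G] [MulAction G Ω] {g : ℕ → G} {pt : ℕ → Ω}
    (M : Md g pt Tm 714 6 B1 43008) : Stage ⊤ (wds g zlth_W) pt 714 [zltl0, zltl1, zltl2, zltl3] [] :=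
  M.stage (zlt_low M) zlt_c
theorem zlt_S1 {G Ω : Type*} [Group G] [MulAction G Ω] {g : ℕ → G} {pt : ℕ → Ω}
    (M : Md g pt Tm 714 6 B1 43008) : Stage ⊤ (wds g zlth_W) pt 714 [zltl1, zltl2, zltl3] [zltl0.Pt 0] :=
  (zlt_S0 M).next
theorem zlt_S2 {G Ω : Type*} [Group G] [MulAction G Ω] {g : ℕ → G} {pt : ℕ → Ω}
    (M : Md g pt Tm 714 6 B1 43008) : Stage ⊤ (wds g zlth_W) pt 714 [zltl2, zltl3] [zltl1.Pt 0, zltl0.Pt 0] :=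
  (zlt_S1 M).next
theorem zlt_S3 {G Ω : Type*} [Group G] [MulAction G Ω] {g : ℕ → G} {pt : ℕ → Ω}
    (M : Md g pt Tm 714 6 B1 43008) : Stage ⊤ (wds g zlth_W) pt 714 [zltl3] [zltl2.Pt 0, zltl1.Pt 0, zltl0.Pt 0] :=
  (zlt_S2 M).next
theorem zlt_S4 {G Ω : Type*} [Group G] [MulAction G Ω] {g : ℕ → G} {pt : ℕ → Ω}
    (M : Md g pt Tm 714 6 B1 43008) : Stage ⊤ (wds g zlth_W) pt 714 [] [zltl3.Pt 0, zltl2.Pt 0, zltl1.Pt 0, zltl0.Pt 0] :=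
  (zlt_S3 M).next
theorem zle_act {G Ω : Type*} [Group G] [MulAction G Ω] {g : ℕ → G} {pt : ℕ → Ω} {c : ℕ}
    (M : Md g pt Tm 714 6 B1 c) : Act (wds g zle_W) pt zle_P 714 2 :=
  M.wact zle_lt
theorem zlc0_e : ∀ i < 3, (dent zlc0 zle_P (nat_lit 714)) i = 0 := allZ_sound0 zlc0_e_0
theorem zlc0_ok : DOK zlc0 zle_P 714 := ⟨zlc0_h, zlc0_e⟩
theorem zltn0_1 : ∀ i < 672, (zltn0.ent Tm zlth_P zlx_P zlx_P zle_P (nat_lit 6) (nat_lit 9) B1 zltl0 [zltl1, zltl2, zltl3] (memO zlc0)) i = 0 := allZ_sound0 zltn0_1_0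
theorem zltn0_t {G Ω : Type*} [Group G] [MulAction G Ω] {g : ℕ → G} {pt : ℕ → Ω}
    (M : Md g pt Tm 714 6 B1 43008) : TrO (gen (wds g zlth_W) zltl0.K) (wds g zlx_W) (wds g zlx_W) 9 pt 714 (zltl0.Pt 0) (memO zlc0) :=
  node M (zlt_S0 M) (zlth_act M) (zlx_act M) (zlx_act M) zltn0 ((zle_act M).mono (by decide)) (fun _ _ => trivial) zltn0_0 zltn0_1 (List.forall_mem_nil _)
theorem zl {G Ω : Type*} [Group G] [MulAction G Ω] {g : ℕ → G} {pt : ℕ → Ω}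
    (M : Md g pt Tm 714 6 B1 43008) : Cen ⊤ (wds g zlx_W) 9 (wds g zle_W) pt 714 [zlc0] :=
  (zlt_S0 M).top ▸ Cen.lev M (zlt_S0 M) (Cen.triv (zlt_S1 M) (Cen.triv (zlt_S2 M) (Cen.triv (zlt_S3 M) (Cen.bot) (forced (zlt_S3 M) (zlth_act M) (zlx_act M) _ _ zl_f3)) (forced (zlt_S2 M) (zlth_act M) (zlx_act M) _ _ zl_f2)) (forced (zlt_S1 M) (zlth_act M) (zlx_act M) _ _ zl_f1)) (zltn0_t M) (zlx_act M) (zle_act M) (fun _ _ => trivial) zlc0_ok zl_f0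
theorem zl_eq {G Ω : Type*} [Group G] [MulAction G Ω] {g : ℕ → G} {pt : ℕ → Ω}
    (M : Md g pt Tm 714 6 B1 43008) : Subgroup.centralizer (gen (wds g zlx_W) 9) = gen (wds g zle_W) 2 ∧ Nat.card (gen (wds g zle_W) 2) = 4 :=
  zl_c.1 ▸ zl_c.2 ▸ ⟨(zl M).cent, (zl M).card M.inj⟩
theorem en58a : ∀ k < 2, ∀ i < 4, (tupEnt zle_P en58T en58N (nat_lit 714) (nat_lit 4) (nat_lit 4)) k i = 0 := allZ2_sound en58a_a
theorem en58b : ∀ i < 4, (enEnt zle_P en58T en58W (nat_lit 4)) i = 0 := allZ_sound0 en58b_0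
theorem cl59 : ∀ i < 4, (clEnt zle_P (wdsP Tm wW) 55 56 B1 cl59L en58W) i = 0 := allZ_sound0 cl59_0
theorem cl59g {G Ω : Type*} [Group G] [MulAction G Ω] {pt : ℕ → Ω} {w : ℕ → G} (S : Bm G pt 714 B1) (hw : Act w pt (wdsP Tm wW) 714 56) {x : ℕ → G}
    (e : En x 2 en58W 4) (hx : Act x pt zle_P 714 2) : ∀ v ∈ gen x 2,
    v = 1 ∨ v = w 3 ∨ v = w 0 ∨ v = w 3 * w 0 := S.cls e hx hw en58c.2.1 cl59
theorem nvk : ∀ i < 10, (cllEnt gle_P (catP (wdsP P wG) 55 (wdsP P uW)) 101 (55 + 47) B [(true, [nat_lit 48, nat_lit 101], [nat_lit 101, nat_lit 48]), (true, [nat_lit 48, nat_lit 101], [nat_lit 101, nat_lit 48, nat_lit 3])]) i = 0 := allZ_sound0 nvk_0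
theorem cle_q : ∀ k < 9, ∀ i < 714, (matEnt cle_P cle_Q) k i = 0 := allZ2_sound cle_q_a
theorem en60a : ∀ k < 9, ∀ i < 512, (tupEnt cle_Q en60T en60N (nat_lit 714) (nat_lit 512) (nat_lit 4)) k i = 0 := allZ2_sound en60a_a
theorem en60b : ∀ i < 512, (enEnt cle_Q en60T en60W (nat_lit 4)) i = 0 := allZ_sound0 en60b_0
theorem cl61 : ∀ i < 512, (clEnt cle_Q (wdsP Tm wW) 55 56 B1 cl61L en60W) i = 0 := allZ_sound0 cl61_0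
theorem cl61g {G Ω : Type*} [Group G] [MulAction G Ω] {pt : ℕ → Ω} {w : ℕ → G} (S : Bm G pt 714 B1) (hw : Act w pt (wdsP Tm wW) 714 56) {x : ℕ → G}
    (e : En x 9 en60W 512) (hx : Act x pt cle_Q 714 9) : ∀ v ∈ gen x 9,
    v * v ≠ w 3 * w 0 ∨ v * w 48 ≠ w 48 * v := S.cls e hx hw en60c.2.1 cl61
theorem le63 : ∀ i < 9, (leEnt t_P cle_P 10 B1 le63W) i = 0 := allZ_sound0 le63_0
theorem co65 : ∀ i < 2, (comEnt (pk (catP (wdsP P wG) 55 (wdsP P uW)) [100, 49]) (pk (catP (wdsP P wG) 55 (wdsP P uW)) [100, 49]) 2 B co65U co65V) i = 0 := allZ_sound0 co65_0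
theorem cs68 : ∀ k < 2, ∀ i < 2, (cmEnt t_P t_P B1) k i = 0 := allZ2_sound cs68_a
theorem co69 : ∀ i < 1, (comEnt t_P t_P 10 B1 co69U co69V) i = 0 := allZ_sound0 co69_0
theorem ns70 : ∀ k < 4, ∀ i < 1, (nrmEnt t_P Tm (nat_lit 1) B1 ns70W) k i = 0 := allZ2_sound ns70_a
theorem cpx_act {G Ω : Type*} [Group G] [MulAction G Ω] {g : ℕ → G} {pt : ℕ → Ω} {c : ℕ}
    (M : Md g pt Tm 714 5 B1 c) : Act (wds g cpx_W) pt cpx_P 714 1 :=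
  M.wact cpx_lt
theorem cpth_act {G Ω : Type*} [Group G] [MulAction G Ω] {g : ℕ → G} {pt : ℕ → Ω} {c : ℕ}
    (M : Md g pt Tm 714 5 B1 c) : Act (wds g cpth_W) pt cpth_P 714 10 :=
  M.wact cpth_lt
theorem cptl0_e : ∀ i < 41, (dent cptl0 cpth_P (nat_lit 714)) i = 0 := allZ_sound0 cptl0_e_0
theorem cptl0_ok : DOK cptl0 cpth_P 714 := ⟨cptl0_h, cptl0_e⟩
theorem cptl1_e : ∀ i < 15, (dent cptl1 cpth_P (nat_lit 714)) i = 0 := allZ_sound0 cptl1_e_0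
theorem cptl1_ok : DOK cptl1 cpth_P 714 := ⟨cptl1_h, cptl1_e⟩
theorem cptl2_e : ∀ i < 1, (dent cptl2 cpth_P (nat_lit 714)) i = 0 := allZ_sound0 cptl2_e_0
theorem cptl2_ok : DOK cptl2 cpth_P 714 := ⟨cptl2_h, cptl2_e⟩
theorem cptl3_e : ∀ i < 1, (dent cptl3 cpth_P (nat_lit 714)) i = 0 := allZ_sound0 cptl3_e_0
theorem cptl3_ok : DOK cptl3 cpth_P 714 := ⟨cptl3_h, cptl3_e⟩
theorem cptl4_e : ∀ i < 1, (dent cptl4 cpth_P (nat_lit 714)) i = 0 := allZ_sound0 cptl4_e_0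
theorem cptl4_ok : DOK cptl4 cpth_P 714 := ⟨cptl4_h, cptl4_e⟩
theorem cptl5_e : ∀ i < 1, (dent cptl5 cpth_P (nat_lit 714)) i = 0 := allZ_sound0 cptl5_e_0
theorem cptl5_ok : DOK cptl5 cpth_P 714 := ⟨cptl5_h, cptl5_e⟩
theorem cptl6_e : ∀ i < 1, (dent cptl6 cpth_P (nat_lit 714)) i = 0 := allZ_sound0 cptl6_e_0
theorem cptl6_ok : DOK cptl6 cpth_P 714 := ⟨cptl6_h, cptl6_e⟩
theorem cpt_low {G Ω : Type*} [Group G] [MulAction G Ω] {g : ℕ → G} {pt : ℕ → Ω} {c : ℕ}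
    (M : Md g pt Tm 714 5 B1 c) : SLow (gi (wds g cpth_W)) pt 714 [cptl0, cptl1, cptl2, cptl3, cptl4, cptl5, cptl6] :=
  (((((((SLow.nil).cons cptl6_ok (cpth_act M) cpt_f6).cons cptl5_ok (cpth_act M) cpt_f5).cons cptl4_ok (cpth_act M) cpt_f4).cons cptl3_ok (cpth_act M) cpt_f3).cons cptl2_ok (cpth_act M) cpt_f2).cons cptl1_ok (cpth_act M) cpt_f1).cons cptl0_ok (cpth_act M) cpt_f0
theorem cpt_S0 {G Ω : Type*} [Group G] [MulAction G Ω] {g : ℕ → G} {pt : ℕ → Ω}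
    (M : Md g pt Tm 714 5 B1 21504) : Stage ⊤ (wds g cpth_W) pt 714 [cptl0, cptl1, cptl2, cptl3, cptl4, cptl5, cptl6] [] :=
  M.stage (cpt_low M) cpt_c
theorem cpt_S1 {G Ω : Type*} [Group G] [MulAction G Ω] {g : ℕ → G} {pt : ℕ → Ω}
    (M : Md g pt Tm 714 5 B1 21504) : Stage ⊤ (wds g cpth_W) pt 714 [cptl1, cptl2, cptl3, cptl4, cptl5, cptl6] [cptl0.Pt 0] :=
  (cpt_S0 M).next
theorem cpt_S2 {G Ω : Type*} [Group G] [MulAction G Ω] {g : ℕ → G} {pt : ℕ → Ω}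
    (M : Md g pt Tm 714 5 B1 21504) : Stage ⊤ (wds g cpth_W) pt 714 [cptl2, cptl3, cptl4, cptl5, cptl6] [cptl1.Pt 0, cptl0.Pt 0] :=
  (cpt_S1 M).next
theorem cpt_S3 {G Ω : Type*} [Group G] [MulAction G Ω] {g : ℕ → G} {pt : ℕ → Ω}
    (M : Md g pt Tm 714 5 B1 21504) : Stage ⊤ (wds g cpth_W) pt 714 [cptl3, cptl4, cptl5, cptl6] [cptl2.Pt 0, cptl1.Pt 0, cptl0.Pt 0] :=
  (cpt_S2 M).next
theorem cpt_S4 {G Ω : Type*} [Group G] [MulAction G Ω] {g : ℕ → G} {pt : ℕ → Ω}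
    (M : Md g pt Tm 714 5 B1 21504) : Stage ⊤ (wds g cpth_W) pt 714 [cptl4, cptl5, cptl6] [cptl3.Pt 0, cptl2.Pt 0, cptl1.Pt 0, cptl0.Pt 0] :=
  (cpt_S3 M).next
theorem cpt_S5 {G Ω : Type*} [Group G] [MulAction G Ω] {g : ℕ → G} {pt : ℕ → Ω}
    (M : Md g pt Tm 714 5 B1 21504) : Stage ⊤ (wds g cpth_W) pt 714 [cptl5, cptl6] [cptl4.Pt 0, cptl3.Pt 0, cptl2.Pt 0, cptl1.Pt 0, cptl0.Pt 0] :=
  (cpt_S4 M).next
theorem cpt_S6 {G Ω : Type*} [Group G] [MulAction G Ω] {g : ℕ → G} {pt : ℕ → Ω}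
    (M : Md g pt Tm 714 5 B1 21504) : Stage ⊤ (wds g cpth_W) pt 714 [cptl6] [cptl5.Pt 0, cptl4.Pt 0, cptl3.Pt 0, cptl2.Pt 0, cptl1.Pt 0, cptl0.Pt 0] :=
  (cpt_S5 M).next
theorem cpt_S7 {G Ω : Type*} [Group G] [MulAction G Ω] {g : ℕ → G} {pt : ℕ → Ω}
    (M : Md g pt Tm 714 5 B1 21504) : Stage ⊤ (wds g cpth_W) pt 714 [] [cptl6.Pt 0, cptl5.Pt 0, cptl4.Pt 0, cptl3.Pt 0, cptl2.Pt 0, cptl1.Pt 0, cptl0.Pt 0] :=
  (cpt_S6 M).next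
theorem cpe_act {G Ω : Type*} [Group G] [MulAction G Ω] {g : ℕ → G} {pt : ℕ → Ω} {c : ℕ}
    (M : Md g pt Tm 714 5 B1 c) : Act (wds g cpe_W) pt cpe_P 714 4 :=
  M.wact cpe_lt
theorem cpc6_e : ∀ i < 1, (dent cpc6 cpe_P (nat_lit 714)) i = 0 := allZ_sound0 cpc6_e_0
theorem cpc6_ok : DOK cpc6 cpe_P 714 := ⟨cpc6_h, cpc6_e⟩
theorem cptn0_1 : ∀ i < 2, (cptn0.ent Tm cpth_P cpx_P cpx_P cpe_P (nat_lit 5) (nat_lit 1) B1 cptl6 [] (memO cpc6)) i = 0 := allZ_sound0 cptn0_1_0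
theorem cptn0_t {G Ω : Type*} [Group G] [MulAction G Ω] {g : ℕ → G} {pt : ℕ → Ω}
    (M : Md g pt Tm 714 5 B1 21504) : TrO (gen (wds g cpth_W) cptl6.K) (wds g cpx_W) (wds g cpx_W) 1 pt 714 (cptl6.Pt 0) (memO cpc6) :=
  node M (cpt_S6 M) (cpth_act M) (cpx_act M) (cpx_act M) cptn0 ((cpe_act M).mono (by decide)) (fun _ _ => trivial) cptn0_0 cptn0_1 (List.forall_mem_nil _)
theorem cpc3_e : ∀ i < 1, (dent cpc3 cpe_P (nat_lit 714)) i = 0 := allZ_sound0 cpc3_e_0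
theorem cpc3_ok : DOK cpc3 cpe_P 714 := ⟨cpc3_h, cpc3_e⟩
theorem cptn1_1 : ∀ i < 2, (cptn1.ent Tm cpth_P cpx_P cpx_P cpe_P (nat_lit 5) (nat_lit 1) B1 cptl3 [cptl4, cptl5, cptl6] (memO cpc3)) i = 0 := allZ_sound0 cptn1_1_0
theorem cptn1_t {G Ω : Type*} [Group G] [MulAction G Ω] {g : ℕ → G} {pt : ℕ → Ω}
    (M : Md g pt Tm 714 5 B1 21504) : TrO (gen (wds g cpth_W) cptl3.K) (wds g cpx_W) (wds g cpx_W) 1 pt 714 (cptl3.Pt 0) (memO cpc3) :=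
  node M (cpt_S3 M) (cpth_act M) (cpx_act M) (cpx_act M) cptn1 ((cpe_act M).mono (by decide)) (fun _ _ => trivial) cptn1_0 cptn1_1 (List.forall_mem_nil _)
theorem cpc2_e : ∀ i < 1, (dent cpc2 cpe_P (nat_lit 714)) i = 0 := allZ_sound0 cpc2_e_0
theorem cpc2_ok : DOK cpc2 cpe_P 714 := ⟨cpc2_h, cpc2_e⟩
theorem cptn2_1 : ∀ i < 2, (cptn2.ent Tm cpth_P cpx_P cpx_P cpe_P (nat_lit 5) (nat_lit 1) B1 cptl2 [cptl3, cptl4, cptl5, cptl6] (memO cpc2)) i = 0 := allZ_sound0 cptn2_1_0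
theorem cptn2_t {G Ω : Type*} [Group G] [MulAction G Ω] {g : ℕ → G} {pt : ℕ → Ω}
    (M : Md g pt Tm 714 5 B1 21504) : TrO (gen (wds g cpth_W) cptl2.K) (wds g cpx_W) (wds g cpx_W) 1 pt 714 (cptl2.Pt 0) (memO cpc2) :=
  node M (cpt_S2 M) (cpth_act M) (cpx_act M) (cpx_act M) cptn2 ((cpe_act M).mono (by decide)) (fun _ _ => trivial) cptn2_0 cptn2_1 (List.forall_mem_nil _)
theorem cpc0_e : ∀ i < 2, (dent cpc0 cpe_P (nat_lit 714)) i = 0 := allZ_sound0 cpc0_e_0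
theorem cpc0_ok : DOK cpc0 cpe_P 714 := ⟨cpc0_h, cpc0_e⟩
theorem cptn3_1 : ∀ i < 42, (cptn3.ent Tm cpth_P cpx_P cpx_P cpe_P (nat_lit 5) (nat_lit 1) B1 cptl0 [cptl1, cptl2, cptl3, cptl4, cptl5, cptl6] (memO cpc0)) i = 0 := allZ_sound0 cptn3_1_0
theorem cptn3_t {G Ω : Type*} [Group G] [MulAction G Ω] {g : ℕ → G} {pt : ℕ → Ω}
    (M : Md g pt Tm 714 5 B1 21504) : TrO (gen (wds g cpth_W) cptl0.K) (wds g cpx_W) (wds g cpx_W) 1 pt 714 (cptl0.Pt 0) (memO cpc0) :=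
  node M (cpt_S0 M) (cpth_act M) (cpx_act M) (cpx_act M) cptn3 ((cpe_act M).mono (by decide)) (fun _ _ => trivial) cptn3_0 cptn3_1 (List.forall_mem_nil _)
theorem cp {G Ω : Type*} [Group G] [MulAction G Ω] {g : ℕ → G} {pt : ℕ → Ω}
    (M : Md g pt Tm 714 5 B1 21504) : Cen ⊤ (wds g cpx_W) 1 (wds g cpe_W) pt 714 [cpc0, cpc2, cpc3, cpc6] :=
  (cpt_S0 M).top ▸ Cen.lev M (cpt_S0 M) (Cen.triv (cpt_S1 M) (Cen.lev M (cpt_S2 M) (Cen.lev M (cpt_S3 M) (Cen.triv (cpt_S4 M) (Cen.triv (cpt_S5 M) (Cen.lev M (cpt_S6 M) (Cen.bot) (cptn0_t M) (cpx_act M) (cpe_act M) (fun _ _ => trivial) cpc6_ok cp_f6) (forced (cpt_S5 M) (cpth_act M) (cpx_act M) _ _ cp_f5)) (forced (cpt_S4 M) (cpth_act M) (cpx_act M) _ _ cp_f4)) (cptn1_t M) (cpx_act M) (cpe_act M) (fun _ _ => trivial) cpc3_ok cp_f3) (cptn2_t M) (cpx_act M) (cpe_act M) (fun _ _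 => trivial) cpc2_ok cp_f2) (forced (cpt_S1 M) (cpth_act M) (cpx_act M) _ _ cp_f1)) (cptn3_t M) (cpx_act M) (cpe_act M) (fun _ _ => trivial) cpc0_ok cp_f0
theorem cp_card {G Ω : Type*} [Group G] [MulAction G Ω] {g : ℕ → G} {pt : ℕ → Ω}
    (M : Md g pt Tm 714 5 B1 21504) : Nat.card (Subgroup.centralizer {(wds g cpx_W) 0}) = 24 :=
  (cp M).card_cent1 M.inj cp_c.1
theorem cp_eq {G Ω : Type*} [Group G] [MulAction G Ω] {g : ℕ → G} {pt : ℕ → Ω}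
    (M : Md g pt Tm 714 5 B1 21504) : Subgroup.centralizer (gen (wds g cpx_W) 1) = gen (wds g cpe_W) 4 ∧ Nat.card (gen (wds g cpe_W) 4) = 24 :=
  cp_c.1 ▸ cp_c.2 ▸ ⟨(cp M).cent, (cp M).card M.inj⟩
theorem en71a : ∀ k < 4, ∀ i < 24, (tupEnt cpe_P en71T en71N (nat_lit 714) (nat_lit 24) (nat_lit 4)) k i = 0 := allZ2_sound en71a_a
theorem en71b : ∀ i < 24, (enEnt cpe_P en71T en71W (nat_lit 4)) i = 0 := allZ_sound0 en71b_0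
theorem cl72 : ∀ i < 24, (clEnt cpe_P (wdsP Tm wW) 55 56 B1 cl72L en71W) i = 0 := allZ_sound0 cl72_0
theorem cl72g {G Ω : Type*} [Group G] [MulAction G Ω] {pt : ℕ → Ω} {w : ℕ → G} (S : Bm G pt 714 B1) (hw : Act w pt (wdsP Tm wW) 714 56) {x : ℕ → G}
    (e : En x 4 en71W 24) (hx : Act x pt cpe_P 714 4) : ∀ v ∈ gen x 4,
    v * v ≠ 1 ∨ v = 1 ∨ v = w 0 ∨ v = w 1 ∨ v = w 0 * w 1 ∨ v = w 2 ∨ v = w 0 * w 2 := S.cls e hx hw en71c.2.1 cl72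
theorem le73 : ∀ i < 2, (leEnt pf_P (pk (wdsP Tm wW) [4, 50]) 1 B1 le73W) i = 0 := allZ_sound0 le73_0
theorem rq_act {G Ω : Type*} [Group G] [MulAction G Ω] {g : ℕ → G} {pt : ℕ → Ω} {c : ℕ}
    (M : Md g pt Tm 714 6 B1 c) : Act (wds g rq_W) pt rq_P 714 6 :=
  M.wact rq_lt
theorem ns74 : ∀ k < 5, ∀ i < 6, (nrmEnt rq_P Tm (nat_lit 6) B1 ns74W) k i = 0 := allZ2_sound ns74_a
theorem rv0_act {G Ω : Type*} [Group G] [MulAction G Ω] {g : ℕ → G} {pt : ℕ → Ω} {c : ℕ}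
    (M : Md g pt Tm 714 6 B1 c) : Act (wds g rv0_W) pt rv0_P 714 4 :=
  M.wact rv0_lt
theorem ns75 : ∀ k < 5, ∀ i < 4, (nrmEnt rv0_P Tm (nat_lit 4) B1 ns75W) k i = 0 := allZ2_sound ns75_a
theorem rv0_q : ∀ k < 4, ∀ i < 714, (matEnt rv0_P rv0_Q) k i = 0 := allZ2_sound rv0_q_a
theorem en76a : ∀ k < 4, ∀ i < 16, (tupEnt rv0_Q en76T en76N (nat_lit 714) (nat_lit 16) (nat_lit 4)) k i = 0 := allZ2_sound en76a_a
theorem en76b : ∀ i < 16, (enEnt rv0_Q en76T en76W (nat_lit 4)) i = 0 := allZ_sound0 en76b_0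
theorem cl77 : ∀ i < 16, (clEnt rv0_Q (pk (wdsP Tm wW) [4, 50, 1, 2, 51, 51]) 4 6 B1 cl77L en76W) i = 0 := allZ_sound0 cl77_0
theorem rv1_act {G Ω : Type*} [Group G] [MulAction G Ω] {g : ℕ → G} {pt : ℕ → Ω} {c : ℕ}
    (M : Md g pt Tm 714 6 B1 c) : Act (wds g rv1_W) pt rv1_P 714 4 :=
  M.wact rv1_lt
theorem ns79 : ∀ k < 5, ∀ i < 4, (nrmEnt rv1_P Tm (nat_lit 4) B1 ns79W) k i = 0 := allZ2_sound ns79_a
theorem rv1_q : ∀ k < 4, ∀ i < 714, (matEnt rv1_P rv1_Q) k i = 0 := allZ2_sound rv1_q_a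
theorem en80a : ∀ k < 4, ∀ i < 16, (tupEnt rv1_Q en80T en80N (nat_lit 714) (nat_lit 16) (nat_lit 4)) k i = 0 := allZ2_sound en80a_a
theorem en80b : ∀ i < 16, (enEnt rv1_Q en80T en80W (nat_lit 4)) i = 0 := allZ_sound0 en80b_0
theorem cl81 : ∀ i < 16, (clEnt rv1_Q (pk (wdsP Tm wW) [4, 50, 1, 2, 11, 11]) 4 6 B1 cl81L en80W) i = 0 := allZ_sound0 cl81_0
theorem cqth_act {G Ω : Type*} [Group G] [MulAction G Ω] {g : ℕ → G} {pt : ℕ → Ω} {c : ℕ}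
    (M : Md g pt Tm 714 6 B1 c) : Act (wds g cqth_W) pt cqth_P 714 11 :=
  M.wact cqth_lt
theorem cqtl0_e : ∀ i < 671, (dent cqtl0 cqth_P (nat_lit 714)) i = 0 := allZ_sound0 cqtl0_e_0
theorem cqtl0_ok : DOK cqtl0 cqth_P 714 := ⟨cqtl0_h, cqtl0_e⟩
theorem cqtl1_e : ∀ i < 3, (dent cqtl1 cqth_P (nat_lit 714)) i = 0 := allZ_sound0 cqtl1_e_0
theorem cqtl1_ok : DOK cqtl1 cqth_P 714 := ⟨cqtl1_h, cqtl1_e⟩
theorem cqtl2_e : ∀ i < 7, (dent cqtl2 cqth_P (nat_lit 714)) i = 0 := allZ_sound0 cqtl2_e_0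
theorem cqtl2_ok : DOK cqtl2 cqth_P 714 := ⟨cqtl2_h, cqtl2_e⟩
theorem cqtl3_e : ∀ i < 1, (dent cqtl3 cqth_P (nat_lit 714)) i = 0 := allZ_sound0 cqtl3_e_0
theorem cqtl3_ok : DOK cqtl3 cqth_P 714 := ⟨cqtl3_h, cqtl3_e⟩
theorem cqt_low {G Ω : Type*} [Group G] [MulAction G Ω] {g : ℕ → G} {pt : ℕ → Ω} {c : ℕ}
    (M : Md g pt Tm 714 6 B1 c) : SLow (gi (wds g cqth_W)) pt 714 [cqtl0, cqtl1, cqtl2, cqtl3] :=
  ((((SLow.nil).cons cqtl3_ok (cqth_act M) cqt_f3).cons cqtl2_ok (cqth_act M) cqt_f2).cons cqtl1_ok (cqth_act M) cqt_f1).cons cqtl0_ok (cqth_act M) cqt_f0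
theorem cqt_S0 {G Ω : Type*} [Group G] [MulAction G Ω] {g : ℕ → G} {pt : ℕ → Ω}
    (M : Md g pt Tm 714 6 B1 43008) : Stage ⊤ (wds g cqth_W) pt 714 [cqtl0, cqtl1, cqtl2, cqtl3] [] :=
  M.stage (cqt_low M) cqt_c
theorem cqt_S1 {G Ω : Type*} [Group G] [MulAction G Ω] {g : ℕ → G} {pt : ℕ → Ω}
    (M : Md g pt Tm 714 6 B1 43008) : Stage ⊤ (wds g cqth_W) pt 714 [cqtl1, cqtl2, cqtl3] [cqtl0.Pt 0] :=
  (cqt_S0 M).next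
theorem cqt_S2 {G Ω : Type*} [Group G] [MulAction G Ω] {g : ℕ → G} {pt : ℕ → Ω}
    (M : Md g pt Tm 714 6 B1 43008) : Stage ⊤ (wds g cqth_W) pt 714 [cqtl2, cqtl3] [cqtl1.Pt 0, cqtl0.Pt 0] :=
  (cqt_S1 M).next
theorem cqt_S3 {G Ω : Type*} [Group G] [MulAction G Ω] {g : ℕ → G} {pt : ℕ → Ω}
    (M : Md g pt Tm 714 6 B1 43008) : Stage ⊤ (wds g cqth_W) pt 714 [cqtl3] [cqtl2.Pt 0, cqtl1.Pt 0, cqtl0.Pt 0] :=
  (cqt_S2 M).next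
theorem cqt_S4 {G Ω : Type*} [Group G] [MulAction G Ω] {g : ℕ → G} {pt : ℕ → Ω}
    (M : Md g pt Tm 714 6 B1 43008) : Stage ⊤ (wds g cqth_W) pt 714 [] [cqtl3.Pt 0, cqtl2.Pt 0, cqtl1.Pt 0, cqtl0.Pt 0] :=
  (cqt_S3 M).next
theorem cqe_act {G Ω : Type*} [Group G] [MulAction G Ω] {g : ℕ → G} {pt : ℕ → Ω} {c : ℕ}
    (M : Md g pt Tm 714 6 B1 c) : Act (wds g cqe_W) pt cqe_P 714 1 :=
  M.wact cqe_lt
theorem cqc0_e : ∀ i < 1, (dent cqc0 cqe_P (nat_lit 714)) i = 0 := allZ_sound0 cqc0_e_0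
theorem cqc0_ok : DOK cqc0 cqe_P 714 := ⟨cqc0_h, cqc0_e⟩
theorem cqtn0_1 : ∀ i < 672, (cqtn0.ent Tm cqth_P rq_P rq_P cqe_P (nat_lit 6) (nat_lit 6) B1 cqtl0 [cqtl1, cqtl2, cqtl3] (memO cqc0)) i = 0 := allZ_sound0 cqtn0_1_0
theorem cqtn0_t {G Ω : Type*} [Group G] [MulAction G Ω] {g : ℕ → G} {pt : ℕ → Ω}
    (M : Md g pt Tm 714 6 B1 43008) : TrO (gen (wds g cqth_W) cqtl0.K) (wds g rq_W) (wds g rq_W) 6 pt 714 (cqtl0.Pt 0) (memO cqc0) :=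
  node M (cqt_S0 M) (cqth_act M) (rq_act M) (rq_act M) cqtn0 ((cqe_act M).mono (by decide)) (fun _ _ => trivial) cqtn0_0 cqtn0_1 (List.forall_mem_nil _)
theorem cq {G Ω : Type*} [Group G] [MulAction G Ω] {g : ℕ → G} {pt : ℕ → Ω}
    (M : Md g pt Tm 714 6 B1 43008) : Cen ⊤ (wds g rq_W) 6 (wds g cqe_W) pt 714 [cqc0] :=
  (cqt_S0 M).top ▸ Cen.lev M (cqt_S0 M) (Cen.triv (cqt_S1 M) (Cen.triv (cqt_S2 M) (Cen.triv (cqt_S3 M) (Cen.bot) (forced (cqt_S3 M) (cqth_act M) (rq_act M) _ _ cq_f3)) (forced (cqt_S2 M) (cqth_act M) (rq_act M) _ _ cq_f2)) (forced (cqt_S1 M) (cqth_act M) (rq_act M) _ _ cq_f1)) (cqtn0_t M) (rq_act M) (cqe_act M) (fun _ _ => trivial) cqc0_ok cq_f0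
theorem cq_eq {G Ω : Type*} [Group G] [MulAction G Ω] {g : ℕ → G} {pt : ℕ → Ω}
    (M : Md g pt Tm 714 6 B1 43008) : Subgroup.centralizer (gen (wds g rq_W) 6) = gen (wds g cqe_W) 1 ∧ Nat.card (gen (wds g cqe_W) 1) = 2 :=
  cq_c.1 ▸ cq_c.2 ▸ ⟨(cq M).cent, (cq M).card M.inj⟩
theorem en83a : ∀ k < 1, ∀ i < 2, (tupEnt cqe_P en83T en83N (nat_lit 714) (nat_lit 2) (nat_lit 4)) k i = 0 := allZ2_sound en83a_a
theorem en83b : ∀ i < 2, (enEnt cqe_P en83T en83W (nat_lit 4)) i = 0 := allZ_sound0 en83b_0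
theorem cl84 : ∀ i < 2, (clEnt cqe_P (wdsP Tm wW) 55 56 B1 cl84L en83W) i = 0 := allZ_sound0 cl84_0
theorem cl84g {G Ω : Type*} [Group G] [MulAction G Ω] {pt : ℕ → Ω} {w : ℕ → G} (S : Bm G pt 714 B1) (hw : Act w pt (wdsP Tm wW) 714 56) {x : ℕ → G}
    (e : En x 1 en83W 2) (hx : Act x pt cqe_P 714 1) : ∀ v ∈ gen x 1,
    v = 1 ∨ v = w 0 := S.cls e hx hw en83c.2.1 cl84
theorem le85 : ∀ i < 6, (leEnt (pk (wdsP Tm wW) [1, 2, 51, 11, 4]) rq_P 5 B1 le85W) i = 0 := allZ_sound0 le85_0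
theorem cvx_act {G Ω : Type*} [Group G] [MulAction G Ω] {g : ℕ → G} {pt : ℕ → Ω} {c : ℕ}
    (M : Md g pt Tm 714 6 B1 c) : Act (wds g cvx_W) pt cvx_P 714 2 :=
  M.wact cvx_lt
theorem cvth_act {G Ω : Type*} [Group G] [MulAction G Ω] {g : ℕ → G} {pt : ℕ → Ω} {c : ℕ}
    (M : Md g pt Tm 714 6 B1 c) : Act (wds g cvth_W) pt cvth_P 714 16 :=
  M.wact cvth_lt
theorem cvtl0_e : ∀ i < 41, (dent cvtl0 cvth_P (nat_lit 714)) i = 0 := allZ_sound0 cvtl0_e_0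
theorem cvtl0_ok : DOK cvtl0 cvth_P 714 := ⟨cvtl0_h, cvtl0_e⟩
theorem cvtl1_e : ∀ i < 15, (dent cvtl1 cvth_P (nat_lit 714)) i = 0 := allZ_sound0 cvtl1_e_0
theorem cvtl1_ok : DOK cvtl1 cvth_P 714 := ⟨cvtl1_h, cvtl1_e⟩
theorem cvtl2_e : ∀ i < 3, (dent cvtl2 cvth_P (nat_lit 714)) i = 0 := allZ_sound0 cvtl2_e_0
theorem cvtl2_ok : DOK cvtl2 cvth_P 714 := ⟨cvtl2_h, cvtl2_e⟩
theorem cvtl3_e : ∀ i < 1, (dent cvtl3 cvth_P (nat_lit 714)) i = 0 := allZ_sound0 cvtl3_e_0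
theorem cvtl3_ok : DOK cvtl3 cvth_P 714 := ⟨cvtl3_h, cvtl3_e⟩
theorem cvtl4_e : ∀ i < 1, (dent cvtl4 cvth_P (nat_lit 714)) i = 0 := allZ_sound0 cvtl4_e_0
theorem cvtl4_ok : DOK cvtl4 cvth_P 714 := ⟨cvtl4_h, cvtl4_e⟩
theorem cvtl5_e : ∀ i < 1, (dent cvtl5 cvth_P (nat_lit 714)) i = 0 := allZ_sound0 cvtl5_e_0
theorem cvtl5_ok : DOK cvtl5 cvth_P 714 := ⟨cvtl5_h, cvtl5_e⟩
theorem cvtl6_e : ∀ i < 1, (dent cvtl6 cvth_P (nat_lit 714)) i = 0 := allZ_sound0 cvtl6_e_0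
theorem cvtl6_ok : DOK cvtl6 cvth_P 714 := ⟨cvtl6_h, cvtl6_e⟩
theorem cvt_low {G Ω : Type*} [Group G] [MulAction G Ω] {g : ℕ → G} {pt : ℕ → Ω} {c : ℕ}
    (M : Md g pt Tm 714 6 B1 c) : SLow (gi (wds g cvth_W)) pt 714 [cvtl0, cvtl1, cvtl2, cvtl3, cvtl4, cvtl5, cvtl6] :=
  (((((((SLow.nil).cons cvtl6_ok (cvth_act M) cvt_f6).cons cvtl5_ok (cvth_act M) cvt_f5).cons cvtl4_ok (cvth_act M) cvt_f4).cons cvtl3_ok (cvth_act M) cvt_f3).cons cvtl2_ok (cvth_act M) cvt_f2).cons cvtl1_ok (cvth_act M) cvt_f1).cons cvtl0_ok (cvth_act M) cvt_f0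
theorem cvt_S0 {G Ω : Type*} [Group G] [MulAction G Ω] {g : ℕ → G} {pt : ℕ → Ω}
    (M : Md g pt Tm 714 6 B1 43008) : Stage ⊤ (wds g cvth_W) pt 714 [cvtl0, cvtl1, cvtl2, cvtl3, cvtl4, cvtl5, cvtl6] [] :=
  M.stage (cvt_low M) cvt_c
theorem cvt_S1 {G Ω : Type*} [Group G] [MulAction G Ω] {g : ℕ → G} {pt : ℕ → Ω}
    (M : Md g pt Tm 714 6 B1 43008) : Stage ⊤ (wds g cvth_W) pt 714 [cvtl1, cvtl2, cvtl3, cvtl4, cvtl5, cvtl6] [cvtl0.Pt 0] :=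
  (cvt_S0 M).next
theorem cvt_S2 {G Ω : Type*} [Group G] [MulAction G Ω] {g : ℕ → G} {pt : ℕ → Ω}
    (M : Md g pt Tm 714 6 B1 43008) : Stage ⊤ (wds g cvth_W) pt 714 [cvtl2, cvtl3, cvtl4, cvtl5, cvtl6] [cvtl1.Pt 0, cvtl0.Pt 0] :=
  (cvt_S1 M).next
theorem cvt_S3 {G Ω : Type*} [Group G] [MulAction G Ω] {g : ℕ → G} {pt : ℕ → Ω}
    (M : Md g pt Tm 714 6 B1 43008) : Stage ⊤ (wds g cvth_W) pt 714 [cvtl3, cvtl4, cvtl5, cvtl6] [cvtl2.Pt 0, cvtl1.Pt 0, cvtl0.Pt 0] :=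
  (cvt_S2 M).next
theorem cvt_S4 {G Ω : Type*} [Group G] [MulAction G Ω] {g : ℕ → G} {pt : ℕ → Ω}
    (M : Md g pt Tm 714 6 B1 43008) : Stage ⊤ (wds g cvth_W) pt 714 [cvtl4, cvtl5, cvtl6] [cvtl3.Pt 0, cvtl2.Pt 0, cvtl1.Pt 0, cvtl0.Pt 0] :=
  (cvt_S3 M).next
theorem cvt_S5 {G Ω : Type*} [Group G] [MulAction G Ω] {g : ℕ → G} {pt : ℕ → Ω}
    (M : Md g pt Tm 714 6 B1 43008) : Stage ⊤ (wds g cvth_W) pt 714 [cvtl5, cvtl6] [cvtl4.Pt 0, cvtl3.Pt 0, cvtl2.Pt 0, cvtl1.Pt 0, cvtl0.Pt 0] :=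
  (cvt_S4 M).next
theorem cvt_S6 {G Ω : Type*} [Group G] [MulAction G Ω] {g : ℕ → G} {pt : ℕ → Ω}
    (M : Md g pt Tm 714 6 B1 43008) : Stage ⊤ (wds g cvth_W) pt 714 [cvtl6] [cvtl5.Pt 0, cvtl4.Pt 0, cvtl3.Pt 0, cvtl2.Pt 0, cvtl1.Pt 0, cvtl0.Pt 0] :=
  (cvt_S5 M).next
theorem cvt_S7 {G Ω : Type*} [Group G] [MulAction G Ω] {g : ℕ → G} {pt : ℕ → Ω}
    (M : Md g pt Tm 714 6 B1 43008) : Stage ⊤ (wds g cvth_W) pt 714 [] [cvtl6.Pt 0, cvtl5.Pt 0, cvtl4.Pt 0, cvtl3.Pt 0, cvtl2.Pt 0, cvtl1.Pt 0, cvtl0.Pt 0] :=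
  (cvt_S6 M).next
theorem cve_act {G Ω : Type*} [Group G] [MulAction G Ω] {g : ℕ → G} {pt : ℕ → Ω} {c : ℕ}
    (M : Md g pt Tm 714 6 B1 c) : Act (wds g cve_W) pt cve_P 714 2 :=
  M.wact cve_lt
theorem cvc3_e : ∀ i < 1, (dent cvc3 cve_P (nat_lit 714)) i = 0 := allZ_sound0 cvc3_e_0
theorem cvc3_ok : DOK cvc3 cve_P 714 := ⟨cvc3_h, cvc3_e⟩
theorem cvtn0_1 : ∀ i < 2, (cvtn0.ent Tm cvth_P cvx_P cvx_P cve_P (nat_lit 6) (nat_lit 2) B1 cvtl3 [cvtl4, cvtl5, cvtl6] (memO cvc3)) i = 0 := allZ_sound0 cvtn0_1_0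
theorem cvtn0_t {G Ω : Type*} [Group G] [MulAction G Ω] {g : ℕ → G} {pt : ℕ → Ω}
    (M : Md g pt Tm 714 6 B1 43008) : TrO (gen (wds g cvth_W) cvtl3.K) (wds g cvx_W) (wds g cvx_W) 2 pt 714 (cvtl3.Pt 0) (memO cvc3) :=
  node M (cvt_S3 M) (cvth_act M) (cvx_act M) (cvx_act M) cvtn0 ((cve_act M).mono (by decide)) (fun _ _ => trivial) cvtn0_0 cvtn0_1 (List.forall_mem_nil _)
theorem cvc0_e : ∀ i < 5, (dent cvc0 cve_P (nat_lit 714)) i = 0 := allZ_sound0 cvc0_e_0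
theorem cvc0_ok : DOK cvc0 cve_P 714 := ⟨cvc0_h, cvc0_e⟩
theorem cvtn1_1 : ∀ i < 42, (cvtn1.ent Tm cvth_P cvx_P cvx_P cve_P (nat_lit 6) (nat_lit 2) B1 cvtl0 [cvtl1, cvtl2, cvtl3, cvtl4, cvtl5, cvtl6] (memO cvc0)) i = 0 := allZ_sound0 cvtn1_1_0
theorem cvtn1_t {G Ω : Type*} [Group G] [MulAction G Ω] {g : ℕ → G} {pt : ℕ → Ω}
    (M : Md g pt Tm 714 6 B1 43008) : TrO (gen (wds g cvth_W) cvtl0.K) (wds g cvx_W) (wds g cvx_W) 2 pt 714 (cvtl0.Pt 0) (memO cvc0) :=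
  node M (cvt_S0 M) (cvth_act M) (cvx_act M) (cvx_act M) cvtn1 ((cve_act M).mono (by decide)) (fun _ _ => trivial) cvtn1_0 cvtn1_1 (List.forall_mem_nil _)
theorem cv {G Ω : Type*} [Group G] [MulAction G Ω] {g : ℕ → G} {pt : ℕ → Ω}
    (M : Md g pt Tm 714 6 B1 43008) : Cen ⊤ (wds g cvx_W) 2 (wds g cve_W) pt 714 [cvc0, cvc3] :=
  (cvt_S0 M).top ▸ Cen.lev M (cvt_S0 M) (Cen.triv (cvt_S1 M) (Cen.triv (cvt_S2 M) (Cen.lev M (cvt_S3 M) (Cen.triv (cvt_S4 M) (Cen.triv (cvt_S5 M) (Cen.triv (cvt_S6 M) (Cen.bot) (forced (cvt_S6 M) (cvth_act M) (cvx_act M) _ _ cv_f6)) (forced (cvt_S5 M) (cvth_act M) (cvx_act M) _ _ cv_f5)) (forced (cvt_S4 M) (cvth_act M) (cvx_act M) _ _ cv_f4)) (cvtn0_t M) (cvx_act M) (cve_act M) (fun _ _ => trivial) cvc3_ok cv_f3) (forced (cvt_S2 M) (cvth_act M) (cvx_act M) _ _ cv_f2)) (forced (cvt_S1 M)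 (cvth_act M) (cvx_act M) _ _ cv_f1)) (cvtn1_t M) (cvx_act M) (cve_act M) (fun _ _ => trivial) cvc0_ok cv_f0
theorem cv_eq {G Ω : Type*} [Group G] [MulAction G Ω] {g : ℕ → G} {pt : ℕ → Ω}
    (M : Md g pt Tm 714 6 B1 43008) : Subgroup.centralizer (gen (wds g cvx_W) 2) = gen (wds g cve_W) 2 ∧ Nat.card (gen (wds g cve_W) 2) = 12 :=
  cv_c.1 ▸ cv_c.2 ▸ ⟨(cv M).cent, (cv M).card M.inj⟩
theorem cs87 : ∀ k < 1, ∀ i < 1, (cmEnt pf_P pf_P B1) k i = 0 := allZ2_sound cs87_a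
theorem le89 : ∀ i < 2, (leEnt (pk (wdsP Tm wW) [0, 1, 4, 4]) cve_P 4 B1 le89W) i = 0 := allZ_sound0 le89_0
theorem rL0g {G Ω : Type*} [Group G] [MulAction G Ω] {pt : ℕ → Ω} {w : ℕ → G} (S : Bm G pt 714 B1) (hw : Act w pt (wdsP Tm wW) 714 56) :
    w 54 * w 54 = 1 ∧ w 0 * w 0 = 1 ∧ w 0 ≠ 1 ∧ w 1 * w 1 = 1 ∧ w 1 * w 0 = w 0 * w 1 ∧ w 7 * w 0 = w 0 * w 7 ∧ w 2 * w 0 = w 0 * w 2 ∧ w 8 * w 0 = w 0 * w 8 ∧ w 9 * w 0 = w 0 * w 9 ∧ w 11 * w 9 = w 9 * w 11 ∧ w 11 * w 11 = 1 ∧ w 0 * w 9 = w 10 ∧ w 16 * w 0 = w 0 * w 16 ∧ w 16 * w 2 = w 11 * w 16 ∧ w 9 * w 12 = w 13 ∧ w 17 * w 0 = w 0 * w 17 ∧ True := S.rl hw rL0k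
theorem rL1g {G Ω : Type*} [Group G] [MulAction G Ω] {pt : ℕ → Ω} {w : ℕ → G} (S : Bm G pt 714 B1) (hw : Act w pt (wdsP Tm wW) 714 56) :
    w 17 * w 2 = w 13 * w 17 ∧ w 15 * w 0 = w 0 * w 15 ∧ w 11 * w 14 ≠ w 15 ∧ w 18 * w 0 = w 0 * w 18 ∧ w 20 * w 18 = w 18 * w 20 ∧ w 20 * w 20 = 1 ∧ w 0 * w 18 = w 19 ∧ w 25 * w 0 = w 0 * w 25 ∧ w 25 * w 1 = w 20 * w 25 ∧ w 18 * w 21 = w 22 ∧ w 26 * w 0 = w 0 * w 26 ∧ w 26 * w 1 = w 22 * w 26 ∧ w 24 * w 0 = w 0 * w 24 ∧ w 20 * w 23 ≠ w 24 ∧ w 27 * w 15 * w 27 * w 15 = w 0 ∧ w 31 * w 0 = w 0 * w 31 ∧ True := S.rl hw rL1k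
theorem rL2g {G Ω : Type*} [Group G] [MulAction G Ω] {pt : ℕ → Ω} {w : ℕ → G} (S : Bm G pt 714 B1) (hw : Act w pt (wdsP Tm wW) 714 56) :
    w 31 * w 18 = w 27 * w 31 ∧ w 32 * w 0 = w 0 * w 32 ∧ w 32 * w 9 = w 15 * w 32 ∧ w 0 * w 27 = w 27 * w 0 ∧ w 0 * w 15 = w 15 * w 0 ∧ w 54 * w 3 = w 3 * w 54 ∧ w 54 * w 54 = w 54 * w 54 ∧ w 54 * w 0 = w 0 * w 54 ∧ w 3 * w 3 = 1 ∧ w 33 * w 3 = w 35 * w 33 ∧ w 34 * w 3 = w 3 * w 35 * w 34 ∧ w 36 * w 36 = 1 ∧ w 36 ≠ 1 ∧ w 37 * w 37 = 1 ∧ w 37 ≠ 1 ∧ w 3 ≠ 1 ∧ True := S.rl hw rL2k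
theorem rL3g {G Ω : Type*} [Group G] [MulAction G Ω] {pt : ℕ → Ω} {w : ℕ → G} (S : Bm G pt 714 B1) (hw : Act w pt (wdsP Tm wW) 714 56) :
    w 49 * w 49 = w 0 ∧ w 48 * w 3 = w 3 * w 48 ∧ w 1 * w 2 ≠ w 2 * w 1 ∧ w 2 * w 2 = 1 ∧ w 52 * w 1 = w 51 * w 52 ∧ w 53 * w 2 = w 11 * w 53 ∧ w 2 * w 1 * w 2 = w 1 * w 0 ∧ True := S.rl hw rL3k
theorem rG0g {G Ω : Type*} [Group G] [MulAction G Ω] {pt : ℕ → Ω} {w u : ℕ → G} (S : Bm G pt 2058 B) (hw : Act (cat w 55 u) pt (catP (wdsP P wG) 55 (wdsP P uW)) 2058 (55 + 47)) :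
    u 0 * w 0 = w 1 * u 0 ∧ u 0 * w 1 = w 0 * w 1 * u 0 ∧ u 3 * w 1 = w 1 * u 3 ∧ u 4 * w 1 = w 1 * u 4 ∧ u 2 * w 1 = w 1 * u 2 ∧ u 2 * w 7 = w 7 * u 2 ∧ u 3 * w 0 = w 7 * u 3 ∧ u 4 * w 0 = w 0 * w 7 * u 4 ∧ u 2 * w 0 = w 0 * w 1 * u 2 ∧ u 1 * w 0 = w 2 * u 1 ∧ u 1 * w 2 = w 0 * w 2 * u 1 ∧ u 6 * w 2 = w 2 * u 6 ∧ u 7 * w 2 = w 2 * u 7 ∧ u 5 * w 2 = w 2 * u 5 ∧ u 5 * w 8 = w 8 * u 5 ∧ u 6 * w 0 = w 8 * u 6 ∧ True := S.rl hw rG0k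
theorem rG1g {G Ω : Type*} [Group G] [MulAction G Ω] {pt : ℕ → Ω} {w u : ℕ → G} (S : Bm G pt 2058 B) (hw : Act (cat w 55 u) pt (catP (wdsP P wG) 55 (wdsP P uW)) 2058 (55 + 47)) :
    u 7 * w 0 = w 0 * w 8 * u 7 ∧ u 5 * w 0 = w 0 * w 2 * u 5 ∧ u 8 * w 0 = w 9 * u 8 ∧ u 8 * w 9 = w 0 * w 9 * u 8 ∧ u 8 * w 11 = w 11 * u 8 ∧ u 11 * w 0 = w 11 * u 11 ∧ u 11 * w 2 = w 9 * u 11 ∧ u 12 * w 0 = w 11 * u 12 ∧ u 12 * w 2 = w 10 * u 12 ∧ u 9 * w 0 = w 10 * u 9 ∧ u 9 * w 9 = w 12 * u 9 ∧ u 10 * w 0 = w 9 * u 10 ∧ u 10 * w 9 = w 12 * u 10 ∧ u 9 * w 11 = w 14 * u 9 ∧ u 10 * w 11 = w 15 * u 10 ∧ u 13 * w 0 = w 18 * u 13 ∧ True := S.rl hw rG1k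
theorem rG2g {G Ω : Type*} [Group G] [MulAction G Ω] {pt : ℕ → Ω} {w u : ℕ → G} (S : Bm G pt 2058 B) (hw : Act (cat w 55 u) pt (catP (wdsP P wG) 55 (wdsP P uW)) 2058 (55 + 47)) :
    u 13 * w 18 = w 0 * w 18 * u 13 ∧ u 13 * w 20 = w 20 * u 13 ∧ u 16 * w 0 = w 20 * u 16 ∧ u 16 * w 1 = w 18 * u 16 ∧ u 17 * w 0 = w 20 * u 17 ∧ u 17 * w 1 = w 19 * u 17 ∧ u 14 * w 0 = w 19 * u 14 ∧ u 14 * w 18 = w 21 * u 14 ∧ u 15 * w 0 = w 18 * u 15 ∧ u 15 * w 18 = w 21 * u 15 ∧ u 14 * w 20 = w 23 * u 14 ∧ u 15 * w 20 = w 24 * u 15 ∧ u 19 * w 27 = w 27 * u 19 ∧ u 20 * w 27 = w 27 * u 20 ∧ u 19 * w 15 = u 18 * u 19 ∧ u 20 * w 15 = w 15 * u 18 * u 20 ∧ True := S.rl hw rG2k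
theorem rG3g {G Ω : Type*} [Group G] [MulAction G Ω] {pt : ℕ → Ω} {w u : ℕ → G} (S : Bm G pt 2058 B) (hw : Act (cat w 55 u) pt (catP (wdsP P wG) 55 (wdsP P uW)) 2058 (55 + 47)) :
    u 22 * w 0 = w 15 * u 22 ∧ u 22 * w 9 = u 18 * u 22 ∧ u 19 * u 19 = 1 ∧ u 20 * u 21 = 1 ∧ u 23 * u 24 * u 23 = u 25 ∧ u 26 * w 27 = w 0 * u 26 ∧ u 26 * w 15 = u 23 * u 26 ∧ u 27 * w 27 = u 24 * u 27 ∧ u 27 * w 15 = w 0 * u 27 ∧ u 28 * w 27 = u 23 * u 28 ∧ u 28 * w 15 = u 24 * u 28 ∧ u 33 * w 27 = u 29 * u 33 ∧ u 33 * w 15 = w 0 * u 33 ∧ u 34 * w 0 = u 30 * u 34 ∧ u 34 * u 25 = w 0 * u 34 ∧ u 35 * w 0 = u 29 * u 35 ∧ True := S.rl hw rG3k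
theorem rG4g {G Ω : Type*} [Group G] [MulAction G Ω] {pt : ℕ → Ω} {w u : ℕ → G} (S : Bm G pt 2058 B) (hw : Act (cat w 55 u) pt (catP (wdsP P wG) 55 (wdsP P uW)) 2058 (55 + 47)) :
    u 35 * u 25 = u 30 * u 35 ∧ u 31 * w 0 = u 29 * u 31 ∧ u 32 * w 0 = u 30 * u 32 ∧ u 36 * w 36 = w 36 * u 36 ∧ u 37 * w 37 = w 37 * u 37 ∧ u 38 * w 54 = w 54 * u 38 ∧ u 39 * w 54 = w 54 * u 39 ∧ w 54 * u 40 * w 54 * u 39 * u 38 = u 40 * u 38 * u 39 ∧ u 41 * w 3 = w 3 * u 41 ∧ u 42 * w 3 = w 3 * u 42 ∧ u 41 * w 0 = w 22 * u 41 ∧ u 42 * w 0 = w 0 * w 22 * u 42 ∧ u 44 * w 3 = w 3 * w 0 * u 44 ∧ u 43 * w 3 = w 3 * u 43 ∧ u 43 * u 43 = 1 ∧ u 43 * w 48 = w 3 * w 48 * u 43 ∧ True := S.rl hw rG4k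
theorem lnk : ∀ i < 55, (lnkEnt (wdsP (wdsP P mW) wW) (wdsP P wG) B) i = 0 := allZ_sound0 lnk_0

set_option linter.unusedSectionVars false
open Cfsg Subgroup H19 H28.SF H7.NS
variable {G Ω : Type*} [Group G] [Finite G] [MulAction G Ω] {g : ℕ → G} {pt : ℕ → Ω}
noncomputable def D (g : ℕ → G) : Dt G := ⟨gen g 11, (gen (wds (m g) t_W) 10), gen (m g) 4, (gen (wds (m g) pf_W) 1), (gen (wds (m g) t_W) 1), (w g 0), (w g 1), (w g 2), (w g 54), 2, 512, 16, 3⟩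
section
variable (X : Cx g pt)
include X
theorem aw : Act (w g) (pl pt) (wdsP Tm wW) 714 56 :=
  (aL X).wds w_lt _
theorem weq : ∀ k < 55, w g k = wds g wG k :=
  (SG X).eqs ((am X).wds w_lt _) (X.M.wact wG_lt) lnk
theorem awG : Act (w g) pt (wdsP P wG) 2058 55 :=
  (SG X).link ((am X).wds w_lt _) (X.M.wact wG_lt) lnk
theorem au : Act (u g) pt (wdsP P uW) 2058 47 :=
  (X.M.act.mono (by decide)).wds u_lt _
theorem aU : Act (cat (w g) 55 (u g)) pt (catP (wdsP P wG) 55 (wdsP P uW)) 2058 (55 + 47) :=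
  act_cat (awG X) (au X)
omit X in
theorem uI (_ : Cx g pt) (k : ℕ) : u g k ∈ gen g 11 :=
  evA_mem_gen _ (nth_lt u_lt k)
theorem rL0 : type_of% (rL0g (SL X) (aw X)) := rL0g (SL X) (aw X)
theorem rL1 : type_of% (rL1g (SL X) (aw X)) := rL1g (SL X) (aw X)
theorem rL2 : type_of% (rL2g (SL X) (aw X)) := rL2g (SL X) (aw X)
theorem rL3 : type_of% (rL3g (SL X) (aw X)) := rL3g (SL X) (aw X)
theorem rG0 : type_of% (rG0g (SG X) (aU X)) := rG0g (SG X) (aU X)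
theorem rG1 : type_of% (rG1g (SG X) (aU X)) := rG1g (SG X) (aU X)
theorem rG2 : type_of% (rG2g (SG X) (aU X)) := rG2g (SG X) (aU X)
theorem rG3 : type_of% (rG3g (SG X) (aU X)) := rG3g (SG X) (aU X)
theorem rG4 : type_of% (rG4g (SG X) (aU X)) := rG4g (SG X) (aU X)
theorem tu : PC0 (wds (m g) t_W) 11 2 ∧ #(gen (wds (m g) t_W) 11) = 2 ^ 11 :=
  have ⟨_, M, u⟩ := (R0 X).md
  pc_up (u.wds t_lt _) (t_pc0 M)
theorem pfu : PC0 (wds (m g) pf_W) 1 3 ∧ #(gen (wds (m g) pf_W) 1) = 3 ^ 1 :=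
  have ⟨_, M, u⟩ := (R0 X).md
  pc_up (u.wds pf_lt _) (pf_pc0 M)
theorem cz' : #C[(w g 0)] = 43008 :=
  have h := ceq (weq X 0 (by decide)) (gz_eq X.M) rfl
  h.1 ▸ h.2
theorem cz : #C[(w g 0)] ≤ 43008 :=
  (cz' X).le
theorem RA : Rm C[(w g 0)] (m g) (pl pt) Tm 714 6 B1 43008 :=
  up X ((SL X).cm1 ((aL X).mono (K' := 6) (by decide)) (aw X) cm1) (cz X)
theorem RM : Rm (gen g 11 ⊓ C[(w g 0)]) (m g) (pl pt) Tm 714 5 B1 21504 :=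
  (RA X).half (leD (by decide +kernel)) (nmD X.M X.i (by decide +kernel)) (by have h := (rL0 X).1; rwa [show (w g 54) = m g 5 from one_mul _] at h) ((SL X).nm1 ((aL X).mono (K' := 5) (by decide)) ((aL X).mono (K' := 6) (by decide)) nm2)
theorem wM (k : ℕ) (h : k < 54 := by decide) : w g k ∈ gen g 11 ⊓ C[(w g 0)] :=
  (leD (Ws := wW) (K := 5) (n := 54) (by decide +kernel)).trans (RM X).top.le (mem_gen _ h)
theorem phI : (w g 54) ∉ gen g 11 :=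
  fun h => nmD X.M X.i (by decide +kernel) (Set.mem_of_eq_of_mem (one_mul _).symm h)
theorem co : Co (D g) (m g) (wds (m g) t_W) 4 10 4030387200 :=
  ⟨X.i, cardI X.M X.i, by decide, (RA X).top, (RM X).top, rfl, one_mul _, rfl, tu X, rfl, rfl, (leD (Ws := t_W) (K := 5) (n := 10) (by decide +kernel)), gen_wds_le t_lt _, phI X,
    (rL0 X).1, (rL0 X).2.1, (rL0 X).2.2.1, (rL0 X).2.2.2.1, ((SL X).nm1 ((aL X).mono (K' := 4) (by decide)) (aw X) nm3), (mD (Ws := wW) (k := 0) (K := 4) (by decide +kernel)), ((SL X).coms ((aL X).mono (K' := 4) (by decide)) ((aL X).mono (K' := 4) (by decide)) co4)⟩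
theorem wzpu : C[(w g 0)] ⊓ C(gen (wds (m g) wzpx_W) 3) = gen (wds (m g) wzpe_W) 2 ∧ #(gen (wds (m g) wzpe_W) 2) = 4 :=
  have ⟨_, M, u⟩ := (RA X).md
  cen_up (u.wds wzpx_lt _) (u.wds wzpe_lt _) (wzp_eq M)
theorem en7 : En (wds (m g) wzpe_W) 2 en7W 4 :=
  (SL X).en ((aL X).wds wzpe_lt 2) en7a en7b en7c
theorem cl8a : type_of% (cl8g (SL X) (aw X) (en7 X) ((aL X).wds wzpe_lt 2)) := cl8g (SL X) (aw X) (en7 X) ((aL X).wds wzpe_lt 2)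
theorem bzpu : C[(w g 0)] ⊓ C(gen (wds (m g) bzpx_W) 4) = gen (wds (m g) bzpe_W) 3 ∧ #(gen (wds (m g) bzpe_W) 3) = 8 :=
  have ⟨_, M, u⟩ := (RA X).md
  cen_up (u.wds bzpx_lt _) (u.wds bzpe_lt _) (bzp_eq M)
theorem en10 : En (wds (m g) bzpe_W) 3 en10W 8 :=
  (SL X).en ((aL X).wds bzpe_lt 3) en10a en10b en10c
theorem cl11a : type_of% (cl11g (SG X) (aU X) (en10 X) ((am X).wds bzpe_lt 3)) := cl11g (SG X) (aU X) (en10 X) ((am X).wds bzpe_lt 3)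
theorem dkzp {Bz : G → G → Prop} : Dv (gen g 11) (w g 0) Bz true (w g 0) (w g 1) :=
  dbk (wl1 (wM X 0).1 (rL0 X).2.2.2.2.1 (uI X 0) (rG0 X).1 (rG0 X).2.1 ((leD (Ws := wzpx_W) (K := 5) (n := 3) (by decide +kernel)).trans (RM X).top.le) ((SL X).cm1 ((aL X).wds wzpx_lt 3) (aw X) cm9) (fun v hv => (cl8a X) v ((wzpu X).1.le hv))) (wM X 0).1 (uI X 3) (uI X 4) (uI X 2) (rG0 X).2.2.1 (rG0 X).2.2.2.1 (rG0 X).2.2.2.2.1 (rG0 X).2.2.2.2.2.1 (rG0 X).2.2.2.2.2.2.1 (rG0 X).2.2.2.2.2.2.2.1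
    (rG0 X).2.2.2.2.2.2.2.2.1 (rL0 X).2.2.2.2.2.1 ((leD (Ws := bzpx_W) (K := 5) (n := 4) (by decide +kernel)).trans (RM X).top.le) ((SL X).cm1 ((aL X).wds bzpx_lt 4) (aw X) cm12) (fun v hv => (cl11a X) v ((bzpu X).1.le hv))
theorem wwu : C[(w g 0)] ⊓ C(gen (wds (m g) wwx_W) 3) = gen (wds (m g) wwe_W) 2 ∧ #(gen (wds (m g) wwe_W) 2) = 4 :=
  have ⟨_, M, u⟩ := (RA X).md
  cen_up (u.wds wwx_lt _) (u.wds wwe_lt _) (ww_eq M)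
theorem en13 : En (wds (m g) wwe_W) 2 en13W 4 :=
  (SL X).en ((aL X).wds wwe_lt 2) en13a en13b en13c
theorem cl14a : type_of% (cl14g (SL X) (aw X) (en13 X) ((aL X).wds wwe_lt 2)) := cl14g (SL X) (aw X) (en13 X) ((aL X).wds wwe_lt 2)
theorem bwu : C[(w g 0)] ⊓ C(gen (wds (m g) bwx_W) 4) = gen (wds (m g) bwe_W) 3 ∧ #(gen (wds (m g) bwe_W) 3) = 8 :=
  have ⟨_, M, u⟩ := (RA X).md
  cen_up (u.wds bwx_lt _) (u.wds bwe_lt _) (bw_eq M)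
theorem en16 : En (wds (m g) bwe_W) 3 en16W 8 :=
  (SL X).en ((aL X).wds bwe_lt 3) en16a en16b en16c
theorem cl17a : type_of% (cl17g (SG X) (aU X) (en16 X) ((am X).wds bwe_lt 3)) := cl17g (SG X) (aU X) (en16 X) ((am X).wds bwe_lt 3)
theorem dkw {Bz : G → G → Prop} : Dv (gen g 11) (w g 0) Bz true (w g 0) (w g 2) :=
  dbk (wl1 (wM X 0).1 (rL0 X).2.2.2.2.2.2.1 (uI X 1) (rG0 X).2.2.2.2.2.2.2.2.2.1 (rG0 X).2.2.2.2.2.2.2.2.2.2.1 ((leD (Ws := wwx_W) (K := 5) (n := 3) (by decide +kernel)).trans (RM X).top.le) ((SL X).cm1 ((aL X).wds wwx_lt 3) (aw X) cm15) (fun v hv => (cl14a X) v ((wwu X).1.le hv))) (wM X 0).1 (uI X 6) (uI X 7) (uI X 5) (rG0 X).2.2.2.2.2.2.2.2.2.2.2.1 (rG0 X).2.2.2.2.2.2.2.2.2.2.2.2.1 (rG0 X).2.2.2.2.2.2.2.2.2.2.2.2.2.1 (rG0 X).2.2.2.2.2.2.2.2.2.2.2.2.2.2.1 (rG0 X).2.2.2.2.2.2.2.2.2.2.2.2.2.2.2.1 (rG1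 X).1
    (rG1 X).2.1 (rL0 X).2.2.2.2.2.2.2.1 ((leD (Ws := bwx_W) (K := 5) (n := 4) (by decide +kernel)).trans (RM X).top.le) ((SL X).cm1 ((aL X).wds bwx_lt 4) (aw X) cm18) (fun v hv => (cl17a X) v ((bwu X).1.le hv))
theorem wb1u : C[(w g 0)] ⊓ C(gen (wds (m g) wb1x_W) 4) = gen (wds (m g) wb1e_W) 3 ∧ #(gen (wds (m g) wb1e_W) 3) = 8 :=
  have ⟨_, M, u⟩ := (RA X).md
  cen_up (u.wds wb1x_lt _) (u.wds wb1e_lt _) (wb1_eq M)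
theorem en19 : En (wds (m g) wb1e_W) 3 en19W 8 :=
  (SL X).en ((aL X).wds wb1e_lt 3) en19a en19b en19c
theorem cl20a : type_of% (cl20g (SL X) (aw X) (en19 X) ((aL X).wds wb1e_lt 3)) := cl20g (SL X) (aw X) (en19 X) ((aL X).wds wb1e_lt 3)
theorem dqb1 {Bz : G → G → Prop} : Dv (gen g 11) (w g 0) Bz true (w g 0) (w g 9) :=
  dwq (wl (wM X 0).1 (rL0 X).2.2.2.2.2.2.2.2.1 (uI X 8) (rG1 X).2.2.1 (rG1 X).2.2.2.1 (rG1 X).2.2.2.2.1 (wM X 11) (rL0 X).2.2.2.2.2.2.2.2.2.1 (rL0 X).2.2.2.2.2.2.2.2.2.2.1 ((leD (Ws := wb1x_W) (K := 5) (n := 4) (by decide +kernel)).trans (RM X).top.le) ((SL X).cm1 ((aL X).wds wb1x_lt 4) (aw X) cm21) (fun v hv => (cl20a X) v ((wb1u X).1.le hv))) (rL0 X).2.2.2.2.2.2.2.2.2.2.2.1 (dcj (dkw X) (wM X 16).1 (rL0 X).2.2.2.2.2.2.2.2.2.2.2.2.1 (rL0 X).2.2.2.2.2.2.2.2.2.2.2.2.2.1).symm (dcj (dkw X) (uI X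 11) (rG1 X).2.2.2.2.2.1 (rG1 X).2.2.2.2.2.2.1) (dcj (dkw X) (uI X 12) (rG1 X).2.2.2.2.2.2.2.1 (rG1 X).2.2.2.2.2.2.2.2.1) (uI X 9) (uI X 10) (rG1 X).2.2.2.2.2.2.2.2.2.1 (rG1 X).2.2.2.2.2.2.2.2.2.2.1
    (rG1 X).2.2.2.2.2.2.2.2.2.2.2.1 (rG1 X).2.2.2.2.2.2.2.2.2.2.2.2.1 (rL0 X).2.2.2.2.2.2.2.2.2.2.2.2.2.2.1 (dcj (dkw X) (wM X 17).1 (rL0 X).2.2.2.2.2.2.2.2.2.2.2.2.2.2.2.1 (rL1 X).1) (rG1 X).2.2.2.2.2.2.2.2.2.2.2.2.2.1 (rG1 X).2.2.2.2.2.2.2.2.2.2.2.2.2.2.1 (rL1 X).2.1 (rL1 X).2.2.1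
theorem wb2u : C[(w g 0)] ⊓ C(gen (wds (m g) wb2x_W) 4) = gen (wds (m g) wb2e_W) 3 ∧ #(gen (wds (m g) wb2e_W) 3) = 8 :=
  have ⟨_, M, u⟩ := (RA X).md
  cen_up (u.wds wb2x_lt _) (u.wds wb2e_lt _) (wb2_eq M)
theorem en26 : En (wds (m g) wb2e_W) 3 en26W 8 :=
  (SL X).en ((aL X).wds wb2e_lt 3) en26a en26b en26c
theorem cl27a : type_of% (cl27g (SL X) (aw X) (en26 X) ((aL X).wds wb2e_lt 3)) := cl27g (SL X) (aw X) (en26 X) ((aL X).wds wb2e_lt 3)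
theorem dqb2 {Bz : G → G → Prop} : Dv (gen g 11) (w g 0) Bz true (w g 0) (w g 18) :=
  dwq (wl (wM X 0).1 (rL1 X).2.2.2.1 (uI X 13) (rG1 X).2.2.2.2.2.2.2.2.2.2.2.2.2.2.2.1 (rG2 X).1 (rG2 X).2.1 (wM X 20) (rL1 X).2.2.2.2.1 (rL1 X).2.2.2.2.2.1 ((leD (Ws := wb2x_W) (K := 5) (n := 4) (by decide +kernel)).trans (RM X).top.le) ((SL X).cm1 ((aL X).wds wb2x_lt 4) (aw X) cm28) (fun v hv => (cl27a X) v ((wb2u X).1.le hv))) (rL1 X).2.2.2.2.2.2.1 (dcj (dkzp X) (wM X 25).1 (rL1 X).2.2.2.2.2.2.2.1 (rL1 X).2.2.2.2.2.2.2.2.1).symm (dcj (dkzp X) (uI X 16) (rG2 X).2.2.1 (rG2 X).2.2.2.1) (dcj (dkzp X) (uI X 17) (rG2 X).2.2.2.2.1 (rG2 X).2.2.2.2.2.1) (uI X 14) (uI X 15) (rG2 X).2.2.2.2.2.2.1 (rG2 X).2.2.2.2.2.2.2.1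
    (rG2 X).2.2.2.2.2.2.2.2.1 (rG2 X).2.2.2.2.2.2.2.2.2.1 (rL1 X).2.2.2.2.2.2.2.2.2.1 (dcj (dkzp X) (wM X 26).1 (rL1 X).2.2.2.2.2.2.2.2.2.2.1 (rL1 X).2.2.2.2.2.2.2.2.2.2.2.1) (rG2 X).2.2.2.2.2.2.2.2.2.2.1 (rG2 X).2.2.2.2.2.2.2.2.2.2.2.1 (rL1 X).2.2.2.2.2.2.2.2.2.2.2.2.1 (rL1 X).2.2.2.2.2.2.2.2.2.2.2.2.2.1
theorem n3u : C[(w g 0)] ⊓ C(gen (wds (m g) n3x_W) 6) = gen (wds (m g) n3e_W) 4 ∧ #(gen (wds (m g) n3e_W) 4) = 16 :=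
  have ⟨_, M, u⟩ := (RA X).md
  cen_up (u.wds n3x_lt _) (u.wds n3e_lt _) (n3_eq M)
theorem en33 : En (wds (m g) n3e_W) 4 en33W 16 :=
  (SL X).en ((aL X).wds n3e_lt 4) en33a en33b en33c
theorem cl34a : type_of% (cl34g (SG X) (aU X) (en33 X) ((am X).wds n3e_lt 4)) := cl34g (SG X) (aU X) (en33 X) ((am X).wds n3e_lt 4)
theorem dn {Bz : G → G → Prop} : Dv (gen g 11) (w g 0) Bz false (w g 27) (w g 15) :=
  dn3 (y := (wds (m g) n3x_W)) (rL1 X).2.2.2.2.2.2.2.2.2.2.2.2.2.2.1 (dcj (dqb2 X) (wM X 31).1 (rL1 X).2.2.2.2.2.2.2.2.2.2.2.2.2.2.2.1 (rL2 X).1).symm (dcj (dqb1 X) (wM X 32).1 (rL2 X).2.1 (rL2 X).2.2.1).symm (uI X 19) (uI X 20) (rG2 X).2.2.2.2.2.2.2.2.2.2.2.2.1 (rG2 X).2.2.2.2.2.2.2.2.2.2.2.2.2.1 (rG2 X).2.2.2.2.2.2.2.2.2.2.2.2.2.2.1 (rG2 X).2.2.2.2.2.2.2.2.2.2.2.2.2.2.2.1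
    (dcj (dqb1 X) (uI X 22) (rG3 X).1 (rG3 X).2.1) (wM X 0).1 (rL2 X).2.2.2.1 (rL2 X).2.2.2.2.1 (rG3 X).2.2.1 (rG3 X).2.2.2.1 (X := (gen (pk (w g) [28, 29, 30, 20]) 4)) (gen_le.2 fun k hk => match k, hk with | 0, _ => (wM X 28) | 1, _ => (wM X 29) | 2, _ => (wM X 30) | 3, _ => (wM X 20)) ((SL X).cm1 (act_pk (W := [28, 29, 30, 20]) (m := 4) (aw X) (by decide +kernel)) (aw X) cm38) ((SL X).cm1 (act_pk (W := [28, 29, 30, 20]) (m := 4) (aw X) (by decide +kernel)) (aw X) cm39)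
    (fun k hk => match k, hk with | 0, _ => .inl rfl | 1, _ => .inr (.inl rfl) | 2, _ => .inr (.inr (mem_gen (pk (w g) [28, 29, 30, 20]) (by decide : 0 < 4))) | 3, _ => .inr (.inr (mem_gen (pk (w g) [28, 29, 30, 20]) (by decide : 1 < 4))) | 4, _ => .inr (.inr (mem_gen (pk (w g) [28, 29, 30, 20]) (by decide : 2 < 4))) | 5, _ => .inr (.inr (mem_gen (pk (w g) [28, 29, 30, 20]) (by decide : 3 < 4)))) (n3u X).1 ((leD (Ws := n3e_W) (K := 5) (n := 4) (by decide +kernel)).trans (RM X).top.le) (cl34a X)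
theorem dsc {Bz : G → G → Prop} : Dv (gen g 11) (w g 0) Bz false (w g 0) (u g 25) :=
  .tri (rG3 X).2.2.2.2.1 (dcj (dn X) (uI X 26) (rG3 X).2.2.2.2.2.1 (rG3 X).2.2.2.2.2.2.1) (dcj (dn X) (uI X 27) (rG3 X).2.2.2.2.2.2.2.1 (rG3 X).2.2.2.2.2.2.2.2.1).symm (dcj (dn X) (uI X 28) (rG3 X).2.2.2.2.2.2.2.2.2.1 (rG3 X).2.2.2.2.2.2.2.2.2.2.1)
theorem gS : gen g 11 ≤ (gen (pk (cat (w g) 55 (u g)) [0, 84, 85]) 3) :=
  ((SG X).le (act_pk (W := [0, 84, 85]) (m := 3) (aU X) (by decide +kernel)) (X.M.act.mono (K' := 11) (by decide)) le43)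
theorem cvr : Cv C[(w g 0)] (wds (m g) covr_W) (6 + 2) :=
  have ⟨_, M, u⟩ := (RA X).md
  cov_up (u.wds covr_lt _) fun _ h => cov M (e := 1) h h
theorem cs : Cs (D g) (w g 3) (w g 54) :=
  (co X).cls (y := (pk (cat (w g) 55 (u g)) [0, 3, 54, 54])) (cvr X) ((SG X).cjs ((cj_act X.M).mono (K' := 8) (by decide)) ((am X).wds covr_lt 8) (act_pk (W := [0, 3, 54, 54]) (m := 4) (aU X) (by decide +kernel)) cjk) rfl rfl rfl rfl (rL2 X).2.2.2.2.2.1 (rL2 X).2.2.2.2.2.2.1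
theorem cfu : C[(w g 0)] ⊓ C(gen (wds (m g) cfx_W) 1) = gen (wds (m g) cfe_W) 6 ∧ #(gen (wds (m g) cfe_W) 6) = 96 :=
  have ⟨_, M, u⟩ := (RA X).md
  cen_up (u.wds cfx_lt _) (u.wds cfe_lt _) (cf_eq M)
theorem ee1 : EE (D g).I (w g 54) ≤ 2 ^ 4 :=
  (co X).ee (cvr X) (((leD (Ws := covr_W) (K := 5) (n := 6) (by decide +kernel)).trans (RM X).top.le).trans inf_le_left) rfl rfl (phI X) (rL0 X).1 (cen2 (cfu X) :) (cen2 (cfu X) :) (by decide) (.inr (by decide))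
theorem ee2 : EE (D g).I (w g 54) ≤ 2 ^ 4 :=
  (co X).ee (cvr X) (((leD (Ws := covr_W) (K := 5) (n := 6) (by decide +kernel)).trans (RM X).top.le).trans inf_le_left) rfl rfl (phI X) (rL0 X).1 (cen2 (cfu X) :) (cen2 (cfu X) :) (by decide) (.inr (by decide))
theorem eo1 : 2 ^ 4 ≤ EE (D g).I (w g 54) :=
  (co X).eo1 (phI X) (cen2 (cfu X) :) (rL2 X).2.2.2.2.2.2.2.1 (by decide)
theorem eo2 : 2 ^ 4 ≤ EE (D g).I (w g 54) :=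
  (co X).eo1 (phI X) (cen2 (cfu X) :) (rL2 X).2.2.2.2.2.2.2.1 (by decide)
theorem ctu : C[(w g 0)] ⊓ C(gen (wds (m g) ctx_W) 4) = gen (wds (m g) cte_W) 1 ∧ #(gen (wds (m g) cte_W) 1) = 2 :=
  have ⟨_, M, u⟩ := (RA X).md
  cen_up (u.wds ctx_lt _) (u.wds cte_lt _) (ct_eq M)
theorem en47 : En (wds (m g) cte_W) 1 en47W 2 :=
  (SL X).en ((aL X).wds cte_lt 1) en47a en47b en47c
theorem cl48a : type_of% (cl48g (SL X) (aw X) (en47 X) ((aL X).wds cte_lt 1)) := cl48g (SL X) (aw X) (en47 X) ((aL X).wds cte_lt 1)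
theorem cT : ∀ β ∈ C((D g).T), β = 1 ∨ β = (D g).z :=
  (co X).cen (co X).zT ((SL X).le ((aL X).wds t_lt 10) ((aL X).wds ctx_lt 4) le49) (fun v hv => (cl48a X) v ((ctu X).1.le hv))
theorem cku : C[(w g 0)] ⊓ C(gen (wds (m g) ckx_W) 2) = gen (wds (m g) cke_W) 1 ∧ #(gen (wds (m g) cke_W) 1) = 2 :=
  have ⟨_, M, u⟩ := (RA X).md
  cen_up (u.wds ckx_lt _) (u.wds cke_lt _) (ck_eq M)
theorem clu : gen g 11 ⊓ C[(w g 0)] ⊓ C(gen (wds (m g) clx_W) 1) = gen (wds (m g) cle_W) 9 ∧ #(gen (wds (m g) cle_W) 9) = 512 :=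
  have ⟨_, M, u⟩ := (RM X).md
  cen_up (u.wds clx_lt _) (u.wds cle_lt _) (cl_eq M)
theorem om : ∀ J ≤ gen g 11 ⊓ C[(w g 0)], gen g 11 ⊓ C[(w g 0)] ≤ N(J) → Odd #J → J = ⊥ :=
  odd_triv (k := 9) (wM X 3) (wM X 33) (wM X 34) (rL2 X).2.2.2.2.2.2.2.2.1 (cen2 (clu X) :) (rL2 X).2.2.2.2.2.2.2.2.2.1 (rL2 X).2.2.2.2.2.2.2.2.2.2.1
theorem cnu : gen g 11 ⊓ C[(w g 0)] ⊓ C(gen (wds (m g) cnx_W) 2) = gen (wds (m g) cne_W) 4 ∧ #(gen (wds (m g) cne_W) 4) = 16 :=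
  have ⟨_, M, u⟩ := (RM X).md
  cen_up (u.wds cnx_lt _) (u.wds cne_lt _) (cn_eq M)
theorem en50 : En (wds (m g) cne_W) 4 en50W 16 :=
  (SL X).en ((aM X).wds cne_lt 4) en50a en50b en50c
theorem cl51a : type_of% (cl51g (SL X) (aw X) (en50 X) ((aM X).wds cne_lt 4)) := cl51g (SL X) (aw X) (en50 X) ((aM X).wds cne_lt 4)
theorem g3j1 : G3 (D g) (w g 36) :=
  ⟨(rL2 X).2.2.2.2.2.2.2.2.2.2.2.1, (rL2 X).2.2.2.2.2.2.2.2.2.2.2.2.1, (pk (cat (w g) 55 (u g)) [44, 45, 91]), (wM X 44), (wM X 45), (uI X 36), (rG4 X).2.2.2.1, ((gS X).trans ((SG X).le (act_pk (W := [44, 45, 91]) (m := 3) (aU X) (by decide +kernel)) (act_pk (W := [0, 84, 85]) (m := 3) (aU X) (by decide +kernel)) le52))⟩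
theorem g3j2 : G3 (D g) (w g 37) :=
  ⟨(rL2 X).2.2.2.2.2.2.2.2.2.2.2.2.2.1, (rL2 X).2.2.2.2.2.2.2.2.2.2.2.2.2.2.1, (pk (cat (w g) 55 (u g)) [46, 47, 92]), (wM X 46), (wM X 47), (uI X 37), (rG4 X).2.2.2.2.1, ((gS X).trans ((SG X).le (act_pk (W := [46, 47, 92]) (m := 3) (aU X) (by decide +kernel)) (act_pk (W := [0, 84, 85]) (m := 3) (aU X) (by decide +kernel)) le53))⟩
theorem nj : ∀ J ≤ (D g).K, (D g).z ∈ J → (D g).I ⊓ C[(D g).z] ≤ N(J) →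
    #J ∣ (D g).d ∨ ∀ H, (∀ j ∈ J, j * j = 1 → j ≠ 1 → (D g).I ⊓ C[j] ≤ H) → (D g).I ≤ H :=
  (co X).nj (om X) ((SL X).cm1 ((aL X).mono (K' := 4) (by decide)) (aw X) cm54) (od2 (rL0 X).2.1) ((SL X).le ((aL X).wds t_lt 10) ((aL X).wds nu_lt 4) le55) (leD (Ws := nu_W) (K := 4) (n := 4) (by decide +kernel)) ((SL X).coms ((aL X).wds nu_lt 4) ((aM X).wds cnx_lt 2) co56)
    (fun v hv => have e := (cl51a X) v ((cnu X).1.le hv); by rcases e with e | e | e | e | e | e; exacts [.inl (Set.mem_of_eq_of_mem e (one_mem _)), .inl (Set.mem_of_eq_of_mem e (mem_zpowers _)), .inr ⟨_, (wM X 38), _, (wM X 39), .inl e⟩, .inr ⟨_, (wM X 40), _, (wM X 39), .inr e⟩, .inr ⟨_, (wM X 41), _, (wM X 35), .inr e⟩, .inr ⟨_, (wM X 42), _, (wM X 43), .inr e⟩]) (g3j1 X) (g3j2 X)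
theorem gn1 : Gen (D g).I (w g 54) :=
  (gen_of (x := (pk (cat (w g) 55 (u g)) [93, 94, 95])) (uI X 40) (uI X 38) (uI X 39) (rG4 X).2.2.2.2.2.1 (rG4 X).2.2.2.2.2.2.1 (rL0 X).1 (rG4 X).2.2.2.2.2.2.2.1 ((gS X).trans ((SG X).le (act_pk (W := [93, 94, 95]) (m := 3) (aU X) (by decide +kernel)) (act_pk (W := [0, 84, 85]) (m := 3) (aU X) (by decide +kernel)) le57)))
theorem zlu : C[(w g 0)] ⊓ C(gen (wds (m g) zlx_W) 9) = gen (wds (m g) zle_W) 2 ∧ #(gen (wds (m g) zle_W) 2) = 4 :=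
  have ⟨_, M, u⟩ := (RA X).md
  cen_up (u.wds zlx_lt _) (u.wds zle_lt _) (zl_eq M)
theorem en58 : En (wds (m g) zle_W) 2 en58W 4 :=
  (SL X).en ((aL X).wds zle_lt 2) en58a en58b en58c
theorem cl59a : type_of% (cl59g (SL X) (aw X) (en58 X) ((aL X).wds zle_lt 2)) := cl59g (SL X) (aw X) (en58 X) ((aL X).wds zle_lt 2)
theorem en60 : En (wds (m g) cle_W) 9 en60W 512 :=
  (SL X).en ((act_mat ((aM X).wds cle_lt 9) cle_q).mono (K' := 9) (by decide)) en60a en60b en60c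
theorem cl61a : type_of% (cl61g (SL X) (aw X) (en60 X) ((act_mat ((aM X).wds cle_lt 9) cle_q).mono (K' := 9) (by decide))) := cl61g (SL X) (aw X) (en60 X) ((act_mat ((aM X).wds cle_lt 9) cle_q).mono (K' := 9) (by decide))
theorem lf : (D g).LF (w g 3) ∧ 2 ^ 9 ≤ EE (D g).I (w g 3) :=
  (co X).lf (l' := (w g 48)) (cs X) (phI X) ((SL X).mem1 ((aL X).mono (K' := 4) (by decide)) (aw X) me5) ((SL X).mem1 ((aL X).wds t_lt 10) (aw X) me62) (rL2 X).2.2.2.2.2.2.2.2.1 (rL2 X).2.2.2.2.2.2.2.2.2.2.2.2.2.2.2.1 (rL2 X).2.2.2.2.2.1 (ceq (weq X 3 (by decide)) (gl_eq X.M) rfl) (cz' X)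
    (cen1 (clu X) :) ((SL X).le ((aL X).wds t_lt 10) ((aM X).wds cle_lt 9) le63) (by dsimp only [D]; decide) (fun v hv => (cl59a X) v ((zlu X).1.le hv)) (uI X 41) (uI X 42) (rG4 X).2.2.2.2.2.2.2.2.1 (rG4 X).2.2.2.2.2.2.2.2.2.1 (rG4 X).2.2.2.2.2.2.2.2.2.2.1 (rG4 X).2.2.2.2.2.2.2.2.2.2.2.1
    (uI X 44) (rG4 X).2.2.2.2.2.2.2.2.2.2.2.2.1 (H := (gen (pk (cat (w g) 55 (u g)) [100, 49]) 2)) (gen_le.2 fun k hk => match k, hk with | 0, _ => (uI X 45) | 1, _ => (wM X 49).1) ((SG X).cm1 (act_pk (W := [100, 49]) (m := 2) (aU X) (by decide +kernel)) (awG X) cm64) ((SG X).coms (act_pk (W := [100, 49]) (m := 2) (aU X) (by decide +kernel)) (act_pk (W := [100, 49]) (m := 2) (aU X) (by decide +kernel)) co65) (mem_gen _ (by decide : 1 < 2)) (rL3 X).1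
    ((SG X).cll (gle_act X.M) (aU X) nvk) (uI X 43) (rG4 X).2.2.2.2.2.2.2.2.2.2.2.2.2.1 (rG4 X).2.2.2.2.2.2.2.2.2.2.2.2.2.2.1 (rG4 X).2.2.2.2.2.2.2.2.2.2.2.2.2.2.2.1 (wM X 48).1 (rL3 X).2.1 (cl61a X)
theorem fa {Y : Type*} [Group Y] [IsSimpleGroup Y] (e : gen g 11 ≃* Y) (o : Nat.card (Out Y) = 2) : (D g).FA :=
  (co X).fa e o ((SL X).mem1 ((aL X).wds t_lt 10) (aw X) me66) ((SL X).mem1 ((aL X).wds t_lt 10) (aw X) me67) (rL3 X).2.2.1 (cT X) (leD (Ws := ckx_W) (K := 4) (n := 2) (by decide +kernel)) (cku X).1 (leD (Ws := cke_W) (K := 4) (n := 1) (by decide +kernel)) (om X) (by dsimp only [D]; decide) (nj X)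
    ((co X).smo (cs X) (wM X 3).1 (ee1 X) (ee2 X) (by dsimp only [D]; decide)) ((co X).gen' (cs X) (wM X 3).1 (gn1 X) (gn1 X)) (.inr ⟨_, (lf X).1⟩)
theorem fe : (D g).FE :=
  (co X).fe (H := (gen (m g) 4)) (j' := 2) (cs X) (wM X 3).1 (phI X) (rL2 X).2.2.2.2.2.1 (rL2 X).2.2.2.2.2.2.1 ((SL X).mem1 ((aL X).wds t_lt 10) (aw X) me66) ((SL X).mem1 ((aL X).wds t_lt 10) (aw X) me67) (rL3 X).2.2.2.1 (rL3 X).2.2.1 rfl (by decide) ((SL X).cms ((aL X).wds t_lt 2) ((aL X).wds t_lt 2) cs68)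
    (fun k hk => match k, hk with | 0, _ => ((SL X).rl ((aL X).wds t_lt 11) elk).1 | 1, _ => ((SL X).rl ((aL X).wds t_lt 11) elk).2.1) ((SL X).coms ((aL X).wds t_lt 10) ((aL X).wds t_lt 1) co69) ((co X).uY1 (cT X))
    (leD (Ws := t_W) (K := 4) (n := 10) (by decide +kernel)) (co X).Kp ((co X).KM.trans inf_le_left) ((SL X).norms ((aL X).wds t_lt 1) ((aL X).mono (K' := 4) (by decide)) ns70) (lf X).2 (eo1 X) (eo2 X) (ee1 X) (by dsimp only [D]; decide)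
theorem cpu : gen g 11 ⊓ C[(w g 0)] ⊓ C(gen (wds (m g) cpx_W) 1) = gen (wds (m g) cpe_W) 4 ∧ #(gen (wds (m g) cpe_W) 4) = 24 :=
  have ⟨_, M, u⟩ := (RM X).md
  cen_up (u.wds cpx_lt _) (u.wds cpe_lt _) (cp_eq M)
theorem en71 : En (wds (m g) cpe_W) 4 en71W 24 :=
  (SL X).en ((aM X).wds cpe_lt 4) en71a en71b en71c
theorem cl72a : type_of% (cl72g (SL X) (aw X) (en71 X) ((aM X).wds cpe_lt 4)) := cl72g (SL X) (aw X) (en71 X) ((aM X).wds cpe_lt 4)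
theorem nQ : gen g 11 ⊓ C[(w g 0)] ≤ N(gen (wds (m g) rq_W) 6) :=
  ((RM X).top.ge.trans ((SL X).norms ((aL X).wds rq_lt 6) ((aL X).mono (K' := 5) (by decide)) ns74))
theorem en76 : En (wds (m g) rv0_W) 4 en76W 16 :=
  (SL X).en ((act_mat ((aL X).wds rv0_lt 4) rv0_q).mono (K' := 4) (by decide)) en76a en76b en76c
theorem en80 : En (wds (m g) rv1_W) 4 en80W 16 :=
  (SL X).en ((act_mat ((aL X).wds rv1_lt 4) rv1_q).mono (K' := 4) (by decide)) en80a en80b en80c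
theorem cqu : C[(w g 0)] ⊓ C(gen (wds (m g) rq_W) 6) = gen (wds (m g) cqe_W) 1 ∧ #(gen (wds (m g) cqe_W) 1) = 2 :=
  have ⟨_, M, u⟩ := (RA X).md
  cen_up (u.wds rq_lt _) (u.wds cqe_lt _) (cq_eq M)
theorem en83 : En (wds (m g) cqe_W) 1 en83W 2 :=
  (SL X).en ((aL X).wds cqe_lt 1) en83a en83b en83c
theorem cl84a : type_of% (cl84g (SL X) (aw X) (en83 X) ((aL X).wds cqe_lt 1)) := cl84g (SL X) (aw X) (en83 X) ((aL X).wds cqe_lt 1)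
theorem rig : Rig (gen g 11 ⊓ C[(w g 0)]) (insert (D g).z' (insert (D g).w (D g).P)) :=
  rigQ (co X) ((SL X).mem1 ((aL X).mono (K' := 4) (by decide)) (aw X) me5) ((PiN.of_card_pow (by decide) (pfu X).2).sing_ne (by decide)) (leD (Ws := pf_W) (K := 4) (n := 1) (by decide +kernel)) (wM X 2)
    (y1 := (pk (w g) [4, 50, 1, 2, 51, 51])) (j1 := 4) (gen_le.2 fun k hk => match k, hk with | 0, _ => mem_sup_left (mem_sup_left (((SL X).le ((aL X).wds pf_lt 1) (act_pk (W := [4, 50]) (m := 2) (aw X) (by decide +kernel)) le73) (mem_gen _ (by decide : 0 < 2)))) | 1, _ => mem_sup_left (mem_sup_left (((SL X).le ((aL X).wds pf_lt 1) (act_pk (W := [4, 50]) (m := 2) (aw X) (by decide +kernel)) le73) (mem_gen _ (by decide : 1 < 2)))) | 2, _ => mem_sup_left (mem_sup_right (mem_zpowers _)) | 3, _ => mem_sup_right (mem_zpowers _))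 (wM X 52) ((SL X).mem1 ((aL X).wds rv0_lt 4) (aw X) me78) ((RM X).top.ge.trans ((SL X).norms ((aL X).wds rv0_lt 4) ((aL X).mono (K' := 5) (by decide)) ns75)) (rL3 X).2.2.2.2.1 cl77a ((SL X).rl (act_pk (W := [4, 50, 1, 2, 51, 51]) (m := 6) (aw X) (by decide +kernel)) cl77b)
    (fun v hv => (cl_app (((SL X).cls (en76 X) ((act_mat ((aL X).wds rv0_lt 4) rv0_q).mono (K' := 4) (by decide)) (act_pk (W := [4, 50, 1, 2, 51, 51]) (m := 6) (aw X) (by decide +kernel)) en76c.2.1 cl77) v hv)).imp_right fun e => by rcases e with e | e | e; exacts [.inl e, .inr ⟨_, (((SL X).le ((aL X).wds pf_lt 1) (act_pk (W := [4, 50]) (m := 2) (aw X) (by decide +kernel)) le73) (mem_gen _ (by decide : 0 < 2))), e⟩, .inr ⟨_, (((SL X).le ((aL X).wds pf_lt 1) (act_pk (W := [4, 50]) (m := 2) (aw X) (by decide +kernel)) le73) (mem_gen _ (by decide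 : 1 < 2))), e⟩])
    (y2 := (pk (w g) [4, 50, 1, 2, 11, 11])) (j2 := 4) (gen_le.2 fun k hk => match k, hk with | 0, _ => mem_sup_left (mem_sup_left (((SL X).le ((aL X).wds pf_lt 1) (act_pk (W := [4, 50]) (m := 2) (aw X) (by decide +kernel)) le73) (mem_gen _ (by decide : 0 < 2)))) | 1, _ => mem_sup_left (mem_sup_left (((SL X).le ((aL X).wds pf_lt 1) (act_pk (W := [4, 50]) (m := 2) (aw X) (by decide +kernel)) le73) (mem_gen _ (by decide : 1 < 2)))) | 2, _ => mem_sup_left (mem_sup_right (mem_zpowers _)) | 3, _ => mem_sup_right (mem_zpowers _)) (wM X 53) ((SL X).mem1 ((aL X).wds rv1_lt 4) (aw X) me82) ((RM X).top.ge.trans ((SL X).norms ((aL X).wds rv1_lt 4) ((aL X).mono (K' := 5) (by decide)) ns79)) (rL3 X).2.2.2.2.2.1 cl81a ((SL X).rl (act_pk (W := [4, 50, 1, 2, 11, 11]) (m := 6) (aw X) (by decide +kernel)) cl81b)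
    (fun v hv => (cl_app (((SL X).cls (en80 X) ((act_mat ((aL X).wds rv1_lt 4) rv1_q).mono (K' := 4) (by decide)) (act_pk (W := [4, 50, 1, 2, 11, 11]) (m := 6) (aw X) (by decide +kernel)) en80c.2.1 cl81) v hv)).imp_right fun e => by rcases e with e | e | e; exacts [.inl e, .inr ⟨_, (((SL X).le ((aL X).wds pf_lt 1) (act_pk (W := [4, 50]) (m := 2) (aw X) (by decide +kernel)) le73) (mem_gen _ (by decide : 0 < 2))), e⟩, .inr ⟨_, (((SL X).le ((aL X).wds pf_lt 1) (act_pk (W := [4, 50]) (m := 2) (aw X) (by decide +kernel)) le73) (mem_gen _ (by decide : 1 < 2))), e⟩])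
    (q := (pk (w g) [1, 2, 51, 11, 4])) rfl rfl rfl rfl (((SL X).le ((aL X).wds pf_lt 1) (act_pk (W := [4, 50]) (m := 2) (aw X) (by decide +kernel)) le73) (mem_gen _ (by decide : 0 < 2))) ((SL X).le (act_pk (W := [1, 2, 51, 11, 4]) (m := 5) (aw X) (by decide +kernel)) ((aL X).wds rq_lt 6) le85) (nQ X) ((SL X).mem1 ((aL X).wds rq_lt 6) (aw X) me86) (fun v hv => (cl84a X) v ((cqu X).1.le hv))
theorem cvu : C[(w g 0)] ⊓ C(gen (wds (m g) cvx_W) 2) = gen (wds (m g) cve_W) 2 ∧ #(gen (wds (m g) cve_W) 2) = 12 :=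
  have ⟨_, M, u⟩ := (RA X).md
  cen_up (u.wds cvx_lt _) (u.wds cve_lt _) (cv_eq M)
theorem fc' : (D g).FC :=
  fc (co X) (by dsimp only [D]; decide) (pfu X).2 (RM X).card (leD (Ws := pf_W) (K := 4) (n := 1) (by decide +kernel)) ((SL X).cms ((aL X).wds pf_lt 1) ((aL X).wds pf_lt 1) cs87) ((SL X).cm1 ((aL X).wds pf_lt 1) (aw X) cm6) ((SL X).cm1 ((aL X).wds pf_lt 1) (aw X) cm88) (wM X 2) (rL3 X).2.2.2.1 (rL3 X).2.2.2.2.2.2.1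
    (fun v hv => (cl72a X) v ((cpu X).1.le hv)) (.inl ⟨((SL X).mem1 ((aL X).mono (K' := 4) (by decide)) (aw X) me5), (mD (Ws := wW) (k := 2) (K := 4) (by decide +kernel))⟩) (X := (gen (wds (m g) cvx_W) 2)) (gen_le.2 fun k hk => match k, hk with | 0, _ => mem_sup_left (mem_gen (wds (m g) pf_W) (by decide : 0 < 1)) | 1, _ => mem_sup_right (mem_zpowers _))
    ((cvu X).1.le.trans ((SL X).le (act_pk (W := [0, 1, 4, 4]) (m := 4) (aw X) (by decide +kernel)) ((aL X).wds cve_lt 2) le89)) rfl rfl (mem_gen (wds (m g) pf_W) (by decide : 0 < 1)) (mem_gen (wds (m g) pf_W) (by decide : 0 < 1)) (uI X 0) ((SG X).cm1 ((am X).wds pf_lt 1) (au X) cm90) (rG0 X).1 (rG0 X).2.1 (uI X 1) ((SG X).cm1 ((am X).wds pf_lt 1) (au X) cm91) (rG0 X).2.2.2.2.2.2.2.2.2.1 (rG0 X).2.2.2.2.2.2.2.2.2.2.1 (rig X) (clq (x := (pk (cat (w g) 55 (u g))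 [0, 84, 85])) (gS X) (dcj (dn X) (uI X 33) (rG3 X).2.2.2.2.2.2.2.2.2.2.2.1 (rG3 X).2.2.2.2.2.2.2.2.2.2.2.2.1).symm (dcj (dsc X) (uI X 34) (rG3 X).2.2.2.2.2.2.2.2.2.2.2.2.2.1 (rG3 X).2.2.2.2.2.2.2.2.2.2.2.2.2.2.1).symm (dcj (dsc X) (uI X 35) (rG3 X).2.2.2.2.2.2.2.2.2.2.2.2.2.2.2.1 (rG4 X).1) rfl (uI X 31) (rG4 X).2.1 (uI X 32) (rG4 X).2.2.1)
end
end H15.NS.He
theorem H15.NS.he : H7.NS.HE := by
  obtain ⟨Y, Ω, _, _, γ, pt, X, ⟨e⟩⟩ := H15.NS.He.ex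
  have := X.M.fin
  have := H16.PHe.simple
  exact ⟨Y, _, ‹_›, H15.NS.He.D γ, ⟨H16.PHe.equiv.trans e.symm⟩, H15.NS.He.fa X e H16.OHe.out, H15.NS.He.fc' X, H15.NS.He.fe X⟩
namespace H15.NS.He

end H15.NS.He
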