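import Cfsg.Agent.H15.NS.HeB.C0

/-! Generated by tools/h15/ns/gen.py (kit tools/h0/tr). -/

set_option maxRecDepth 100000
set_option maxHeartbeats 0

namespace H15.NS.He
open H16 H0.TR
open scoped commutatorElement

theorem y1 : ∀ k < 12, ∀ i < 2058, (permEnt P (nth 0 iv) (nat_lit 2058)) k i = 0 := allZ2_sound y1_a
theorem y2_0 : ∀ i < 2058, (matEnt (wdsP H16.PHe.P sW) P (nat_lit 0)) i = 0 := allZ_sound0 y2_0_0
theorem y2_1 : ∀ i < 2058, (matEnt (wdsP H16.PHe.P sW) P (nat_lit 1)) i = 0 := allZ_sound0 y2_1_0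
theorem y2_2 : ∀ i < 2058, (matEnt (wdsP H16.PHe.P sW) P (nat_lit 2)) i = 0 := allZ_sound0 y2_2_0
theorem y2_3 : ∀ i < 2058, (matEnt (wdsP H16.PHe.P sW) P (nat_lit 3)) i = 0 := allZ_sound0 y2_3_0
theorem y2_4 : ∀ i < 2058, (matEnt (wdsP H16.PHe.P sW) P (nat_lit 4)) i = 0 := allZ_sound0 y2_4_0
theorem y2_5 : ∀ i < 2058, (matEnt (wdsP H16.PHe.P sW) P (nat_lit 5)) i = 0 := allZ_sound0 y2_5_0
theorem y2_6 : ∀ i < 2058, (matEnt (wdsP H16.PHe.P sW) P (nat_lit 6)) i = 0 := allZ_sound0 y2_6_0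
theorem y2_7 : ∀ i < 2058, (matEnt (wdsP H16.PHe.P sW) P (nat_lit 7)) i = 0 := allZ_sound0 y2_7_0
theorem y2_8 : ∀ i < 2058, (matEnt (wdsP H16.PHe.P sW) P (nat_lit 8)) i = 0 := allZ_sound0 y2_8_0
theorem y2_9 : ∀ i < 2058, (matEnt (wdsP H16.PHe.P sW) P (nat_lit 9)) i = 0 := allZ_sound0 y2_9_0
theorem y2_10 : ∀ i < 2058, (matEnt (wdsP H16.PHe.P sW) P (nat_lit 10)) i = 0 := allZ_sound0 y2_10_0
theorem y2 : ∀ k < 11, ∀ i < 2058, (matEnt (wdsP H16.PHe.P sW) P) k i = 0 :=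
  letters_glue (letters_glue (letters_glue (letters_glue (letters_glue (letters_glue (letters_glue (letters_glue (letters_glue (letters_glue (letters_glue (letters_nil) y2_0) y2_1) y2_2) y2_3) y2_4) y2_5) y2_6) y2_7) y2_8) y2_9) y2_10
theorem y3_0 : ∀ i < 2058, (extEnt P (nat_lit 11) xW (nat_lit 0)) i = 0 := allZ_sound0 y3_0_0
theorem y3_1 : ∀ i < 2058, (extEnt P (nat_lit 11) xW (nat_lit 1)) i = 0 := allZ_sound0 y3_1_0
theorem y3_2 : ∀ i < 2058, (extEnt P (nat_lit 11) xW (nat_lit 2)) i = 0 := allZ_sound0 y3_2_0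
theorem y3_3 : ∀ i < 2058, (extEnt P (nat_lit 11) xW (nat_lit 3)) i = 0 := allZ_sound0 y3_3_0
theorem y3_4 : ∀ i < 2058, (extEnt P (nat_lit 11) xW (nat_lit 4)) i = 0 := allZ_sound0 y3_4_0
theorem y3_5 : ∀ i < 2058, (extEnt P (nat_lit 11) xW (nat_lit 5)) i = 0 := allZ_sound0 y3_5_0
theorem y3_6 : ∀ i < 2058, (extEnt P (nat_lit 11) xW (nat_lit 6)) i = 0 := allZ_sound0 y3_6_0
theorem y3_7 : ∀ i < 2058, (extEnt P (nat_lit 11) xW (nat_lit 7)) i = 0 := allZ_sound0 y3_7_0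
theorem y3_8 : ∀ i < 2058, (extEnt P (nat_lit 11) xW (nat_lit 8)) i = 0 := allZ_sound0 y3_8_0
theorem y3_9 : ∀ i < 2058, (extEnt P (nat_lit 11) xW (nat_lit 9)) i = 0 := allZ_sound0 y3_9_0
theorem y3_10 : ∀ i < 2058, (extEnt P (nat_lit 11) xW (nat_lit 10)) i = 0 := allZ_sound0 y3_10_0
theorem y3 : ∀ k < 11, ∀ i < 2058, (extEnt P (nat_lit 11) xW) k i = 0 :=
  letters_glue (letters_glue (letters_glue (letters_glue (letters_glue (letters_glue (letters_glue (letters_glue (letters_glue (letters_glue (letters_glue (letters_nil) y3_0) y3_1) y3_2) y3_3) y3_4) y3_5) y3_6) y3_7) y3_8) y3_9) y3_10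
theorem y0 : ∀ i < 7, (leEnt (wdsP H16.PHe.P sW) H16.PHe.P 11 H16.PHe.B bW) i = 0 := allZ_sound0 y0_0
theorem yl_act {G Ω : Type*} [Group G] [MulAction G Ω] {g : ℕ → G} {pt : ℕ → Ω}
    (M : Act g pt P 2058 12) : Act (wds g yl_W) pt yl_P 2058 16 :=
  M.wds yl_lt _
theorem yll0_e : ∀ i < 2057, (dent yll0 yl_P (nat_lit 2058)) i = 0 := allZ_sound0 yll0_e_0
theorem yll0_ok : DOK yll0 yl_P 2058 := ⟨yll0_h, yll0_e⟩
theorem yll1_e : ∀ i < 1359, (dent yll1 yl_P (nat_lit 2058)) i = 0 := allZ_sound0 yll1_e_0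
theorem yll1_ok : DOK yll1 yl_P 2058 := ⟨yll1_h, yll1_e⟩
theorem yll2_e : ∀ i < 239, (dent yll2 yl_P (nat_lit 2058)) i = 0 := allZ_sound0 yll2_e_0
theorem yll2_ok : DOK yll2 yl_P 2058 := ⟨yll2_h, yll2_e⟩
theorem yll3_e : ∀ i < 11, (dent yll3 yl_P (nat_lit 2058)) i = 0 := allZ_sound0 yll3_e_0
theorem yll3_ok : DOK yll3 yl_P 2058 := ⟨yll3_h, yll3_e⟩
theorem yl_low {G Ω : Type*} [Group G] [MulAction G Ω] {g : ℕ → G} {pt : ℕ → Ω}
    (M : Act g pt P 2058 12) : SLow (gi (wds g yl_W)) pt 2058 [yll0, yll1, yll2, yll3] :=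
  ((((SLow.nil).cons yll3_ok (yl_act M) yl_f3).cons yll2_ok (yl_act M) yl_f2).cons yll1_ok (yl_act M) yl_f1).cons yll0_ok (yl_act M) yl_f0
theorem gzx_act {G Ω : Type*} [Group G] [MulAction G Ω] {g : ℕ → G} {pt : ℕ → Ω}
    (M : Md g pt P 2058 12 B 8060774400) : Act (wds g gzx_W) pt gzx_P 2058 1 :=
  M.wact gzx_lt
theorem gzth_act {G Ω : Type*} [Group G] [MulAction G Ω] {g : ℕ → G} {pt : ℕ → Ω}
    (M : Md g pt P 2058 12 B 8060774400) : Act (wds g gzth_W) pt gzth_P 2058 24 :=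
  M.wact gzth_lt
theorem gztl0_e : ∀ i < 2057, (dent gztl0 gzth_P (nat_lit 2058)) i = 0 := allZ_sound0 gztl0_e_0
theorem gztl0_ok : DOK gztl0 gzth_P 2058 := ⟨gztl0_h, gztl0_e⟩
theorem gztl1_e : ∀ i < 424, (dent gztl1 gzth_P (nat_lit 2058)) i = 0 := allZ_sound0 gztl1_e_0
theorem gztl1_ok : DOK gztl1 gzth_P 2058 := ⟨gztl1_h, gztl1_e⟩
theorem gztl2_e : ∀ i < 7, (dent gztl2 gzth_P (nat_lit 2058)) i = 0 := allZ_sound0 gztl2_e_0
theorem gztl2_ok : DOK gztl2 gzth_P 2058 := ⟨gztl2_h, gztl2_e⟩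
theorem gztl3_e : ∀ i < 2, (dent gztl3 gzth_P (nat_lit 2058)) i = 0 := allZ_sound0 gztl3_e_0
theorem gztl3_ok : DOK gztl3 gzth_P 2058 := ⟨gztl3_h, gztl3_e⟩
theorem gztl4_e : ∀ i < 1, (dent gztl4 gzth_P (nat_lit 2058)) i = 0 := allZ_sound0 gztl4_e_0
theorem gztl4_ok : DOK gztl4 gzth_P 2058 := ⟨gztl4_h, gztl4_e⟩
theorem gztl5_e : ∀ i < 3, (dent gztl5 gzth_P (nat_lit 2058)) i = 0 := allZ_sound0 gztl5_e_0
theorem gztl5_ok : DOK gztl5 gzth_P 2058 := ⟨gztl5_h, gztl5_e⟩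
theorem gztl6_e : ∀ i < 2, (dent gztl6 gzth_P (nat_lit 2058)) i = 0 := allZ_sound0 gztl6_e_0
theorem gztl6_ok : DOK gztl6 gzth_P 2058 := ⟨gztl6_h, gztl6_e⟩
theorem gztl7_e : ∀ i < 3, (dent gztl7 gzth_P (nat_lit 2058)) i = 0 := allZ_sound0 gztl7_e_0
theorem gztl7_ok : DOK gztl7 gzth_P 2058 := ⟨gztl7_h, gztl7_e⟩
theorem gztl8_e : ∀ i < 1, (dent gztl8 gzth_P (nat_lit 2058)) i = 0 := allZ_sound0 gztl8_e_0
theorem gztl8_ok : DOK gztl8 gzth_P 2058 := ⟨gztl8_h, gztl8_e⟩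
theorem gztl9_e : ∀ i < 1, (dent gztl9 gzth_P (nat_lit 2058)) i = 0 := allZ_sound0 gztl9_e_0
theorem gztl9_ok : DOK gztl9 gzth_P 2058 := ⟨gztl9_h, gztl9_e⟩
theorem gzt_low {G Ω : Type*} [Group G] [MulAction G Ω] {g : ℕ → G} {pt : ℕ → Ω}
    (M : Md g pt P 2058 12 B 8060774400) : SLow (gi (wds g gzth_W)) pt 2058 [gztl0, gztl1, gztl2, gztl3, gztl4, gztl5, gztl6, gztl7, gztl8, gztl9] :=
  ((((((((((SLow.nil).cons gztl9_ok (gzth_act M) gzt_f9).cons gztl8_ok (gzth_act M) gzt_f8).cons gztl7_ok (gzth_act M) gzt_f7).cons gztl6_ok (gzth_act M) gzt_f6).cons gztl5_ok (gzth_act M) gzt_f5).cons gztl4_ok (gzth_act M) gzt_f4).cons gztl3_ok (gzth_act M) gzt_f3).cons gztl2_ok (gzth_act M) gzt_f2).cons gztl1_ok (gzth_act M) gzt_f1).cons gztl0_ok (gzth_act M) gzt_f0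
theorem gzt_S0 {G Ω : Type*} [Group G] [MulAction G Ω] {g : ℕ → G} {pt : ℕ → Ω}
    (M : Md g pt P 2058 12 B 8060774400) : Stage ⊤ (wds g gzth_W) pt 2058 [gztl0, gztl1, gztl2, gztl3, gztl4, gztl5, gztl6, gztl7, gztl8, gztl9] [] :=
  M.stage (gzt_low M) gzt_c
theorem gzt_S1 {G Ω : Type*} [Group G] [MulAction G Ω] {g : ℕ → G} {pt : ℕ → Ω}
    (M : Md g pt P 2058 12 B 8060774400) : Stage ⊤ (wds g gzth_W) pt 2058 [gztl1, gztl2, gztl3, gztl4, gztl5, gztl6, gztl7, gztl8, gztl9] [gztl0.Pt 0] :=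
  (gzt_S0 M).next
theorem gzt_S2 {G Ω : Type*} [Group G] [MulAction G Ω] {g : ℕ → G} {pt : ℕ → Ω}
    (M : Md g pt P 2058 12 B 8060774400) : Stage ⊤ (wds g gzth_W) pt 2058 [gztl2, gztl3, gztl4, gztl5, gztl6, gztl7, gztl8, gztl9] [gztl1.Pt 0, gztl0.Pt 0] :=
  (gzt_S1 M).next
theorem gzt_S3 {G Ω : Type*} [Group G] [MulAction G Ω] {g : ℕ → G} {pt : ℕ → Ω}
    (M : Md g pt P 2058 12 B 8060774400) : Stage ⊤ (wds g gzth_W) pt 2058 [gztl3, gztl4, gztl5, gztl6, gztl7, gztl8, gztl9] [gztl2.Pt 0, gztl1.Pt 0, gztl0.Pt 0] :=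
  (gzt_S2 M).next
theorem gzt_S4 {G Ω : Type*} [Group G] [MulAction G Ω] {g : ℕ → G} {pt : ℕ → Ω}
    (M : Md g pt P 2058 12 B 8060774400) : Stage ⊤ (wds g gzth_W) pt 2058 [gztl4, gztl5, gztl6, gztl7, gztl8, gztl9] [gztl3.Pt 0, gztl2.Pt 0, gztl1.Pt 0, gztl0.Pt 0] :=
  (gzt_S3 M).next
theorem gzt_S5 {G Ω : Type*} [Group G] [MulAction G Ω] {g : ℕ → G} {pt : ℕ → Ω}
    (M : Md g pt P 2058 12 B 8060774400) : Stage ⊤ (wds g gzth_W) pt 2058 [gztl5, gztl6, gztl7, gztl8, gztl9] [gztl4.Pt 0, gztl3.Pt 0, gztl2.Pt 0, gztl1.Pt 0, gztl0.Pt 0] :=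
  (gzt_S4 M).next
theorem gzt_S6 {G Ω : Type*} [Group G] [MulAction G Ω] {g : ℕ → G} {pt : ℕ → Ω}
    (M : Md g pt P 2058 12 B 8060774400) : Stage ⊤ (wds g gzth_W) pt 2058 [gztl6, gztl7, gztl8, gztl9] [gztl5.Pt 0, gztl4.Pt 0, gztl3.Pt 0, gztl2.Pt 0, gztl1.Pt 0, gztl0.Pt 0] :=
  (gzt_S5 M).next
theorem gzt_S7 {G Ω : Type*} [Group G] [MulAction G Ω] {g : ℕ → G} {pt : ℕ → Ω}
    (M : Md g pt P 2058 12 B 8060774400) : Stage ⊤ (wds g gzth_W) pt 2058 [gztl7, gztl8, gztl9] [gztl6.Pt 0, gztl5.Pt 0, gztl4.Pt 0, gztl3.Pt 0, gztl2.Pt 0, gztl1.Pt 0, gztl0.Pt 0] :=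
  (gzt_S6 M).next
theorem gzt_S8 {G Ω : Type*} [Group G] [MulAction G Ω] {g : ℕ → G} {pt : ℕ → Ω}
    (M : Md g pt P 2058 12 B 8060774400) : Stage ⊤ (wds g gzth_W) pt 2058 [gztl8, gztl9] [gztl7.Pt 0, gztl6.Pt 0, gztl5.Pt 0, gztl4.Pt 0, gztl3.Pt 0, gztl2.Pt 0, gztl1.Pt 0, gztl0.Pt 0] :=
  (gzt_S7 M).next
theorem gzt_S9 {G Ω : Type*} [Group G] [MulAction G Ω] {g : ℕ → G} {pt : ℕ → Ω}
    (M : Md g pt P 2058 12 B 8060774400) : Stage ⊤ (wds g gzth_W) pt 2058 [gztl9] [gztl8.Pt 0, gztl7.Pt 0, gztl6.Pt 0, gztl5.Pt 0, gztl4.Pt 0, gztl3.Pt 0, gztl2.Pt 0, gztl1.Pt 0, gztl0.Pt 0] :=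
  (gzt_S8 M).next
theorem gzt_S10 {G Ω : Type*} [Group G] [MulAction G Ω] {g : ℕ → G} {pt : ℕ → Ω}
    (M : Md g pt P 2058 12 B 8060774400) : Stage ⊤ (wds g gzth_W) pt 2058 [] [gztl9.Pt 0, gztl8.Pt 0, gztl7.Pt 0, gztl6.Pt 0, gztl5.Pt 0, gztl4.Pt 0, gztl3.Pt 0, gztl2.Pt 0, gztl1.Pt 0, gztl0.Pt 0] :=
  (gzt_S9 M).next
theorem gze_act {G Ω : Type*} [Group G] [MulAction G Ω] {g : ℕ → G} {pt : ℕ → Ω}
    (M : Md g pt P 2058 12 B 8060774400) : Act (wds g gze_W) pt gze_P 2058 10 :=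
  M.wact gze_lt
theorem gzc8_e : ∀ i < 1, (dent gzc8 gze_P (nat_lit 2058)) i = 0 := allZ_sound0 gzc8_e_0
theorem gzc8_ok : DOK gzc8 gze_P 2058 := ⟨gzc8_h, gzc8_e⟩
theorem gztn0_1 : ∀ i < 2, (gztn0.ent P gzth_P gzx_P gzx_P gze_P (nat_lit 12) (nat_lit 1) B gztl8 [gztl9] (memO gzc8)) i = 0 := allZ_sound0 gztn0_1_0
theorem gztn0_t {G Ω : Type*} [Group G] [MulAction G Ω] {g : ℕ → G} {pt : ℕ → Ω}
    (M : Md g pt P 2058 12 B 8060774400) : TrO (gen (wds g gzth_W) gztl8.K) (wds g gzx_W) (wds g gzx_W) 1 pt 2058 (gztl8.Pt 0) (memO gzc8) :=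
  node M (gzt_S8 M) (gzth_act M) (gzx_act M) (gzx_act M) gztn0 ((gze_act M).mono (by decide)) (fun _ _ => trivial) gztn0_0 gztn0_1 (List.forall_mem_nil _)
theorem gzc7_e : ∀ i < 1, (dent gzc7 gze_P (nat_lit 2058)) i = 0 := allZ_sound0 gzc7_e_0
theorem gzc7_ok : DOK gzc7 gze_P 2058 := ⟨gzc7_h, gzc7_e⟩
theorem gztn1_1 : ∀ i < 4, (gztn1.ent P gzth_P gzx_P gzx_P gze_P (nat_lit 12) (nat_lit 1) B gztl7 [gztl8, gztl9] (memO gzc7)) i = 0 := allZ_sound0 gztn1_1_0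
theorem gztn1_t {G Ω : Type*} [Group G] [MulAction G Ω] {g : ℕ → G} {pt : ℕ → Ω}
    (M : Md g pt P 2058 12 B 8060774400) : TrO (gen (wds g gzth_W) gztl7.K) (wds g gzx_W) (wds g gzx_W) 1 pt 2058 (gztl7.Pt 0) (memO gzc7) :=
  node M (gzt_S7 M) (gzth_act M) (gzx_act M) (gzx_act M) gztn1 ((gze_act M).mono (by decide)) (fun _ _ => trivial) gztn1_0 gztn1_1 (List.forall_mem_nil _)
theorem gzc5_e : ∀ i < 3, (dent gzc5 gze_P (nat_lit 2058)) i = 0 := allZ_sound0 gzc5_e_0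
theorem gzc5_ok : DOK gzc5 gze_P 2058 := ⟨gzc5_h, gzc5_e⟩
theorem gztn2_1 : ∀ i < 4, (gztn2.ent P gzth_P gzx_P gzx_P gze_P (nat_lit 12) (nat_lit 1) B gztl5 [gztl6, gztl7, gztl8, gztl9] (memO gzc5)) i = 0 := allZ_sound0 gztn2_1_0
theorem gztn2_t {G Ω : Type*} [Group G] [MulAction G Ω] {g : ℕ → G} {pt : ℕ → Ω}
    (M : Md g pt P 2058 12 B 8060774400) : TrO (gen (wds g gzth_W) gztl5.K) (wds g gzx_W) (wds g gzx_W) 1 pt 2058 (gztl5.Pt 0) (memO gzc5) :=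
  node M (gzt_S5 M) (gzth_act M) (gzx_act M) (gzx_act M) gztn2 ((gze_act M).mono (by decide)) (fun _ _ => trivial) gztn2_0 gztn2_1 (List.forall_mem_nil _)
theorem gzc4_e : ∀ i < 1, (dent gzc4 gze_P (nat_lit 2058)) i = 0 := allZ_sound0 gzc4_e_0
theorem gzc4_ok : DOK gzc4 gze_P 2058 := ⟨gzc4_h, gzc4_e⟩
theorem gztn3_1 : ∀ i < 2, (gztn3.ent P gzth_P gzx_P gzx_P gze_P (nat_lit 12) (nat_lit 1) B gztl4 [gztl5, gztl6, gztl7, gztl8, gztl9] (memO gzc4)) i = 0 := allZ_sound0 gztn3_1_0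
theorem gztn3_t {G Ω : Type*} [Group G] [MulAction G Ω] {g : ℕ → G} {pt : ℕ → Ω}
    (M : Md g pt P 2058 12 B 8060774400) : TrO (gen (wds g gzth_W) gztl4.K) (wds g gzx_W) (wds g gzx_W) 1 pt 2058 (gztl4.Pt 0) (memO gzc4) :=
  node M (gzt_S4 M) (gzth_act M) (gzx_act M) (gzx_act M) gztn3 ((gze_act M).mono (by decide)) (fun _ _ => trivial) gztn3_0 gztn3_1 (List.forall_mem_nil _)
theorem gzc2_e : ∀ i < 3, (dent gzc2 gze_P (nat_lit 2058)) i = 0 := allZ_sound0 gzc2_e_0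
theorem gzc2_ok : DOK gzc2 gze_P 2058 := ⟨gzc2_h, gzc2_e⟩
theorem gztn4_1 : ∀ i < 8, (gztn4.ent P gzth_P gzx_P gzx_P gze_P (nat_lit 12) (nat_lit 1) B gztl2 [gztl3, gztl4, gztl5, gztl6, gztl7, gztl8, gztl9] (memO gzc2)) i = 0 := allZ_sound0 gztn4_1_0
theorem gztn4_t {G Ω : Type*} [Group G] [MulAction G Ω] {g : ℕ → G} {pt : ℕ → Ω}
    (M : Md g pt P 2058 12 B 8060774400) : TrO (gen (wds g gzth_W) gztl2.K) (wds g gzx_W) (wds g gzx_W) 1 pt 2058 (gztl2.Pt 0) (memO gzc2) :=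
  node M (gzt_S2 M) (gzth_act M) (gzx_act M) (gzx_act M) gztn4 ((gze_act M).mono (by decide)) (fun _ _ => trivial) gztn4_0 gztn4_1 (List.forall_mem_nil _)
theorem gzc1_e : ∀ i < 7, (dent gzc1 gze_P (nat_lit 2058)) i = 0 := allZ_sound0 gzc1_e_0
theorem gzc1_ok : DOK gzc1 gze_P 2058 := ⟨gzc1_h, gzc1_e⟩
theorem gztn5y113_act {G Ω : Type*} [Group G] [MulAction G Ω] {g : ℕ → G} {pt : ℕ → Ω}
    (M : Md g pt P 2058 12 B 8060774400) : Act (wds g gztn5y113_W) pt gztn5y113_P 2058 1 :=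
  M.wact gztn5y113_lt
theorem gztr6k_act {G Ω : Type*} [Group G] [MulAction G Ω] {g : ℕ → G} {pt : ℕ → Ω}
    (M : Md g pt P 2058 12 B 8060774400) : Act (wds g gztr6k_W) pt gztr6k_P 2058 3 :=
  M.wact gztr6k_lt
theorem gztn6_1 : ∀ i < 8, (gztn6.ent P gzth_P gzx_P gztn5y113_P gztr6k_P (nat_lit 12) (nat_lit 1) B gztl2 [gztl3, gztl4, gztl5, gztl6, gztl7, gztl8, gztl9] (fun _ => nat_lit 1)) i = 0 := allZ_sound0 gztn6_1_0
theorem gztn6_t {G Ω : Type*} [Group G] [MulAction G Ω] {g : ℕ → G} {pt : ℕ → Ω}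
    (M : Md g pt P 2058 12 B 8060774400) : TrO (gen (wds g gzth_W) gztl2.K) (wds g gzx_W) (wds g gztn5y113_W) 1 pt 2058 (gztl2.Pt 0) (fun _ => nat_lit 1) :=
  node M (gzt_S2 M) (gzth_act M) (gzx_act M) (gztn5y113_act M) gztn6 ((gztr6k_act M).mono (by decide)) (fun _ _ => trivial) gztn6_0 gztn6_1 (List.forall_mem_nil _)
theorem gztr6 {G Ω : Type*} [Group G] [MulAction G Ω] {g : ℕ → G} {pt : ℕ → Ω}
    (M : Md g pt P 2058 12 B 8060774400) : Ref (gen (wds g gzth_W) (topK [gztl2, gztl3, gztl4, gztl5, gztl6, gztl7, gztl8, gztl9])) (wds g gzx_W) (wds g gztn5y113_W) 1 :=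
  (gztn6_t M).ref
theorem gztn5_1 : ∀ i < 425, (gztn5.ent P gzth_P gzx_P gzx_P gze_P (nat_lit 12) (nat_lit 1) B gztl1 [gztl2, gztl3, gztl4, gztl5, gztl6, gztl7, gztl8, gztl9] (memO gzc1)) i = 0 := allZ_sound0 gztn5_1_0
theorem gztn5_t {G Ω : Type*} [Group G] [MulAction G Ω] {g : ℕ → G} {pt : ℕ → Ω}
    (M : Md g pt P 2058 12 B 8060774400) : TrO (gen (wds g gzth_W) gztl1.K) (wds g gzx_W) (wds g gzx_W) 1 pt 2058 (gztl1.Pt 0) (memO gzc1) :=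
  node M (gzt_S1 M) (gzth_act M) (gzx_act M) (gzx_act M) gztn5 ((gze_act M).mono (by decide)) (fun _ _ => trivial) gztn5_0 gztn5_1 (List.forall_mem_cons.2 ⟨gztr6 M, List.forall_mem_nil _⟩)
theorem gzc0_e : ∀ i < 41, (dent gzc0 gze_P (nat_lit 2058)) i = 0 := allZ_sound0 gzc0_e_0
theorem gzc0_ok : DOK gzc0 gze_P 2058 := ⟨gzc0_h, gzc0_e⟩
theorem gztn7_1 : ∀ i < 2058, (gztn7.ent P gzth_P gzx_P gzx_P gze_P (nat_lit 12) (nat_lit 1) B gztl0 [gztl1, gztl2, gztl3, gztl4, gztl5, gztl6, gztl7, gztl8, gztl9] (memO gzc0)) i = 0 := allZ_sound0 gztn7_1_0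
theorem gztn7_t {G Ω : Type*} [Group G] [MulAction G Ω] {g : ℕ → G} {pt : ℕ → Ω}
    (M : Md g pt P 2058 12 B 8060774400) : TrO (gen (wds g gzth_W) gztl0.K) (wds g gzx_W) (wds g gzx_W) 1 pt 2058 (gztl0.Pt 0) (memO gzc0) :=
  node M (gzt_S0 M) (gzth_act M) (gzx_act M) (gzx_act M) gztn7 ((gze_act M).mono (by decide)) (fun _ _ => trivial) gztn7_0 gztn7_1 (List.forall_mem_nil _)
theorem gz {G Ω : Type*} [Group G] [MulAction G Ω] {g : ℕ → G} {pt : ℕ → Ω}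
    (M : Md g pt P 2058 12 B 8060774400) : Cen ⊤ (wds g gzx_W) 1 (wds g gze_W) pt 2058 [gzc0, gzc1, gzc2, gzc4, gzc5, gzc7, gzc8] :=
  (gzt_S0 M).top ▸ Cen.lev M (gzt_S0 M) (Cen.lev M (gzt_S1 M) (Cen.lev M (gzt_S2 M) (Cen.triv (gzt_S3 M) (Cen.lev M (gzt_S4 M) (Cen.lev M (gzt_S5 M) (Cen.triv (gzt_S6 M) (Cen.lev M (gzt_S7 M) (Cen.lev M (gzt_S8 M) (Cen.triv (gzt_S9 M) (Cen.bot) (forced (gzt_S9 M) (gzth_act M) (gzx_act M) _ _ gz_f9)) (gztn0_t M) (gzx_act M) (gze_act M) (fun _ _ => trivial) gzc8_ok gz_f8) (gztn1_t M) (gzx_act M) (gze_act M) (fun _ _ => trivial) gzc7_ok gz_f7) (forced (gzt_S6 M) (gzth_act M) (gzx_act M) _ _ gz_f6)) (gztn2_t M) (gzx_act M) (gze_act M) (fun _ _ => trivial) gzc5_ok gz_f5) (gztn3_t M) (gzx_act M) (gze_act M) (fun _ _ => trivial) gzc4_ok gz_f4) (forced (gzt_S3 M) (gzth_act M) (gzx_act M) _ _ gz_f3)) (gztn4_t M) (gzx_act M) (gze_act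 M) (fun _ _ => trivial) gzc2_ok gz_f2) (gztn5_t M) (gzx_act M) (gze_act M) (fun _ _ => trivial) gzc1_ok gz_f1) (gztn7_t M) (gzx_act M) (gze_act M) (fun _ _ => trivial) gzc0_ok gz_f0
theorem gz_card {G Ω : Type*} [Group G] [MulAction G Ω] {g : ℕ → G} {pt : ℕ → Ω}
    (M : Md g pt P 2058 12 B 8060774400) : Nat.card (Subgroup.centralizer {(wds g gzx_W) 0}) = 43008 :=
  (gz M).card_cent1 M.inj gz_c.1
theorem gz_eq {G Ω : Type*} [Group G] [MulAction G Ω] {g : ℕ → G} {pt : ℕ → Ω}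
    (M : Md g pt P 2058 12 B 8060774400) : Subgroup.centralizer (gen (wds g gzx_W) 1) = gen (wds g gze_W) 10 ∧ Nat.card (gen (wds g gze_W) 10) = 43008 :=
  gz_c.1 ▸ gz_c.2 ▸ ⟨(gz M).cent, (gz M).card M.inj⟩
theorem glx_act {G Ω : Type*} [Group G] [MulAction G Ω] {g : ℕ → G} {pt : ℕ → Ω}
    (M : Md g pt P 2058 12 B 8060774400) : Act (wds g glx_W) pt glx_P 2058 1 :=
  M.wact glx_lt
theorem glth_act {G Ω : Type*} [Group G] [MulAction G Ω] {g : ℕ → G} {pt : ℕ → Ω}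
    (M : Md g pt P 2058 12 B 8060774400) : Act (wds g glth_W) pt glth_P 2058 20 :=
  M.wact glth_lt
theorem gltl0_e : ∀ i < 2057, (dent gltl0 glth_P (nat_lit 2058)) i = 0 := allZ_sound0 gltl0_e_0
theorem gltl0_ok : DOK gltl0 glth_P 2058 := ⟨gltl0_h, gltl0_e⟩
theorem gltl1_e : ∀ i < 271, (dent gltl1 glth_P (nat_lit 2058)) i = 0 := allZ_sound0 gltl1_e_0
theorem gltl1_ok : DOK gltl1 glth_P 2058 := ⟨gltl1_h, gltl1_e⟩
theorem gltl2_e : ∀ i < 74, (dent gltl2 glth_P (nat_lit 2058)) i = 0 := allZ_sound0 gltl2_e_0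
theorem gltl2_ok : DOK gltl2 glth_P 2058 := ⟨gltl2_h, gltl2_e⟩
theorem gltl3_e : ∀ i < 1, (dent gltl3 glth_P (nat_lit 2058)) i = 0 := allZ_sound0 gltl3_e_0
theorem gltl3_ok : DOK gltl3 glth_P 2058 := ⟨gltl3_h, gltl3_e⟩
theorem gltl4_e : ∀ i < 1, (dent gltl4 glth_P (nat_lit 2058)) i = 0 := allZ_sound0 gltl4_e_0
theorem gltl4_ok : DOK gltl4 glth_P 2058 := ⟨gltl4_h, gltl4_e⟩
theorem gltl5_e : ∀ i < 3, (dent gltl5 glth_P (nat_lit 2058)) i = 0 := allZ_sound0 gltl5_e_0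
theorem gltl5_ok : DOK gltl5 glth_P 2058 := ⟨gltl5_h, gltl5_e⟩
theorem gltl6_e : ∀ i < 3, (dent gltl6 glth_P (nat_lit 2058)) i = 0 := allZ_sound0 gltl6_e_0
theorem gltl6_ok : DOK gltl6 glth_P 2058 := ⟨gltl6_h, gltl6_e⟩
theorem gltl7_e : ∀ i < 2, (dent gltl7 glth_P (nat_lit 2058)) i = 0 := allZ_sound0 gltl7_e_0
theorem gltl7_ok : DOK gltl7 glth_P 2058 := ⟨gltl7_h, gltl7_e⟩
theorem glt_low {G Ω : Type*} [Group G] [MulAction G Ω] {g : ℕ → G} {pt : ℕ → Ω}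
    (M : Md g pt P 2058 12 B 8060774400) : SLow (gi (wds g glth_W)) pt 2058 [gltl0, gltl1, gltl2, gltl3, gltl4, gltl5, gltl6, gltl7] :=
  ((((((((SLow.nil).cons gltl7_ok (glth_act M) glt_f7).cons gltl6_ok (glth_act M) glt_f6).cons gltl5_ok (glth_act M) glt_f5).cons gltl4_ok (glth_act M) glt_f4).cons gltl3_ok (glth_act M) glt_f3).cons gltl2_ok (glth_act M) glt_f2).cons gltl1_ok (glth_act M) glt_f1).cons gltl0_ok (glth_act M) glt_f0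
theorem glt_S0 {G Ω : Type*} [Group G] [MulAction G Ω] {g : ℕ → G} {pt : ℕ → Ω}
    (M : Md g pt P 2058 12 B 8060774400) : Stage ⊤ (wds g glth_W) pt 2058 [gltl0, gltl1, gltl2, gltl3, gltl4, gltl5, gltl6, gltl7] [] :=
  M.stage (glt_low M) glt_c
theorem glt_S1 {G Ω : Type*} [Group G] [MulAction G Ω] {g : ℕ → G} {pt : ℕ → Ω}
    (M : Md g pt P 2058 12 B 8060774400) : Stage ⊤ (wds g glth_W) pt 2058 [gltl1, gltl2, gltl3, gltl4, gltl5, gltl6, gltl7] [gltl0.Pt 0] :=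
  (glt_S0 M).next
theorem glt_S2 {G Ω : Type*} [Group G] [MulAction G Ω] {g : ℕ → G} {pt : ℕ → Ω}
    (M : Md g pt P 2058 12 B 8060774400) : Stage ⊤ (wds g glth_W) pt 2058 [gltl2, gltl3, gltl4, gltl5, gltl6, gltl7] [gltl1.Pt 0, gltl0.Pt 0] :=
  (glt_S1 M).next
theorem glt_S3 {G Ω : Type*} [Group G] [MulAction G Ω] {g : ℕ → G} {pt : ℕ → Ω}
    (M : Md g pt P 2058 12 B 8060774400) : Stage ⊤ (wds g glth_W) pt 2058 [gltl3, gltl4, gltl5, gltl6, gltl7] [gltl2.Pt 0, gltl1.Pt 0, gltl0.Pt 0] :=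
  (glt_S2 M).next
theorem glt_S4 {G Ω : Type*} [Group G] [MulAction G Ω] {g : ℕ → G} {pt : ℕ → Ω}
    (M : Md g pt P 2058 12 B 8060774400) : Stage ⊤ (wds g glth_W) pt 2058 [gltl4, gltl5, gltl6, gltl7] [gltl3.Pt 0, gltl2.Pt 0, gltl1.Pt 0, gltl0.Pt 0] :=
  (glt_S3 M).next
theorem glt_S5 {G Ω : Type*} [Group G] [MulAction G Ω] {g : ℕ → G} {pt : ℕ → Ω}
    (M : Md g pt P 2058 12 B 8060774400) : Stage ⊤ (wds g glth_W) pt 2058 [gltl5, gltl6, gltl7] [gltl4.Pt 0, gltl3.Pt 0, gltl2.Pt 0, gltl1.Pt 0, gltl0.Pt 0] :=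
  (glt_S4 M).next
theorem glt_S6 {G Ω : Type*} [Group G] [MulAction G Ω] {g : ℕ → G} {pt : ℕ → Ω}
    (M : Md g pt P 2058 12 B 8060774400) : Stage ⊤ (wds g glth_W) pt 2058 [gltl6, gltl7] [gltl5.Pt 0, gltl4.Pt 0, gltl3.Pt 0, gltl2.Pt 0, gltl1.Pt 0, gltl0.Pt 0] :=
  (glt_S5 M).next
theorem glt_S7 {G Ω : Type*} [Group G] [MulAction G Ω] {g : ℕ → G} {pt : ℕ → Ω}
    (M : Md g pt P 2058 12 B 8060774400) : Stage ⊤ (wds g glth_W) pt 2058 [gltl7] [gltl6.Pt 0, gltl5.Pt 0, gltl4.Pt 0, gltl3.Pt 0, gltl2.Pt 0, gltl1.Pt 0, gltl0.Pt 0] :=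
  (glt_S6 M).next
theorem glt_S8 {G Ω : Type*} [Group G] [MulAction G Ω] {g : ℕ → G} {pt : ℕ → Ω}
    (M : Md g pt P 2058 12 B 8060774400) : Stage ⊤ (wds g glth_W) pt 2058 [] [gltl7.Pt 0, gltl6.Pt 0, gltl5.Pt 0, gltl4.Pt 0, gltl3.Pt 0, gltl2.Pt 0, gltl1.Pt 0, gltl0.Pt 0] :=
  (glt_S7 M).next
theorem gle_act {G Ω : Type*} [Group G] [MulAction G Ω] {g : ℕ → G} {pt : ℕ → Ω}
    (M : Md g pt P 2058 12 B 8060774400) : Act (wds g gle_W) pt gle_P 2058 10 :=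
  M.wact gle_lt
theorem glc7_e : ∀ i < 2, (dent glc7 gle_P (nat_lit 2058)) i = 0 := allZ_sound0 glc7_e_0
theorem glc7_ok : DOK glc7 gle_P 2058 := ⟨glc7_h, glc7_e⟩
theorem gltn0_1 : ∀ i < 3, (gltn0.ent P glth_P glx_P glx_P gle_P (nat_lit 12) (nat_lit 1) B gltl7 [] (memO glc7)) i = 0 := allZ_sound0 gltn0_1_0
theorem gltn0_t {G Ω : Type*} [Group G] [MulAction G Ω] {g : ℕ → G} {pt : ℕ → Ω}
    (M : Md g pt P 2058 12 B 8060774400) : TrO (gen (wds g glth_W) gltl7.K) (wds g glx_W) (wds g glx_W) 1 pt 2058 (gltl7.Pt 0) (memO glc7) :=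
  node M (glt_S7 M) (glth_act M) (glx_act M) (glx_act M) gltn0 ((gle_act M).mono (by decide)) (fun _ _ => trivial) gltn0_0 gltn0_1 (List.forall_mem_nil _)
theorem glc5_e : ∀ i < 3, (dent glc5 gle_P (nat_lit 2058)) i = 0 := allZ_sound0 glc5_e_0
theorem glc5_ok : DOK glc5 gle_P 2058 := ⟨glc5_h, glc5_e⟩
theorem gltn1_1 : ∀ i < 4, (gltn1.ent P glth_P glx_P glx_P gle_P (nat_lit 12) (nat_lit 1) B gltl5 [gltl6, gltl7] (memO glc5)) i = 0 := allZ_sound0 gltn1_1_0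
theorem gltn1_t {G Ω : Type*} [Group G] [MulAction G Ω] {g : ℕ → G} {pt : ℕ → Ω}
    (M : Md g pt P 2058 12 B 8060774400) : TrO (gen (wds g glth_W) gltl5.K) (wds g glx_W) (wds g glx_W) 1 pt 2058 (gltl5.Pt 0) (memO glc5) :=
  node M (glt_S5 M) (glth_act M) (glx_act M) (glx_act M) gltn1 ((gle_act M).mono (by decide)) (fun _ _ => trivial) gltn1_0 gltn1_1 (List.forall_mem_nil _)
theorem glc4_e : ∀ i < 1, (dent glc4 gle_P (nat_lit 2058)) i = 0 := allZ_sound0 glc4_e_0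
theorem glc4_ok : DOK glc4 gle_P 2058 := ⟨glc4_h, glc4_e⟩
theorem gltn2_1 : ∀ i < 2, (gltn2.ent P glth_P glx_P glx_P gle_P (nat_lit 12) (nat_lit 1) B gltl4 [gltl5, gltl6, gltl7] (memO glc4)) i = 0 := allZ_sound0 gltn2_1_0
theorem gltn2_t {G Ω : Type*} [Group G] [MulAction G Ω] {g : ℕ → G} {pt : ℕ → Ω}
    (M : Md g pt P 2058 12 B 8060774400) : TrO (gen (wds g glth_W) gltl4.K) (wds g glx_W) (wds g glx_W) 1 pt 2058 (gltl4.Pt 0) (memO glc4) :=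
  node M (glt_S4 M) (glth_act M) (glx_act M) (glx_act M) gltn2 ((gle_act M).mono (by decide)) (fun _ _ => trivial) gltn2_0 gltn2_1 (List.forall_mem_nil _)
theorem glc3_e : ∀ i < 1, (dent glc3 gle_P (nat_lit 2058)) i = 0 := allZ_sound0 glc3_e_0
theorem glc3_ok : DOK glc3 gle_P 2058 := ⟨glc3_h, glc3_e⟩
theorem gltn3_1 : ∀ i < 2, (gltn3.ent P glth_P glx_P glx_P gle_P (nat_lit 12) (nat_lit 1) B gltl3 [gltl4, gltl5, gltl6, gltl7] (memO glc3)) i = 0 := allZ_sound0 gltn3_1_0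
theorem gltn3_t {G Ω : Type*} [Group G] [MulAction G Ω] {g : ℕ → G} {pt : ℕ → Ω}
    (M : Md g pt P 2058 12 B 8060774400) : TrO (gen (wds g glth_W) gltl3.K) (wds g glx_W) (wds g glx_W) 1 pt 2058 (gltl3.Pt 0) (memO glc3) :=
  node M (glt_S3 M) (glth_act M) (glx_act M) (glx_act M) gltn3 ((gle_act M).mono (by decide)) (fun _ _ => trivial) gltn3_0 gltn3_1 (List.forall_mem_nil _)
theorem glc2_e : ∀ i < 4, (dent glc2 gle_P (nat_lit 2058)) i = 0 := allZ_sound0 glc2_e_0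
theorem glc2_ok : DOK glc2 gle_P 2058 := ⟨glc2_h, glc2_e⟩
theorem gltn4_1 : ∀ i < 75, (gltn4.ent P glth_P glx_P glx_P gle_P (nat_lit 12) (nat_lit 1) B gltl2 [gltl3, gltl4, gltl5, gltl6, gltl7] (memO glc2)) i = 0 := allZ_sound0 gltn4_1_0
theorem gltn4_t {G Ω : Type*} [Group G] [MulAction G Ω] {g : ℕ → G} {pt : ℕ → Ω}
    (M : Md g pt P 2058 12 B 8060774400) : TrO (gen (wds g glth_W) gltl2.K) (wds g glx_W) (wds g glx_W) 1 pt 2058 (gltl2.Pt 0) (memO glc2) :=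
  node M (glt_S2 M) (glth_act M) (glx_act M) (glx_act M) gltn4 ((gle_act M).mono (by decide)) (fun _ _ => trivial) gltn4_0 gltn4_1 (List.forall_mem_nil _)
theorem glc1_e : ∀ i < 11, (dent glc1 gle_P (nat_lit 2058)) i = 0 := allZ_sound0 glc1_e_0
theorem glc1_ok : DOK glc1 gle_P 2058 := ⟨glc1_h, glc1_e⟩
theorem gltn5y194_act {G Ω : Type*} [Group G] [MulAction G Ω] {g : ℕ → G} {pt : ℕ → Ω}
    (M : Md g pt P 2058 12 B 8060774400) : Act (wds g gltn5y194_W) pt gltn5y194_P 2058 1 :=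
  M.wact gltn5y194_lt
theorem gltr6k_act {G Ω : Type*} [Group G] [MulAction G Ω] {g : ℕ → G} {pt : ℕ → Ω}
    (M : Md g pt P 2058 12 B 8060774400) : Act (wds g gltr6k_W) pt gltr6k_P 2058 4 :=
  M.wact gltr6k_lt
theorem gltn6y892_act {G Ω : Type*} [Group G] [MulAction G Ω] {g : ℕ → G} {pt : ℕ → Ω}
    (M : Md g pt P 2058 12 B 8060774400) : Act (wds g gltn6y892_W) pt gltn6y892_P 2058 1 :=
  M.wact gltn6y892_lt
theorem gltr7k_act {G Ω : Type*} [Group G] [MulAction G Ω] {g : ℕ → G} {pt : ℕ → Ω}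
    (M : Md g pt P 2058 12 B 8060774400) : Act (wds g gltr7k_W) pt gltr7k_P 2058 3 :=
  M.wact gltr7k_lt
theorem gltn7y192_act {G Ω : Type*} [Group G] [MulAction G Ω] {g : ℕ → G} {pt : ℕ → Ω}
    (M : Md g pt P 2058 12 B 8060774400) : Act (wds g gltn7y192_W) pt gltn7y192_P 2058 1 :=
  M.wact gltn7y192_lt
theorem gltr8k_act {G Ω : Type*} [Group G] [MulAction G Ω] {g : ℕ → G} {pt : ℕ → Ω}
    (M : Md g pt P 2058 12 B 8060774400) : Act (wds g gltr8k_W) pt gltr8k_P 2058 2 :=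
  M.wact gltr8k_lt
theorem gltn8_1 : ∀ i < 2, (gltn8.ent P glth_P glx_P gltn7y192_P gltr8k_P (nat_lit 12) (nat_lit 1) B gltl4 [gltl5, gltl6, gltl7] (fun _ => nat_lit 1)) i = 0 := allZ_sound0 gltn8_1_0
theorem gltn8_t {G Ω : Type*} [Group G] [MulAction G Ω] {g : ℕ → G} {pt : ℕ → Ω}
    (M : Md g pt P 2058 12 B 8060774400) : TrO (gen (wds g glth_W) gltl4.K) (wds g glx_W) (wds g gltn7y192_W) 1 pt 2058 (gltl4.Pt 0) (fun _ => nat_lit 1) :=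
  node M (glt_S4 M) (glth_act M) (glx_act M) (gltn7y192_act M) gltn8 ((gltr8k_act M).mono (by decide)) (fun _ _ => trivial) gltn8_0 gltn8_1 (List.forall_mem_nil _)
theorem gltr8 {G Ω : Type*} [Group G] [MulAction G Ω] {g : ℕ → G} {pt : ℕ → Ω}
    (M : Md g pt P 2058 12 B 8060774400) : Ref (gen (wds g glth_W) (topK [gltl4, gltl5, gltl6, gltl7])) (wds g glx_W) (wds g gltn7y192_W) 1 :=
  (gltn8_t M).ref
theorem gltn7_1 : ∀ i < 2, (gltn7.ent P glth_P glx_P gltn6y892_P gltr7k_P (nat_lit 12) (nat_lit 1) B gltl3 [gltl4, gltl5, gltl6, gltl7] (fun _ => nat_lit 1)) i = 0 := allZ_sound0 gltn7_1_0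
theorem gltn7_t {G Ω : Type*} [Group G] [MulAction G Ω] {g : ℕ → G} {pt : ℕ → Ω}
    (M : Md g pt P 2058 12 B 8060774400) : TrO (gen (wds g glth_W) gltl3.K) (wds g glx_W) (wds g gltn6y892_W) 1 pt 2058 (gltl3.Pt 0) (fun _ => nat_lit 1) :=
  node M (glt_S3 M) (glth_act M) (glx_act M) (gltn6y892_act M) gltn7 ((gltr7k_act M).mono (by decide)) (fun _ _ => trivial) gltn7_0 gltn7_1 (List.forall_mem_cons.2 ⟨gltr8 M, List.forall_mem_nil _⟩)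
theorem gltr7 {G Ω : Type*} [Group G] [MulAction G Ω] {g : ℕ → G} {pt : ℕ → Ω}
    (M : Md g pt P 2058 12 B 8060774400) : Ref (gen (wds g glth_W) (topK [gltl3, gltl4, gltl5, gltl6, gltl7])) (wds g glx_W) (wds g gltn6y892_W) 1 :=
  (gltn7_t M).ref
theorem gltn6_1 : ∀ i < 75, (gltn6.ent P glth_P glx_P gltn5y194_P gltr6k_P (nat_lit 12) (nat_lit 1) B gltl2 [gltl3, gltl4, gltl5, gltl6, gltl7] (fun _ => nat_lit 1)) i = 0 := allZ_sound0 gltn6_1_0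
theorem gltn6_t {G Ω : Type*} [Group G] [MulAction G Ω] {g : ℕ → G} {pt : ℕ → Ω}
    (M : Md g pt P 2058 12 B 8060774400) : TrO (gen (wds g glth_W) gltl2.K) (wds g glx_W) (wds g gltn5y194_W) 1 pt 2058 (gltl2.Pt 0) (fun _ => nat_lit 1) :=
  node M (glt_S2 M) (glth_act M) (glx_act M) (gltn5y194_act M) gltn6 ((gltr6k_act M).mono (by decide)) (fun _ _ => trivial) gltn6_0 gltn6_1 (List.forall_mem_cons.2 ⟨gltr7 M, List.forall_mem_nil _⟩)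
theorem gltr6 {G Ω : Type*} [Group G] [MulAction G Ω] {g : ℕ → G} {pt : ℕ → Ω}
    (M : Md g pt P 2058 12 B 8060774400) : Ref (gen (wds g glth_W) (topK [gltl2, gltl3, gltl4, gltl5, gltl6, gltl7])) (wds g glx_W) (wds g gltn5y194_W) 1 :=
  (gltn6_t M).ref
theorem gltn5_1 : ∀ i < 272, (gltn5.ent P glth_P glx_P glx_P gle_P (nat_lit 12) (nat_lit 1) B gltl1 [gltl2, gltl3, gltl4, gltl5, gltl6, gltl7] (memO glc1)) i = 0 := allZ_sound0 gltn5_1_0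
theorem gltn5_t {G Ω : Type*} [Group G] [MulAction G Ω] {g : ℕ → G} {pt : ℕ → Ω}
    (M : Md g pt P 2058 12 B 8060774400) : TrO (gen (wds g glth_W) gltl1.K) (wds g glx_W) (wds g glx_W) 1 pt 2058 (gltl1.Pt 0) (memO glc1) :=
  node M (glt_S1 M) (glth_act M) (glx_act M) (glx_act M) gltn5 ((gle_act M).mono (by decide)) (fun _ _ => trivial) gltn5_0 gltn5_1 (List.forall_mem_cons.2 ⟨gltr6 M, List.forall_mem_nil _⟩)
theorem glc0_e : ∀ i < 111, (dent glc0 gle_P (nat_lit 2058)) i = 0 := allZ_sound0 glc0_e_0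
theorem glc0_ok : DOK glc0 gle_P 2058 := ⟨glc0_h, glc0_e⟩
theorem gltn9y871_act {G Ω : Type*} [Group G] [MulAction G Ω] {g : ℕ → G} {pt : ℕ → Ω}
    (M : Md g pt P 2058 12 B 8060774400) : Act (wds g gltn9y871_W) pt gltn9y871_P 2058 1 :=
  M.wact gltn9y871_lt
theorem gltr10k_act {G Ω : Type*} [Group G] [MulAction G Ω] {g : ℕ → G} {pt : ℕ → Ω}
    (M : Md g pt P 2058 12 B 8060774400) : Act (wds g gltr10k_W) pt gltr10k_P 2058 3 :=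
  M.wact gltr10k_lt
theorem gltn10y123_act {G Ω : Type*} [Group G] [MulAction G Ω] {g : ℕ → G} {pt : ℕ → Ω}
    (M : Md g pt P 2058 12 B 8060774400) : Act (wds g gltn10y123_W) pt gltn10y123_P 2058 1 :=
  M.wact gltn10y123_lt
theorem gltr11k_act {G Ω : Type*} [Group G] [MulAction G Ω] {g : ℕ → G} {pt : ℕ → Ω}
    (M : Md g pt P 2058 12 B 8060774400) : Act (wds g gltr11k_W) pt gltr11k_P 2058 3 :=
  M.wact gltr11k_lt
theorem gltn11y757_act {G Ω : Type*} [Group G] [MulAction G Ω] {g : ℕ → G} {pt : ℕ → Ω}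
    (M : Md g pt P 2058 12 B 8060774400) : Act (wds g gltn11y757_W) pt gltn11y757_P 2058 1 :=
  M.wact gltn11y757_lt
theorem gltr12k_act {G Ω : Type*} [Group G] [MulAction G Ω] {g : ℕ → G} {pt : ℕ → Ω}
    (M : Md g pt P 2058 12 B 8060774400) : Act (wds g gltr12k_W) pt gltr12k_P 2058 3 :=
  M.wact gltr12k_lt
theorem gltn12_1 : ∀ i < 2, (gltn12.ent P glth_P glx_P gltn11y757_P gltr12k_P (nat_lit 12) (nat_lit 1) B gltl3 [gltl4, gltl5, gltl6, gltl7] (fun _ => nat_lit 1)) i = 0 := allZ_sound0 gltn12_1_0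
theorem gltn12_t {G Ω : Type*} [Group G] [MulAction G Ω] {g : ℕ → G} {pt : ℕ → Ω}
    (M : Md g pt P 2058 12 B 8060774400) : TrO (gen (wds g glth_W) gltl3.K) (wds g glx_W) (wds g gltn11y757_W) 1 pt 2058 (gltl3.Pt 0) (fun _ => nat_lit 1) :=
  node M (glt_S3 M) (glth_act M) (glx_act M) (gltn11y757_act M) gltn12 ((gltr12k_act M).mono (by decide)) (fun _ _ => trivial) gltn12_0 gltn12_1 (List.forall_mem_nil _)
theorem gltr12 {G Ω : Type*} [Group G] [MulAction G Ω] {g : ℕ → G} {pt : ℕ → Ω}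
    (M : Md g pt P 2058 12 B 8060774400) : Ref (gen (wds g glth_W) (topK [gltl3, gltl4, gltl5, gltl6, gltl7])) (wds g glx_W) (wds g gltn11y757_W) 1 :=
  (gltn12_t M).ref
theorem gltn11_1 : ∀ i < 75, (gltn11.ent P glth_P glx_P gltn10y123_P gltr11k_P (nat_lit 12) (nat_lit 1) B gltl2 [gltl3, gltl4, gltl5, gltl6, gltl7] (fun _ => nat_lit 1)) i = 0 := allZ_sound0 gltn11_1_0
theorem gltn11_t {G Ω : Type*} [Group G] [MulAction G Ω] {g : ℕ → G} {pt : ℕ → Ω}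
    (M : Md g pt P 2058 12 B 8060774400) : TrO (gen (wds g glth_W) gltl2.K) (wds g glx_W) (wds g gltn10y123_W) 1 pt 2058 (gltl2.Pt 0) (fun _ => nat_lit 1) :=
  node M (glt_S2 M) (glth_act M) (glx_act M) (gltn10y123_act M) gltn11 ((gltr11k_act M).mono (by decide)) (fun _ _ => trivial) gltn11_0 gltn11_1 (List.forall_mem_cons.2 ⟨gltr12 M, List.forall_mem_nil _⟩)
theorem gltr11 {G Ω : Type*} [Group G] [MulAction G Ω] {g : ℕ → G} {pt : ℕ → Ω}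
    (M : Md g pt P 2058 12 B 8060774400) : Ref (gen (wds g glth_W) (topK [gltl2, gltl3, gltl4, gltl5, gltl6, gltl7])) (wds g glx_W) (wds g gltn10y123_W) 1 :=
  (gltn11_t M).ref
theorem gltn10y154_act {G Ω : Type*} [Group G] [MulAction G Ω] {g : ℕ → G} {pt : ℕ → Ω}
    (M : Md g pt P 2058 12 B 8060774400) : Act (wds g gltn10y154_W) pt gltn10y154_P 2058 1 :=
  M.wact gltn10y154_lt
theorem gltr13k_act {G Ω : Type*} [Group G] [MulAction G Ω] {g : ℕ → G} {pt : ℕ → Ω}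
    (M : Md g pt P 2058 12 B 8060774400) : Act (wds g gltr13k_W) pt gltr13k_P 2058 3 :=
  M.wact gltr13k_lt
theorem gltn13y302_act {G Ω : Type*} [Group G] [MulAction G Ω] {g : ℕ → G} {pt : ℕ → Ω}
    (M : Md g pt P 2058 12 B 8060774400) : Act (wds g gltn13y302_W) pt gltn13y302_P 2058 1 :=
  M.wact gltn13y302_lt
theorem gltr14k_act {G Ω : Type*} [Group G] [MulAction G Ω] {g : ℕ → G} {pt : ℕ → Ω}
    (M : Md g pt P 2058 12 B 8060774400) : Act (wds g gltr14k_W) pt gltr14k_P 2058 3 :=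
  M.wact gltr14k_lt
theorem gltn14_1 : ∀ i < 2, (gltn14.ent P glth_P glx_P gltn13y302_P gltr14k_P (nat_lit 12) (nat_lit 1) B gltl3 [gltl4, gltl5, gltl6, gltl7] (fun _ => nat_lit 1)) i = 0 := allZ_sound0 gltn14_1_0
theorem gltn14_t {G Ω : Type*} [Group G] [MulAction G Ω] {g : ℕ → G} {pt : ℕ → Ω}
    (M : Md g pt P 2058 12 B 8060774400) : TrO (gen (wds g glth_W) gltl3.K) (wds g glx_W) (wds g gltn13y302_W) 1 pt 2058 (gltl3.Pt 0) (fun _ => nat_lit 1) :=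
  node M (glt_S3 M) (glth_act M) (glx_act M) (gltn13y302_act M) gltn14 ((gltr14k_act M).mono (by decide)) (fun _ _ => trivial) gltn14_0 gltn14_1 (List.forall_mem_nil _)
theorem gltr14 {G Ω : Type*} [Group G] [MulAction G Ω] {g : ℕ → G} {pt : ℕ → Ω}
    (M : Md g pt P 2058 12 B 8060774400) : Ref (gen (wds g glth_W) (topK [gltl3, gltl4, gltl5, gltl6, gltl7])) (wds g glx_W) (wds g gltn13y302_W) 1 :=
  (gltn14_t M).ref
theorem gltn13_1 : ∀ i < 75, (gltn13.ent P glth_P glx_P gltn10y154_P gltr13k_P (nat_lit 12) (nat_lit 1) B gltl2 [gltl3, gltl4, gltl5, gltl6, gltl7] (fun _ => nat_lit 1)) i = 0 := allZ_sound0 gltn13_1_0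
theorem gltn13_t {G Ω : Type*} [Group G] [MulAction G Ω] {g : ℕ → G} {pt : ℕ → Ω}
    (M : Md g pt P 2058 12 B 8060774400) : TrO (gen (wds g glth_W) gltl2.K) (wds g glx_W) (wds g gltn10y154_W) 1 pt 2058 (gltl2.Pt 0) (fun _ => nat_lit 1) :=
  node M (glt_S2 M) (glth_act M) (glx_act M) (gltn10y154_act M) gltn13 ((gltr13k_act M).mono (by decide)) (fun _ _ => trivial) gltn13_0 gltn13_1 (List.forall_mem_cons.2 ⟨gltr14 M, List.forall_mem_nil _⟩)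
theorem gltr13 {G Ω : Type*} [Group G] [MulAction G Ω] {g : ℕ → G} {pt : ℕ → Ω}
    (M : Md g pt P 2058 12 B 8060774400) : Ref (gen (wds g glth_W) (topK [gltl2, gltl3, gltl4, gltl5, gltl6, gltl7])) (wds g glx_W) (wds g gltn10y154_W) 1 :=
  (gltn13_t M).ref
theorem gltn10_1 : ∀ i < 272, (gltn10.ent P glth_P glx_P gltn9y871_P gltr10k_P (nat_lit 12) (nat_lit 1) B gltl1 [gltl2, gltl3, gltl4, gltl5, gltl6, gltl7] (fun _ => nat_lit 1)) i = 0 := allZ_sound0 gltn10_1_0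
theorem gltn10_t {G Ω : Type*} [Group G] [MulAction G Ω] {g : ℕ → G} {pt : ℕ → Ω}
    (M : Md g pt P 2058 12 B 8060774400) : TrO (gen (wds g glth_W) gltl1.K) (wds g glx_W) (wds g gltn9y871_W) 1 pt 2058 (gltl1.Pt 0) (fun _ => nat_lit 1) :=
  node M (glt_S1 M) (glth_act M) (glx_act M) (gltn9y871_act M) gltn10 ((gltr10k_act M).mono (by decide)) (fun _ _ => trivial) gltn10_0 gltn10_1 (List.forall_mem_cons.2 ⟨gltr11 M, List.forall_mem_cons.2 ⟨gltr13 M, List.forall_mem_nil _⟩⟩)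
theorem gltr10 {G Ω : Type*} [Group G] [MulAction G Ω] {g : ℕ → G} {pt : ℕ → Ω}
    (M : Md g pt P 2058 12 B 8060774400) : Ref (gen (wds g glth_W) (topK [gltl1, gltl2, gltl3, gltl4, gltl5, gltl6, gltl7])) (wds g glx_W) (wds g gltn9y871_W) 1 :=
  (gltn10_t M).ref
theorem gltn9_1 : ∀ i < 2058, (gltn9.ent P glth_P glx_P glx_P gle_P (nat_lit 12) (nat_lit 1) B gltl0 [gltl1, gltl2, gltl3, gltl4, gltl5, gltl6, gltl7] (memO glc0)) i = 0 := allZ_sound0 gltn9_1_0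
theorem gltn9_t {G Ω : Type*} [Group G] [MulAction G Ω] {g : ℕ → G} {pt : ℕ → Ω}
    (M : Md g pt P 2058 12 B 8060774400) : TrO (gen (wds g glth_W) gltl0.K) (wds g glx_W) (wds g glx_W) 1 pt 2058 (gltl0.Pt 0) (memO glc0) :=
  node M (glt_S0 M) (glth_act M) (glx_act M) (glx_act M) gltn9 ((gle_act M).mono (by decide)) (fun _ _ => trivial) gltn9_0 gltn9_1 (List.forall_mem_cons.2 ⟨gltr10 M, List.forall_mem_nil _⟩)
theorem gl {G Ω : Type*} [Group G] [MulAction G Ω] {g : ℕ → G} {pt : ℕ → Ω}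
    (M : Md g pt P 2058 12 B 8060774400) : Cen ⊤ (wds g glx_W) 1 (wds g gle_W) pt 2058 [glc0, glc1, glc2, glc3, glc4, glc5, glc7] :=
  (glt_S0 M).top ▸ Cen.lev M (glt_S0 M) (Cen.lev M (glt_S1 M) (Cen.lev M (glt_S2 M) (Cen.lev M (glt_S3 M) (Cen.lev M (glt_S4 M) (Cen.lev M (glt_S5 M) (Cen.triv (glt_S6 M) (Cen.lev M (glt_S7 M) (Cen.bot) (gltn0_t M) (glx_act M) (gle_act M) (fun _ _ => trivial) glc7_ok gl_f7) (forced (glt_S6 M) (glth_act M) (glx_act M) _ _ gl_f6)) (gltn1_t M) (glx_act M) (gle_act M) (fun _ _ => trivial) glc5_ok gl_f5) (gltn2_t M) (glx_act M) (gle_act M) (fun _ _ => trivial) glc4_ok gl_f4) (gltn3_t M) (glx_act M) (gle_act M) (fun _ _ => trivial) glc3_ok gl_f3) (gltn4_t M) (glx_act M) (gle_act M) (fun _ _ => trivial) glc2_ok gl_f2) (gltn5_t M) (glx_act M) (gle_act M) (fun _ _ => trivial) glc1_ok gl_f1) (gltn9_t M) (glx_act M) (gle_act M) (fun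 _ _ => trivial) glc0_ok gl_f0
theorem gl_card {G Ω : Type*} [Group G] [MulAction G Ω] {g : ℕ → G} {pt : ℕ → Ω}
    (M : Md g pt P 2058 12 B 8060774400) : Nat.card (Subgroup.centralizer {(wds g glx_W) 0}) = 322560 :=
  (gl M).card_cent1 M.inj gl_c.1
theorem gl_eq {G Ω : Type*} [Group G] [MulAction G Ω] {g : ℕ → G} {pt : ℕ → Ω}
    (M : Md g pt P 2058 12 B 8060774400) : Subgroup.centralizer (gen (wds g glx_W) 1) = gen (wds g gle_W) 10 ∧ Nat.card (gen (wds g gle_W) 10) = 322560 :=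
  gl_c.1 ▸ gl_c.2 ▸ ⟨(gl M).cent, (gl M).card M.inj⟩
theorem res : ∀ k < 6, ∀ i < 714, (resEnt (wdsP P mW) Tm E EI (nat_lit 2058) (nat_lit 714)) k i = 0 := allZ2_sound res_a
theorem lo_act {G Ω : Type*} [Group G] [MulAction G Ω] {g : ℕ → G} {pt : ℕ → Ω} {A : Subgroup G} {c : ℕ}
    (M : Rm A g pt Tm 714 6 B1 c) : Act (wds g lo_W) pt lo_P 714 8 :=
  M.wact lo_lt
theorem lol0_e : ∀ i < 41, (dent lol0 lo_P (nat_lit 714)) i = 0 := allZ_sound0 lol0_e_0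
theorem lol0_ok : DOK lol0 lo_P 714 := ⟨lol0_h, lol0_e⟩
theorem lol1_e : ∀ i < 255, (dent lol1 lo_P (nat_lit 714)) i = 0 := allZ_sound0 lol1_e_0
theorem lol1_ok : DOK lol1 lo_P 714 := ⟨lol1_h, lol1_e⟩
theorem lol2_e : ∀ i < 3, (dent lol2 lo_P (nat_lit 714)) i = 0 := allZ_sound0 lol2_e_0
theorem lol2_ok : DOK lol2 lo_P 714 := ⟨lol2_h, lol2_e⟩
theorem lo_low {G Ω : Type*} [Group G] [MulAction G Ω] {g : ℕ → G} {pt : ℕ → Ω} {A : Subgroup G} {c : ℕ}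
    (M : Rm A g pt Tm 714 6 B1 c) : SLow (gi (wds g lo_W)) pt 714 [lol0, lol1, lol2] :=
  (((SLow.nil).cons lol2_ok (lo_act M) lo_f2).cons lol1_ok (lo_act M) lo_f1).cons lol0_ok (lo_act M) lo_f0
theorem lo_card {G Ω : Type*} [Group G] [MulAction G Ω] {g : ℕ → G} {pt : ℕ → Ω} {A : Subgroup G} {c : ℕ}
    (M : Rm A g pt Tm 714 6 B1 c) : 43008 ≤ Nat.card (gen (wds g lo_W) 8) :=
  by
    have := M.fin
    have := (lo_low M).card_ge M.inj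
    rwa [lo_c.1, lo_c.2, gen_gi] at this
structure Cx {G Ω : Type*} [Group G] [MulAction G Ω] (g : ℕ → G) (pt : ℕ → Ω) : Prop where
  M : Md g pt P 2058 12 B 8060774400
  i : (gen g 11).index = 2
noncomputable abbrev m {G : Type*} [Group G] (g : ℕ → G) : ℕ → G := wds g mW
noncomputable abbrev pl {Ω : Type*} (pt : ℕ → Ω) : ℕ → Ω := fun i => pt (E i)

open Subgroup H19
variable {G Ω : Type*} [Group G] [Finite G] [MulAction G Ω] {g : ℕ → G} {pt : ℕ → Ω}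
section
variable (X : Cx g pt)
include X
theorem SG : Bm G pt 2058 B :=
  mdb X.M
theorem am : Act (m g) pt (wdsP P mW) 2058 6 :=
  X.M.wact m_lt
theorem amM : Act (m g) pt (wdsP P mW) 2058 5 :=
  (am X).mono (by decide)
theorem R0 : Rm (gen (m g) 6) (m g) (pl pt) Tm 714 6 B1 (Nat.card (gen (m g) 6)) :=
  rm0 X.M (am X) (by decide) res resb
theorem SL : Bm G (pl pt) 714 B1 :=
  (R0 X).toBm
theorem aL : Act (m g) (pl pt) Tm 714 6 :=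
  (R0 X).act
theorem aM : Act (m g) (pl pt) Tm 714 5 :=
  (aL X).mono (by decide)
theorem up {A : Subgroup G} (h : gen (m g) 6 ≤ A) (k : #A ≤ 43008) : Rm A (m g) (pl pt) Tm 714 6 B1 43008 :=
  (R0 X).up h k ((R0 X).le lo_lt _) (lo_card (R0 X))
end
theorem ex : ∃ (Y Ω : Type) (_ : Group Y) (_ : MulAction Y Ω) (γ : ℕ → Y) (pt : ℕ → Ω), Cx γ pt ∧ Nonempty (gen γ 11 ≃* gen H16.PHe.g 7) := by
  obtain ⟨_, g, M, -⟩ := exists_md H16.PHe.act (ptF_inj 2058) H16.PHe.card H16.PHe.isBase ⟨H16.PHe.Blt, by decide⟩ (.refl _)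
  obtain ⟨Y, _, _, γ, M', i, e, -⟩ := md_ext (relet M sW_lt y0) y1 y2 y3 yl_low yc
  exact ⟨Y, _, _, _, γ, _, ⟨M', i⟩, ⟨e⟩⟩

end H15.NS.He
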