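import Cfsg.Agent.H15.NS.ON.C0
import Cfsg.Agent.H15.NS.ON.C1
import Cfsg.Agent.H15.NS3
import Cfsg.Agent.H16.O.ON
import Cfsg.Agent.H16.P.ONL

/-! Generated by tools/h15/ns/gen.py (kit tools/h0/tr). -/

set_option maxRecDepth 100000
set_option maxHeartbeats 0

namespace H15.NS.ON
open H16 H0.TR
open scoped commutatorElement

noncomputable abbrev w {G : Type*} [Group G] (g : ℕ → G) : ℕ → G := wds (m g) wW
noncomputable abbrev u {G : Type*} [Group G] (g : ℕ → G) : ℕ → G := wds g uW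
theorem t_act {G Ω : Type*} [Group G] [MulAction G Ω] {g : ℕ → G} {pt : ℕ → Ω} {c : ℕ}
    (M : Md g pt Tm 13920 6 B1 c) : Act (wds g t_W) pt t_P 13920 10 :=
  M.wact t_lt
theorem t_r_0 : ∀ i < 1792, (resEnt t_P tP tE tI (nat_lit 13920) (nat_lit 1792) (nat_lit 0)) i = 0 := allZ_sound0 t_r_0_0
theorem t_r_1 : ∀ i < 1792, (resEnt t_P tP tE tI (nat_lit 13920) (nat_lit 1792) (nat_lit 1)) i = 0 := allZ_sound0 t_r_1_0
theorem t_r_2 : ∀ i < 1792, (resEnt t_P tP tE tI (nat_lit 13920) (nat_lit 1792) (nat_lit 2)) i = 0 := allZ_sound0 t_r_2_0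
theorem t_r_3 : ∀ i < 1792, (resEnt t_P tP tE tI (nat_lit 13920) (nat_lit 1792) (nat_lit 3)) i = 0 := allZ_sound0 t_r_3_0
theorem t_r_4 : ∀ i < 1792, (resEnt t_P tP tE tI (nat_lit 13920) (nat_lit 1792) (nat_lit 4)) i = 0 := allZ_sound0 t_r_4_0
theorem t_r_5 : ∀ i < 1792, (resEnt t_P tP tE tI (nat_lit 13920) (nat_lit 1792) (nat_lit 5)) i = 0 := allZ_sound0 t_r_5_0
theorem t_r_6 : ∀ i < 1792, (resEnt t_P tP tE tI (nat_lit 13920) (nat_lit 1792) (nat_lit 6)) i = 0 := allZ_sound0 t_r_6_0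
theorem t_r_7 : ∀ i < 1792, (resEnt t_P tP tE tI (nat_lit 13920) (nat_lit 1792) (nat_lit 7)) i = 0 := allZ_sound0 t_r_7_0
theorem t_r_8 : ∀ i < 1792, (resEnt t_P tP tE tI (nat_lit 13920) (nat_lit 1792) (nat_lit 8)) i = 0 := allZ_sound0 t_r_8_0
theorem t_r_9 : ∀ i < 1792, (resEnt t_P tP tE tI (nat_lit 13920) (nat_lit 1792) (nat_lit 9)) i = 0 := allZ_sound0 t_r_9_0
theorem t_r : ∀ k < 10, ∀ i < 1792, (resEnt t_P tP tE tI (nat_lit 13920) (nat_lit 1792)) k i = 0 :=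
  letters_glue (letters_glue (letters_glue (letters_glue (letters_glue (letters_glue (letters_glue (letters_glue (letters_glue (letters_glue (letters_nil) t_r_0) t_r_1) t_r_2) t_r_3) t_r_4) t_r_5) t_r_6) t_r_7) t_r_8) t_r_9
theorem t_sm {G Ω : Type*} [Group G] [MulAction G Ω] {g : ℕ → G} {pt : ℕ → Ω} {c : ℕ}
    (M : Md g pt Tm 13920 6 B1 c) : Sm (wds g t_W) (fun i => pt (tE i)) tP 1792 10 tB ∧ ∀ i < 1792, tE i < 13920 :=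
  M.res (t_act M) (by decide) t_r t_b
theorem tl0_e : ∀ i < 255, (dent tl0 (wdsP tP te) (nat_lit 1792)) i = 0 := allZ_sound0 tl0_e_0
theorem tl0_ok : DOK tl0 (wdsP tP te) 1792 := ⟨tl0_h, tl0_e⟩
theorem tl1_e : ∀ i < 3, (dent tl1 (wdsP tP te) (nat_lit 1792)) i = 0 := allZ_sound0 tl1_e_0
theorem tl1_ok : DOK tl1 (wdsP tP te) 1792 := ⟨tl1_h, tl1_e⟩
theorem t_low {G Ω : Type*} [Group G] [MulAction G Ω] {g : ℕ → G} {pt : ℕ → Ω} {c : ℕ}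
    (M : Md g pt Tm 13920 6 B1 c) : SLow (gi (wds (wds g t_W) te)) (fun i => pt (tE i)) 1792 [tl0, tl1] :=
  ((SLow.nil).cons tl1_ok ((t_sm M).1.act.wds t_e 25) t_f1).cons tl0_ok ((t_sm M).1.act.wds t_e 25) t_f0
theorem t_pc {G Ω : Type*} [Group G] [MulAction G Ω] {g : ℕ → G} {pt : ℕ → Ω}
    (M : Md g pt Tm 13920 6 B1 322560) : PC (wds g t_W) 10 2 :=
  have := M.fin
  ((t_sm M).1.pc0 (by decide) t_p).pc (t_low M) (t_sm M).1.inj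
    (fun k => evA_mem_gen _ (nth_lt t_e k)) M.card ⟨by decide, t_c⟩
theorem t_pc0 {G Ω : Type*} [Group G] [MulAction G Ω] {g : ℕ → G} {pt : ℕ → Ω} {c : ℕ}
    (M : Md g pt Tm 13920 6 B1 c) : PC0 (wds g t_W) 10 2 ∧ Nat.card (gen (wds g t_W) 10) = 2 ^ 10 :=
  have := M.fin
  pc0c ((t_sm M).1.pc0 (by decide) t_p) (t_low M) (t_sm M).1.inj (fun k => evA_mem_gen _ (nth_lt t_e k)) t_c.1
theorem pf_act {G Ω : Type*} [Group G] [MulAction G Ω] {g : ℕ → G} {pt : ℕ → Ω} {c : ℕ}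
    (M : Md g pt Tm 13920 6 B1 c) : Act (wds g pf_W) pt pf_P 13920 2 :=
  M.wact pf_lt
theorem pf_r : ∀ k < 2, ∀ i < 27, (resEnt pf_P pfP pfE pfI (nat_lit 13920) (nat_lit 27)) k i = 0 := allZ2_sound pf_r_a
theorem pf_sm {G Ω : Type*} [Group G] [MulAction G Ω] {g : ℕ → G} {pt : ℕ → Ω} {c : ℕ}
    (M : Md g pt Tm 13920 6 B1 c) : Sm (wds g pf_W) (fun i => pt (pfE i)) pfP 27 2 pfB ∧ ∀ i < 27, pfE i < 13920 :=
  M.res (pf_act M) (by decide) pf_r pf_b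
theorem pfl0_e : ∀ i < 8, (dent pfl0 (wdsP pfP pfe) (nat_lit 27)) i = 0 := allZ_sound0 pfl0_e_0
theorem pfl0_ok : DOK pfl0 (wdsP pfP pfe) 27 := ⟨pfl0_h, pfl0_e⟩
theorem pf_low {G Ω : Type*} [Group G] [MulAction G Ω] {g : ℕ → G} {pt : ℕ → Ω} {c : ℕ}
    (M : Md g pt Tm 13920 6 B1 c) : SLow (gi (wds (wds g pf_W) pfe)) (fun i => pt (pfE i)) 27 [pfl0] :=
  (SLow.nil).cons pfl0_ok ((pf_sm M).1.act.wds pf_e 5) pf_f0
theorem pf_pc {G Ω : Type*} [Group G] [MulAction G Ω] {g : ℕ → G} {pt : ℕ → Ω}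
    (M : Md g pt Tm 13920 6 B1 322560) : PC (wds g pf_W) 2 3 :=
  have := M.fin
  ((pf_sm M).1.pc0 (by decide) pf_p).pc (pf_low M) (pf_sm M).1.inj
    (fun k => evA_mem_gen _ (nth_lt pf_e k)) M.card ⟨by decide, pf_c⟩
theorem pf_pc0 {G Ω : Type*} [Group G] [MulAction G Ω] {g : ℕ → G} {pt : ℕ → Ω} {c : ℕ}
    (M : Md g pt Tm 13920 6 B1 c) : PC0 (wds g pf_W) 2 3 ∧ Nat.card (gen (wds g pf_W) 2) = 3 ^ 2 :=
  have := M.fin
  pc0c ((pf_sm M).1.pc0 (by decide) pf_p) (pf_low M) (pf_sm M).1.inj (fun k => evA_mem_gen _ (nth_lt pf_e k)) pf_c.1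
theorem co4 : ∀ i < 4, (comEnt Tm Tm 4 B1 co4U co4V) i = 0 := allZ_sound0 co4_0
theorem wix_act {G Ω : Type*} [Group G] [MulAction G Ω] {g : ℕ → G} {pt : ℕ → Ω} {c : ℕ}
    (M : Md g pt Tm 13920 6 B1 c) : Act (wds g wix_W) pt wix_P 13920 3 :=
  M.wact wix_lt
theorem with_act {G Ω : Type*} [Group G] [MulAction G Ω] {g : ℕ → G} {pt : ℕ → Ω} {c : ℕ}
    (M : Md g pt Tm 13920 6 B1 c) : Act (wds g with_W) pt with_P 13920 12 :=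
  M.wact with_lt
theorem witl0_e : ∀ i < 479, (dent witl0 with_P (nat_lit 13920)) i = 0 := allZ_sound0 witl0_e_0
theorem witl0_ok : DOK witl0 with_P 13920 := ⟨witl0_h, witl0_e⟩
theorem witl1_e : ∀ i < 55, (dent witl1 with_P (nat_lit 13920)) i = 0 := allZ_sound0 witl1_e_0
theorem witl1_ok : DOK witl1 with_P 13920 := ⟨witl1_h, witl1_e⟩
theorem witl2_e : ∀ i < 5, (dent witl2 with_P (nat_lit 13920)) i = 0 := allZ_sound0 witl2_e_0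
theorem witl2_ok : DOK witl2 with_P 13920 := ⟨witl2_h, witl2_e⟩
theorem witl3_e : ∀ i < 1, (dent witl3 with_P (nat_lit 13920)) i = 0 := allZ_sound0 witl3_e_0
theorem witl3_ok : DOK witl3 with_P 13920 := ⟨witl3_h, witl3_e⟩
theorem wit_low {G Ω : Type*} [Group G] [MulAction G Ω] {g : ℕ → G} {pt : ℕ → Ω} {c : ℕ}
    (M : Md g pt Tm 13920 6 B1 c) : SLow (gi (wds g with_W)) pt 13920 [witl0, witl1, witl2, witl3] :=
  ((((SLow.nil).cons witl3_ok (with_act M) wit_f3).cons witl2_ok (with_act M) wit_f2).cons witl1_ok (with_act M) wit_f1).cons witl0_ok (with_act M) wit_f0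
theorem wit_S0 {G Ω : Type*} [Group G] [MulAction G Ω] {g : ℕ → G} {pt : ℕ → Ω}
    (M : Md g pt Tm 13920 6 B1 322560) : Stage ⊤ (wds g with_W) pt 13920 [witl0, witl1, witl2, witl3] [] :=
  M.stage (wit_low M) wit_c
theorem wit_S1 {G Ω : Type*} [Group G] [MulAction G Ω] {g : ℕ → G} {pt : ℕ → Ω}
    (M : Md g pt Tm 13920 6 B1 322560) : Stage ⊤ (wds g with_W) pt 13920 [witl1, witl2, witl3] [witl0.Pt 0] :=
  (wit_S0 M).next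
theorem wit_S2 {G Ω : Type*} [Group G] [MulAction G Ω] {g : ℕ → G} {pt : ℕ → Ω}
    (M : Md g pt Tm 13920 6 B1 322560) : Stage ⊤ (wds g with_W) pt 13920 [witl2, witl3] [witl1.Pt 0, witl0.Pt 0] :=
  (wit_S1 M).next
theorem wit_S3 {G Ω : Type*} [Group G] [MulAction G Ω] {g : ℕ → G} {pt : ℕ → Ω}
    (M : Md g pt Tm 13920 6 B1 322560) : Stage ⊤ (wds g with_W) pt 13920 [witl3] [witl2.Pt 0, witl1.Pt 0, witl0.Pt 0] :=
  (wit_S2 M).next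
theorem wit_S4 {G Ω : Type*} [Group G] [MulAction G Ω] {g : ℕ → G} {pt : ℕ → Ω}
    (M : Md g pt Tm 13920 6 B1 322560) : Stage ⊤ (wds g with_W) pt 13920 [] [witl3.Pt 0, witl2.Pt 0, witl1.Pt 0, witl0.Pt 0] :=
  (wit_S3 M).next
theorem wie_act {G Ω : Type*} [Group G] [MulAction G Ω] {g : ℕ → G} {pt : ℕ → Ω} {c : ℕ}
    (M : Md g pt Tm 13920 6 B1 c) : Act (wds g wie_W) pt wie_P 13920 2 :=
  M.wact wie_lt
theorem wic3_e : ∀ i < 1, (dent wic3 wie_P (nat_lit 13920)) i = 0 := allZ_sound0 wic3_e_0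
theorem wic3_ok : DOK wic3 wie_P 13920 := ⟨wic3_h, wic3_e⟩
theorem witn0_1 : ∀ i < 2, (witn0.ent Tm with_P wix_P wix_P wie_P (nat_lit 6) (nat_lit 3) B1 witl3 [] (memO wic3)) i = 0 := allZ_sound0 witn0_1_0
theorem witn0_t {G Ω : Type*} [Group G] [MulAction G Ω] {g : ℕ → G} {pt : ℕ → Ω}
    (M : Md g pt Tm 13920 6 B1 322560) : TrO (gen (wds g with_W) witl3.K) (wds g wix_W) (wds g wix_W) 3 pt 13920 (witl3.Pt 0) (memO wic3) :=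
  node M (wit_S3 M) (with_act M) (wix_act M) (wix_act M) witn0 ((wie_act M).mono (by decide)) (fun _ _ => trivial) witn0_0 witn0_1 (List.forall_mem_nil _)
theorem wic0_e : ∀ i < 1, (dent wic0 wie_P (nat_lit 13920)) i = 0 := allZ_sound0 wic0_e_0
theorem wic0_ok : DOK wic0 wie_P 13920 := ⟨wic0_h, wic0_e⟩
theorem witn1y2385_act {G Ω : Type*} [Group G] [MulAction G Ω] {g : ℕ → G} {pt : ℕ → Ω} {c : ℕ}
    (M : Md g pt Tm 13920 6 B1 c) : Act (wds g witn1y2385_W) pt witn1y2385_P 13920 3 :=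
  M.wact witn1y2385_lt
theorem witr2k_act {G Ω : Type*} [Group G] [MulAction G Ω] {g : ℕ → G} {pt : ℕ → Ω} {c : ℕ}
    (M : Md g pt Tm 13920 6 B1 c) : Act (wds g witr2k_W) pt witr2k_P 13920 2 :=
  M.wact witr2k_lt
theorem witn2_1 : ∀ i < 2, (witn2.ent Tm with_P wix_P witn1y2385_P witr2k_P (nat_lit 6) (nat_lit 3) B1 witl3 [] (fun _ => nat_lit 1)) i = 0 := allZ_sound0 witn2_1_0
theorem witn2_t {G Ω : Type*} [Group G] [MulAction G Ω] {g : ℕ → G} {pt : ℕ → Ω}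
    (M : Md g pt Tm 13920 6 B1 322560) : TrO (gen (wds g with_W) witl3.K) (wds g wix_W) (wds g witn1y2385_W) 3 pt 13920 (witl3.Pt 0) (fun _ => nat_lit 1) :=
  node M (wit_S3 M) (with_act M) (wix_act M) (witn1y2385_act M) witn2 ((witr2k_act M).mono (by decide)) (fun _ _ => trivial) witn2_0 witn2_1 (List.forall_mem_nil _)
theorem witr2 {G Ω : Type*} [Group G] [MulAction G Ω] {g : ℕ → G} {pt : ℕ → Ω}
    (M : Md g pt Tm 13920 6 B1 322560) : Ref (gen (wds g with_W) (topK [witl3])) (wds g wix_W) (wds g witn1y2385_W) 3 :=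
  (witn2_t M).ref
theorem witn1_1 : ∀ i < 480, (witn1.ent Tm with_P wix_P wix_P wie_P (nat_lit 6) (nat_lit 3) B1 witl0 [witl1, witl2, witl3] (memO wic0)) i = 0 := allZ_sound0 witn1_1_0
theorem witn1_t {G Ω : Type*} [Group G] [MulAction G Ω] {g : ℕ → G} {pt : ℕ → Ω}
    (M : Md g pt Tm 13920 6 B1 322560) : TrO (gen (wds g with_W) witl0.K) (wds g wix_W) (wds g wix_W) 3 pt 13920 (witl0.Pt 0) (memO wic0) :=
  node M (wit_S0 M) (with_act M) (wix_act M) (wix_act M) witn1 ((wie_act M).mono (by decide)) (fun _ _ => trivial) witn1_0 witn1_1 (List.forall_mem_cons.2 ⟨witr2 M, List.forall_mem_nil _⟩)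
theorem wi {G Ω : Type*} [Group G] [MulAction G Ω] {g : ℕ → G} {pt : ℕ → Ω}
    (M : Md g pt Tm 13920 6 B1 322560) : Cen ⊤ (wds g wix_W) 3 (wds g wie_W) pt 13920 [wic0, wic3] :=
  (wit_S0 M).top ▸ Cen.lev M (wit_S0 M) (Cen.triv (wit_S1 M) (Cen.triv (wit_S2 M) (Cen.lev M (wit_S3 M) (Cen.bot) (witn0_t M) (wix_act M) (wie_act M) (fun _ _ => trivial) wic3_ok wi_f3) (forced (wit_S2 M) (with_act M) (wix_act M) _ _ wi_f2)) (forced (wit_S1 M) (with_act M) (wix_act M) _ _ wi_f1)) (witn1_t M) (wix_act M) (wie_act M) (fun _ _ => trivial) wic0_ok wi_f0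
theorem wi_eq {G Ω : Type*} [Group G] [MulAction G Ω] {g : ℕ → G} {pt : ℕ → Ω}
    (M : Md g pt Tm 13920 6 B1 322560) : Subgroup.centralizer (gen (wds g wix_W) 3) = gen (wds g wie_W) 2 ∧ Nat.card (gen (wds g wie_W) 2) = 4 :=
  wi_c.1 ▸ wi_c.2 ▸ ⟨(wi M).cent, (wi M).card M.inj⟩
theorem en6a : ∀ k < 2, ∀ i < 4, (tupEnt wie_P en6T en6N (nat_lit 13920) (nat_lit 4) (nat_lit 3)) k i = 0 := allZ2_sound en6a_a
theorem en6b : ∀ i < 4, (enEnt wie_P en6T en6W (nat_lit 3)) i = 0 := allZ_sound0 en6b_0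
theorem cl7 : ∀ i < 4, (clEnt wie_P (wdsP Tm wW) 67 68 B1 cl7L en6W) i = 0 := allZ_sound0 cl7_0
theorem cl7g {G Ω : Type*} [Group G] [MulAction G Ω] {pt : ℕ → Ω} {w : ℕ → G} (S : Bm G pt 13920 B1) (hw : Act w pt (wdsP Tm wW) 13920 68) {x : ℕ → G}
    (e : En x 2 en6W 4) (hx : Act x pt wie_P 13920 2) : ∀ v ∈ gen x 2,
    v = 1 ∨ v = w 0 ∨ v = w 9 ∨ v = w 0 * w 9 := S.cls e hx hw en6c.2.1 cl7
theorem bix_act {G Ω : Type*} [Group G] [MulAction G Ω] {g : ℕ → G} {pt : ℕ → Ω} {c : ℕ}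
    (M : Md g pt Tm 13920 6 B1 c) : Act (wds g bix_W) pt bix_P 13920 3 :=
  M.wact bix_lt
theorem bith_act {G Ω : Type*} [Group G] [MulAction G Ω] {g : ℕ → G} {pt : ℕ → Ω} {c : ℕ}
    (M : Md g pt Tm 13920 6 B1 c) : Act (wds g bith_W) pt bith_P 13920 11 :=
  M.wact bith_lt
theorem bitl0_e : ∀ i < 479, (dent bitl0 bith_P (nat_lit 13920)) i = 0 := allZ_sound0 bitl0_e_0
theorem bitl0_ok : DOK bitl0 bith_P 13920 := ⟨bitl0_h, bitl0_e⟩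
theorem bitl1_e : ∀ i < 20, (dent bitl1 bith_P (nat_lit 13920)) i = 0 := allZ_sound0 bitl1_e_0
theorem bitl1_ok : DOK bitl1 bith_P 13920 := ⟨bitl1_h, bitl1_e⟩
theorem bitl2_e : ∀ i < 15, (dent bitl2 bith_P (nat_lit 13920)) i = 0 := allZ_sound0 bitl2_e_0
theorem bitl2_ok : DOK bitl2 bith_P 13920 := ⟨bitl2_h, bitl2_e⟩
theorem bitl3_e : ∀ i < 1, (dent bitl3 bith_P (nat_lit 13920)) i = 0 := allZ_sound0 bitl3_e_0
theorem bitl3_ok : DOK bitl3 bith_P 13920 := ⟨bitl3_h, bitl3_e⟩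
theorem bit_low {G Ω : Type*} [Group G] [MulAction G Ω] {g : ℕ → G} {pt : ℕ → Ω} {c : ℕ}
    (M : Md g pt Tm 13920 6 B1 c) : SLow (gi (wds g bith_W)) pt 13920 [bitl0, bitl1, bitl2, bitl3] :=
  ((((SLow.nil).cons bitl3_ok (bith_act M) bit_f3).cons bitl2_ok (bith_act M) bit_f2).cons bitl1_ok (bith_act M) bit_f1).cons bitl0_ok (bith_act M) bit_f0
theorem bit_S0 {G Ω : Type*} [Group G] [MulAction G Ω] {g : ℕ → G} {pt : ℕ → Ω}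
    (M : Md g pt Tm 13920 6 B1 322560) : Stage ⊤ (wds g bith_W) pt 13920 [bitl0, bitl1, bitl2, bitl3] [] :=
  M.stage (bit_low M) bit_c
theorem bit_S1 {G Ω : Type*} [Group G] [MulAction G Ω] {g : ℕ → G} {pt : ℕ → Ω}
    (M : Md g pt Tm 13920 6 B1 322560) : Stage ⊤ (wds g bith_W) pt 13920 [bitl1, bitl2, bitl3] [bitl0.Pt 0] :=
  (bit_S0 M).next
theorem bit_S2 {G Ω : Type*} [Group G] [MulAction G Ω] {g : ℕ → G} {pt : ℕ → Ω}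
    (M : Md g pt Tm 13920 6 B1 322560) : Stage ⊤ (wds g bith_W) pt 13920 [bitl2, bitl3] [bitl1.Pt 0, bitl0.Pt 0] :=
  (bit_S1 M).next
theorem bit_S3 {G Ω : Type*} [Group G] [MulAction G Ω] {g : ℕ → G} {pt : ℕ → Ω}
    (M : Md g pt Tm 13920 6 B1 322560) : Stage ⊤ (wds g bith_W) pt 13920 [bitl3] [bitl2.Pt 0, bitl1.Pt 0, bitl0.Pt 0] :=
  (bit_S2 M).next
theorem bit_S4 {G Ω : Type*} [Group G] [MulAction G Ω] {g : ℕ → G} {pt : ℕ → Ω}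
    (M : Md g pt Tm 13920 6 B1 322560) : Stage ⊤ (wds g bith_W) pt 13920 [] [bitl3.Pt 0, bitl2.Pt 0, bitl1.Pt 0, bitl0.Pt 0] :=
  (bit_S3 M).next
theorem bie_act {G Ω : Type*} [Group G] [MulAction G Ω] {g : ℕ → G} {pt : ℕ → Ω} {c : ℕ}
    (M : Md g pt Tm 13920 6 B1 c) : Act (wds g bie_W) pt bie_P 13920 2 :=
  M.wact bie_lt
theorem bic3_e : ∀ i < 1, (dent bic3 bie_P (nat_lit 13920)) i = 0 := allZ_sound0 bic3_e_0
theorem bic3_ok : DOK bic3 bie_P 13920 := ⟨bic3_h, bic3_e⟩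
theorem bitn0_1 : ∀ i < 2, (bitn0.ent Tm bith_P bix_P bix_P bie_P (nat_lit 6) (nat_lit 3) B1 bitl3 [] (memO bic3)) i = 0 := allZ_sound0 bitn0_1_0
theorem bitn0_t {G Ω : Type*} [Group G] [MulAction G Ω] {g : ℕ → G} {pt : ℕ → Ω}
    (M : Md g pt Tm 13920 6 B1 322560) : TrO (gen (wds g bith_W) bitl3.K) (wds g bix_W) (wds g bix_W) 3 pt 13920 (bitl3.Pt 0) (memO bic3) :=
  node M (bit_S3 M) (bith_act M) (bix_act M) (bix_act M) bitn0 ((bie_act M).mono (by decide)) (fun _ _ => trivial) bitn0_0 bitn0_1 (List.forall_mem_nil _)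
theorem bic0_e : ∀ i < 1, (dent bic0 bie_P (nat_lit 13920)) i = 0 := allZ_sound0 bic0_e_0
theorem bic0_ok : DOK bic0 bie_P 13920 := ⟨bic0_h, bic0_e⟩
theorem bitn1y5817_act {G Ω : Type*} [Group G] [MulAction G Ω] {g : ℕ → G} {pt : ℕ → Ω} {c : ℕ}
    (M : Md g pt Tm 13920 6 B1 c) : Act (wds g bitn1y5817_W) pt bitn1y5817_P 13920 3 :=
  M.wact bitn1y5817_lt
theorem bitr2k_act {G Ω : Type*} [Group G] [MulAction G Ω] {g : ℕ → G} {pt : ℕ → Ω} {c : ℕ}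
    (M : Md g pt Tm 13920 6 B1 c) : Act (wds g bitr2k_W) pt bitr2k_P 13920 2 :=
  M.wact bitr2k_lt
theorem bitn2_1 : ∀ i < 2, (bitn2.ent Tm bith_P bix_P bitn1y5817_P bitr2k_P (nat_lit 6) (nat_lit 3) B1 bitl3 [] (fun _ => nat_lit 1)) i = 0 := allZ_sound0 bitn2_1_0
theorem bitn2_t {G Ω : Type*} [Group G] [MulAction G Ω] {g : ℕ → G} {pt : ℕ → Ω}
    (M : Md g pt Tm 13920 6 B1 322560) : TrO (gen (wds g bith_W) bitl3.K) (wds g bix_W) (wds g bitn1y5817_W) 3 pt 13920 (bitl3.Pt 0) (fun _ => nat_lit 1) :=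
  node M (bit_S3 M) (bith_act M) (bix_act M) (bitn1y5817_act M) bitn2 ((bitr2k_act M).mono (by decide)) (fun _ _ => trivial) bitn2_0 bitn2_1 (List.forall_mem_nil _)
theorem bitr2 {G Ω : Type*} [Group G] [MulAction G Ω] {g : ℕ → G} {pt : ℕ → Ω}
    (M : Md g pt Tm 13920 6 B1 322560) : Ref (gen (wds g bith_W) (topK [bitl3])) (wds g bix_W) (wds g bitn1y5817_W) 3 :=
  (bitn2_t M).ref
theorem bitn1_1 : ∀ i < 480, (bitn1.ent Tm bith_P bix_P bix_P bie_P (nat_lit 6) (nat_lit 3) B1 bitl0 [bitl1, bitl2, bitl3] (memO bic0)) i = 0 := allZ_sound0 bitn1_1_0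
theorem bitn1_t {G Ω : Type*} [Group G] [MulAction G Ω] {g : ℕ → G} {pt : ℕ → Ω}
    (M : Md g pt Tm 13920 6 B1 322560) : TrO (gen (wds g bith_W) bitl0.K) (wds g bix_W) (wds g bix_W) 3 pt 13920 (bitl0.Pt 0) (memO bic0) :=
  node M (bit_S0 M) (bith_act M) (bix_act M) (bix_act M) bitn1 ((bie_act M).mono (by decide)) (fun _ _ => trivial) bitn1_0 bitn1_1 (List.forall_mem_cons.2 ⟨bitr2 M, List.forall_mem_nil _⟩)
theorem bi {G Ω : Type*} [Group G] [MulAction G Ω] {g : ℕ → G} {pt : ℕ → Ω}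
    (M : Md g pt Tm 13920 6 B1 322560) : Cen ⊤ (wds g bix_W) 3 (wds g bie_W) pt 13920 [bic0, bic3] :=
  (bit_S0 M).top ▸ Cen.lev M (bit_S0 M) (Cen.triv (bit_S1 M) (Cen.triv (bit_S2 M) (Cen.lev M (bit_S3 M) (Cen.bot) (bitn0_t M) (bix_act M) (bie_act M) (fun _ _ => trivial) bic3_ok bi_f3) (forced (bit_S2 M) (bith_act M) (bix_act M) _ _ bi_f2)) (forced (bit_S1 M) (bith_act M) (bix_act M) _ _ bi_f1)) (bitn1_t M) (bix_act M) (bie_act M) (fun _ _ => trivial) bic0_ok bi_f0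
theorem bi_eq {G Ω : Type*} [Group G] [MulAction G Ω] {g : ℕ → G} {pt : ℕ → Ω}
    (M : Md g pt Tm 13920 6 B1 322560) : Subgroup.centralizer (gen (wds g bix_W) 3) = gen (wds g bie_W) 2 ∧ Nat.card (gen (wds g bie_W) 2) = 4 :=
  bi_c.1 ▸ bi_c.2 ▸ ⟨(bi M).cent, (bi M).card M.inj⟩
theorem en9a : ∀ k < 2, ∀ i < 4, (tupEnt bie_P en9T en9N (nat_lit 13920) (nat_lit 4) (nat_lit 3)) k i = 0 := allZ2_sound en9a_a
theorem en9b : ∀ i < 4, (enEnt bie_P en9T en9W (nat_lit 3)) i = 0 := allZ_sound0 en9b_0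
theorem cl10 : ∀ i < 4, (clEnt (wdsP (wdsP P mW) bie_W) (catP (wdsP P wG) 67 (wdsP P uW)) 95 (67 + 29) H16.TON.B cl10L en9W) i = 0 := allZ_sound0 cl10_0
theorem cl10g {G Ω : Type*} [Group G] [MulAction G Ω] {pt : ℕ → Ω} {w u : ℕ → G} (S : Bm G pt 245520 H16.TON.B) (hw : Act (cat w 67 u) pt (catP (wdsP P wG) 67 (wdsP P uW)) 245520 (67 + 29)) {x : ℕ → G}
    (e : En x 2 en9W 4) (hx : Act x pt (wdsP (wdsP P mW) bie_W) 245520 2) : ∀ v ∈ gen x 2,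
    u 5 * v ≠ v * w 15 * w 9 * u 5 := S.cls e hx hw en9c.2.1 cl10
theorem wzpx_act {G Ω : Type*} [Group G] [MulAction G Ω] {g : ℕ → G} {pt : ℕ → Ω} {c : ℕ}
    (M : Md g pt Tm 13920 6 B1 c) : Act (wds g wzpx_W) pt wzpx_P 13920 3 :=
  M.wact wzpx_lt
theorem wzpth_act {G Ω : Type*} [Group G] [MulAction G Ω] {g : ℕ → G} {pt : ℕ → Ω} {c : ℕ}
    (M : Md g pt Tm 13920 6 B1 c) : Act (wds g wzpth_W) pt wzpth_P 13920 12 :=
  M.wact wzpth_lt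
theorem wzptl0_e : ∀ i < 479, (dent wzptl0 wzpth_P (nat_lit 13920)) i = 0 := allZ_sound0 wzptl0_e_0
theorem wzptl0_ok : DOK wzptl0 wzpth_P 13920 := ⟨wzptl0_h, wzptl0_e⟩
theorem wzptl1_e : ∀ i < 20, (dent wzptl1 wzpth_P (nat_lit 13920)) i = 0 := allZ_sound0 wzptl1_e_0
theorem wzptl1_ok : DOK wzptl1 wzpth_P 13920 := ⟨wzptl1_h, wzptl1_e⟩
theorem wzptl2_e : ∀ i < 7, (dent wzptl2 wzpth_P (nat_lit 13920)) i = 0 := allZ_sound0 wzptl2_e_0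
theorem wzptl2_ok : DOK wzptl2 wzpth_P 13920 := ⟨wzptl2_h, wzptl2_e⟩
theorem wzptl3_e : ∀ i < 3, (dent wzptl3 wzpth_P (nat_lit 13920)) i = 0 := allZ_sound0 wzptl3_e_0
theorem wzptl3_ok : DOK wzptl3 wzpth_P 13920 := ⟨wzptl3_h, wzptl3_e⟩
theorem wzpt_low {G Ω : Type*} [Group G] [MulAction G Ω] {g : ℕ → G} {pt : ℕ → Ω} {c : ℕ}
    (M : Md g pt Tm 13920 6 B1 c) : SLow (gi (wds g wzpth_W)) pt 13920 [wzptl0, wzptl1, wzptl2, wzptl3] :=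
  ((((SLow.nil).cons wzptl3_ok (wzpth_act M) wzpt_f3).cons wzptl2_ok (wzpth_act M) wzpt_f2).cons wzptl1_ok (wzpth_act M) wzpt_f1).cons wzptl0_ok (wzpth_act M) wzpt_f0
theorem wzpt_S0 {G Ω : Type*} [Group G] [MulAction G Ω] {g : ℕ → G} {pt : ℕ → Ω}
    (M : Md g pt Tm 13920 6 B1 322560) : Stage ⊤ (wds g wzpth_W) pt 13920 [wzptl0, wzptl1, wzptl2, wzptl3] [] :=
  M.stage (wzpt_low M) wzpt_c
theorem wzpt_S1 {G Ω : Type*} [Group G] [MulAction G Ω] {g : ℕ → G} {pt : ℕ → Ω}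
    (M : Md g pt Tm 13920 6 B1 322560) : Stage ⊤ (wds g wzpth_W) pt 13920 [wzptl1, wzptl2, wzptl3] [wzptl0.Pt 0] :=
  (wzpt_S0 M).next
theorem wzpt_S2 {G Ω : Type*} [Group G] [MulAction G Ω] {g : ℕ → G} {pt : ℕ → Ω}
    (M : Md g pt Tm 13920 6 B1 322560) : Stage ⊤ (wds g wzpth_W) pt 13920 [wzptl2, wzptl3] [wzptl1.Pt 0, wzptl0.Pt 0] :=
  (wzpt_S1 M).next
theorem wzpt_S3 {G Ω : Type*} [Group G] [MulAction G Ω] {g : ℕ → G} {pt : ℕ → Ω}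
    (M : Md g pt Tm 13920 6 B1 322560) : Stage ⊤ (wds g wzpth_W) pt 13920 [wzptl3] [wzptl2.Pt 0, wzptl1.Pt 0, wzptl0.Pt 0] :=
  (wzpt_S2 M).next
theorem wzpt_S4 {G Ω : Type*} [Group G] [MulAction G Ω] {g : ℕ → G} {pt : ℕ → Ω}
    (M : Md g pt Tm 13920 6 B1 322560) : Stage ⊤ (wds g wzpth_W) pt 13920 [] [wzptl3.Pt 0, wzptl2.Pt 0, wzptl1.Pt 0, wzptl0.Pt 0] :=
  (wzpt_S3 M).next
theorem wzpe_act {G Ω : Type*} [Group G] [MulAction G Ω] {g : ℕ → G} {pt : ℕ → Ω} {c : ℕ}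
    (M : Md g pt Tm 13920 6 B1 c) : Act (wds g wzpe_W) pt wzpe_P 13920 2 :=
  M.wact wzpe_lt
theorem wzpc3_e : ∀ i < 1, (dent wzpc3 wzpe_P (nat_lit 13920)) i = 0 := allZ_sound0 wzpc3_e_0
theorem wzpc3_ok : DOK wzpc3 wzpe_P 13920 := ⟨wzpc3_h, wzpc3_e⟩
theorem wzptn0_1 : ∀ i < 4, (wzptn0.ent Tm wzpth_P wzpx_P wzpx_P wzpe_P (nat_lit 6) (nat_lit 3) B1 wzptl3 [] (memO wzpc3)) i = 0 := allZ_sound0 wzptn0_1_0
theorem wzptn0_t {G Ω : Type*} [Group G] [MulAction G Ω] {g : ℕ → G} {pt : ℕ → Ω}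
    (M : Md g pt Tm 13920 6 B1 322560) : TrO (gen (wds g wzpth_W) wzptl3.K) (wds g wzpx_W) (wds g wzpx_W) 3 pt 13920 (wzptl3.Pt 0) (memO wzpc3) :=
  node M (wzpt_S3 M) (wzpth_act M) (wzpx_act M) (wzpx_act M) wzptn0 ((wzpe_act M).mono (by decide)) (fun _ _ => trivial) wzptn0_0 wzptn0_1 (List.forall_mem_nil _)
theorem wzpc0_e : ∀ i < 1, (dent wzpc0 wzpe_P (nat_lit 13920)) i = 0 := allZ_sound0 wzpc0_e_0
theorem wzpc0_ok : DOK wzpc0 wzpe_P 13920 := ⟨wzpc0_h, wzpc0_e⟩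
theorem wzptn1_1 : ∀ i < 480, (wzptn1.ent Tm wzpth_P wzpx_P wzpx_P wzpe_P (nat_lit 6) (nat_lit 3) B1 wzptl0 [wzptl1, wzptl2, wzptl3] (memO wzpc0)) i = 0 := allZ_sound0 wzptn1_1_0
theorem wzptn1_t {G Ω : Type*} [Group G] [MulAction G Ω] {g : ℕ → G} {pt : ℕ → Ω}
    (M : Md g pt Tm 13920 6 B1 322560) : TrO (gen (wds g wzpth_W) wzptl0.K) (wds g wzpx_W) (wds g wzpx_W) 3 pt 13920 (wzptl0.Pt 0) (memO wzpc0) :=
  node M (wzpt_S0 M) (wzpth_act M) (wzpx_act M) (wzpx_act M) wzptn1 ((wzpe_act M).mono (by decide)) (fun _ _ => trivial) wzptn1_0 wzptn1_1 (List.forall_mem_nil _)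
theorem wzp {G Ω : Type*} [Group G] [MulAction G Ω] {g : ℕ → G} {pt : ℕ → Ω}
    (M : Md g pt Tm 13920 6 B1 322560) : Cen ⊤ (wds g wzpx_W) 3 (wds g wzpe_W) pt 13920 [wzpc0, wzpc3] :=
  (wzpt_S0 M).top ▸ Cen.lev M (wzpt_S0 M) (Cen.triv (wzpt_S1 M) (Cen.triv (wzpt_S2 M) (Cen.lev M (wzpt_S3 M) (Cen.bot) (wzptn0_t M) (wzpx_act M) (wzpe_act M) (fun _ _ => trivial) wzpc3_ok wzp_f3) (forced (wzpt_S2 M) (wzpth_act M) (wzpx_act M) _ _ wzp_f2)) (forced (wzpt_S1 M) (wzpth_act M) (wzpx_act M) _ _ wzp_f1)) (wzptn1_t M) (wzpx_act M) (wzpe_act M) (fun _ _ => trivial) wzpc0_ok wzp_f0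
theorem wzp_eq {G Ω : Type*} [Group G] [MulAction G Ω] {g : ℕ → G} {pt : ℕ → Ω}
    (M : Md g pt Tm 13920 6 B1 322560) : Subgroup.centralizer (gen (wds g wzpx_W) 3) = gen (wds g wzpe_W) 2 ∧ Nat.card (gen (wds g wzpe_W) 2) = 4 :=
  wzp_c.1 ▸ wzp_c.2 ▸ ⟨(wzp M).cent, (wzp M).card M.inj⟩
theorem en12a : ∀ k < 2, ∀ i < 4, (tupEnt wzpe_P en12T en12N (nat_lit 13920) (nat_lit 4) (nat_lit 3)) k i = 0 := allZ2_sound en12a_a
theorem en12b : ∀ i < 4, (enEnt wzpe_P en12T en12W (nat_lit 3)) i = 0 := allZ_sound0 en12b_0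
theorem cl13 : ∀ i < 4, (clEnt wzpe_P (wdsP Tm wW) 67 68 B1 cl13L en12W) i = 0 := allZ_sound0 cl13_0
theorem cl13g {G Ω : Type*} [Group G] [MulAction G Ω] {pt : ℕ → Ω} {w : ℕ → G} (S : Bm G pt 13920 B1) (hw : Act w pt (wdsP Tm wW) 13920 68) {x : ℕ → G}
    (e : En x 2 en12W 4) (hx : Act x pt wzpe_P 13920 2) : ∀ v ∈ gen x 2,
    v = 1 ∨ v = w 0 ∨ v = w 1 ∨ v = w 0 * w 1 := S.cls e hx hw en12c.2.1 cl13
theorem le23 : ∀ i < 10, (leEnt (pk (catP (wdsP P wG) 67 (wdsP P uW)) [0, 82, 83]) P 3 H16.TON.B le23W) i = 0 := allZ_sound0 le23_0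
theorem covr_act {G Ω : Type*} [Group G] [MulAction G Ω] {g : ℕ → G} {pt : ℕ → Ω} {c : ℕ}
    (M : Md g pt Tm 13920 6 B1 c) : Act (wds g covr_W) pt covr_P 13920 5 :=
  M.wact covr_lt
theorem cov_0 {G Ω : Type*} [Group G] [MulAction G Ω] {g : ℕ → G} {pt : ℕ → Ω}
    (M : Md g pt Tm 13920 6 B1 322560) : H0.TR.Cov (wds g t_W) (wds g covr_W) 2 5 10 (evA (wds g t_W) []) :=
  have := M.fin
  covT0.cov M (t_sm M).1 (t_sm M).2 (covr_act M) (t_pc M) _ _ cov_c0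
theorem cov {G Ω : Type*} [Group G] [MulAction G Ω] {g : ℕ → G} {pt : ℕ → Ω}
    (M : Md g pt Tm 13920 6 B1 322560) {y : G} {e : ℕ} (hy : y ^ 2 ^ e = 1) (hq : y ^ 2 = 1) : Good (wds g covr_W) 5 y :=
  have := M.fin
  H0.TR.Cov.all (t_pc M) (cov_0 M) hy hq
theorem cj_act {G Ω : Type*} [Group G] [MulAction G Ω] {g : ℕ → G} {pt : ℕ → Ω}
    (M : Md g pt P 245520 11 H16.TON.B 921631011840) : Act (wds g cj_W) pt cj_P 245520 5 :=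
  M.wact cj_lt
theorem cjk : ∀ i < 5, (cjEnt cj_P (wdsP (wdsP P mW) covr_W) (pk (catP (wdsP P wG) 67 (wdsP P uW)) [0, 0, 66, 66]) 4 H16.TON.B [nat_lit 0, nat_lit 0, nat_lit 0, nat_lit 2, nat_lit 2]) i = 0 := allZ_sound0 cjk_0
theorem cfx_act {G Ω : Type*} [Group G] [MulAction G Ω] {g : ℕ → G} {pt : ℕ → Ω} {c : ℕ}
    (M : Md g pt Tm 13920 6 B1 c) : Act (wds g cfx_W) pt cfx_P 13920 1 :=
  M.wact cfx_lt
theorem cfth_act {G Ω : Type*} [Group G] [MulAction G Ω] {g : ℕ → G} {pt : ℕ → Ω} {c : ℕ}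
    (M : Md g pt Tm 13920 6 B1 c) : Act (wds g cfth_W) pt cfth_P 13920 13 :=
  M.wact cfth_lt
theorem cftl0_e : ∀ i < 479, (dent cftl0 cfth_P (nat_lit 13920)) i = 0 := allZ_sound0 cftl0_e_0
theorem cftl0_ok : DOK cftl0 cfth_P 13920 := ⟨cftl0_h, cftl0_e⟩
theorem cftl1_e : ∀ i < 41, (dent cftl1 cfth_P (nat_lit 13920)) i = 0 := allZ_sound0 cftl1_e_0
theorem cftl1_ok : DOK cftl1 cfth_P 13920 := ⟨cftl1_h, cftl1_e⟩
theorem cftl2_e : ∀ i < 1, (dent cftl2 cfth_P (nat_lit 13920)) i = 0 := allZ_sound0 cftl2_e_0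
theorem cftl2_ok : DOK cftl2 cfth_P 13920 := ⟨cftl2_h, cftl2_e⟩
theorem cftl3_e : ∀ i < 1, (dent cftl3 cfth_P (nat_lit 13920)) i = 0 := allZ_sound0 cftl3_e_0
theorem cftl3_ok : DOK cftl3 cfth_P 13920 := ⟨cftl3_h, cftl3_e⟩
theorem cftl4_e : ∀ i < 1, (dent cftl4 cfth_P (nat_lit 13920)) i = 0 := allZ_sound0 cftl4_e_0
theorem cftl4_ok : DOK cftl4 cfth_P 13920 := ⟨cftl4_h, cftl4_e⟩
theorem cftl5_e : ∀ i < 1, (dent cftl5 cfth_P (nat_lit 13920)) i = 0 := allZ_sound0 cftl5_e_0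
theorem cftl5_ok : DOK cftl5 cfth_P 13920 := ⟨cftl5_h, cftl5_e⟩
theorem cft_low {G Ω : Type*} [Group G] [MulAction G Ω] {g : ℕ → G} {pt : ℕ → Ω} {c : ℕ}
    (M : Md g pt Tm 13920 6 B1 c) : SLow (gi (wds g cfth_W)) pt 13920 [cftl0, cftl1, cftl2, cftl3, cftl4, cftl5] :=
  ((((((SLow.nil).cons cftl5_ok (cfth_act M) cft_f5).cons cftl4_ok (cfth_act M) cft_f4).cons cftl3_ok (cfth_act M) cft_f3).cons cftl2_ok (cfth_act M) cft_f2).cons cftl1_ok (cfth_act M) cft_f1).cons cftl0_ok (cfth_act M) cft_f0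
theorem cft_S0 {G Ω : Type*} [Group G] [MulAction G Ω] {g : ℕ → G} {pt : ℕ → Ω}
    (M : Md g pt Tm 13920 6 B1 322560) : Stage ⊤ (wds g cfth_W) pt 13920 [cftl0, cftl1, cftl2, cftl3, cftl4, cftl5] [] :=
  M.stage (cft_low M) cft_c
theorem cft_S1 {G Ω : Type*} [Group G] [MulAction G Ω] {g : ℕ → G} {pt : ℕ → Ω}
    (M : Md g pt Tm 13920 6 B1 322560) : Stage ⊤ (wds g cfth_W) pt 13920 [cftl1, cftl2, cftl3, cftl4, cftl5] [cftl0.Pt 0] :=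
  (cft_S0 M).next
theorem cft_S2 {G Ω : Type*} [Group G] [MulAction G Ω] {g : ℕ → G} {pt : ℕ → Ω}
    (M : Md g pt Tm 13920 6 B1 322560) : Stage ⊤ (wds g cfth_W) pt 13920 [cftl2, cftl3, cftl4, cftl5] [cftl1.Pt 0, cftl0.Pt 0] :=
  (cft_S1 M).next
theorem cft_S3 {G Ω : Type*} [Group G] [MulAction G Ω] {g : ℕ → G} {pt : ℕ → Ω}
    (M : Md g pt Tm 13920 6 B1 322560) : Stage ⊤ (wds g cfth_W) pt 13920 [cftl3, cftl4, cftl5] [cftl2.Pt 0, cftl1.Pt 0, cftl0.Pt 0] :=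
  (cft_S2 M).next
theorem cft_S4 {G Ω : Type*} [Group G] [MulAction G Ω] {g : ℕ → G} {pt : ℕ → Ω}
    (M : Md g pt Tm 13920 6 B1 322560) : Stage ⊤ (wds g cfth_W) pt 13920 [cftl4, cftl5] [cftl3.Pt 0, cftl2.Pt 0, cftl1.Pt 0, cftl0.Pt 0] :=
  (cft_S3 M).next
theorem cft_S5 {G Ω : Type*} [Group G] [MulAction G Ω] {g : ℕ → G} {pt : ℕ → Ω}
    (M : Md g pt Tm 13920 6 B1 322560) : Stage ⊤ (wds g cfth_W) pt 13920 [cftl5] [cftl4.Pt 0, cftl3.Pt 0, cftl2.Pt 0, cftl1.Pt 0, cftl0.Pt 0] :=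
  (cft_S4 M).next
theorem cft_S6 {G Ω : Type*} [Group G] [MulAction G Ω] {g : ℕ → G} {pt : ℕ → Ω}
    (M : Md g pt Tm 13920 6 B1 322560) : Stage ⊤ (wds g cfth_W) pt 13920 [] [cftl5.Pt 0, cftl4.Pt 0, cftl3.Pt 0, cftl2.Pt 0, cftl1.Pt 0, cftl0.Pt 0] :=
  (cft_S5 M).next
theorem cfe_act {G Ω : Type*} [Group G] [MulAction G Ω] {g : ℕ → G} {pt : ℕ → Ω} {c : ℕ}
    (M : Md g pt Tm 13920 6 B1 c) : Act (wds g cfe_W) pt cfe_P 13920 5 :=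
  M.wact cfe_lt
theorem cfc5_e : ∀ i < 1, (dent cfc5 cfe_P (nat_lit 13920)) i = 0 := allZ_sound0 cfc5_e_0
theorem cfc5_ok : DOK cfc5 cfe_P 13920 := ⟨cfc5_h, cfc5_e⟩
theorem cftn0_1 : ∀ i < 2, (cftn0.ent Tm cfth_P cfx_P cfx_P cfe_P (nat_lit 6) (nat_lit 1) B1 cftl5 [] (memO cfc5)) i = 0 := allZ_sound0 cftn0_1_0
theorem cftn0_t {G Ω : Type*} [Group G] [MulAction G Ω] {g : ℕ → G} {pt : ℕ → Ω}
    (M : Md g pt Tm 13920 6 B1 322560) : TrO (gen (wds g cfth_W) cftl5.K) (wds g cfx_W) (wds g cfx_W) 1 pt 13920 (cftl5.Pt 0) (memO cfc5) :=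
  node M (cft_S5 M) (cfth_act M) (cfx_act M) (cfx_act M) cftn0 ((cfe_act M).mono (by decide)) (fun _ _ => trivial) cftn0_0 cftn0_1 (List.forall_mem_nil _)
theorem cftn1y14_act {G Ω : Type*} [Group G] [MulAction G Ω] {g : ℕ → G} {pt : ℕ → Ω} {c : ℕ}
    (M : Md g pt Tm 13920 6 B1 c) : Act (wds g cftn1y14_W) pt cftn1y14_P 13920 1 :=
  M.wact cftn1y14_lt
theorem cftr2k_act {G Ω : Type*} [Group G] [MulAction G Ω] {g : ℕ → G} {pt : ℕ → Ω} {c : ℕ}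
    (M : Md g pt Tm 13920 6 B1 c) : Act (wds g cftr2k_W) pt cftr2k_P 13920 2 :=
  M.wact cftr2k_lt
theorem cftn2_1 : ∀ i < 2, (cftn2.ent Tm cfth_P cfx_P cftn1y14_P cftr2k_P (nat_lit 6) (nat_lit 1) B1 cftl5 [] (fun _ => nat_lit 1)) i = 0 := allZ_sound0 cftn2_1_0
theorem cftn2_t {G Ω : Type*} [Group G] [MulAction G Ω] {g : ℕ → G} {pt : ℕ → Ω}
    (M : Md g pt Tm 13920 6 B1 322560) : TrO (gen (wds g cfth_W) cftl5.K) (wds g cfx_W) (wds g cftn1y14_W) 1 pt 13920 (cftl5.Pt 0) (fun _ => nat_lit 1) :=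
  node M (cft_S5 M) (cfth_act M) (cfx_act M) (cftn1y14_act M) cftn2 ((cftr2k_act M).mono (by decide)) (fun _ _ => trivial) cftn2_0 cftn2_1 (List.forall_mem_nil _)
theorem cftr2 {G Ω : Type*} [Group G] [MulAction G Ω] {g : ℕ → G} {pt : ℕ → Ω}
    (M : Md g pt Tm 13920 6 B1 322560) : Ref (gen (wds g cfth_W) (topK [cftl5])) (wds g cfx_W) (wds g cftn1y14_W) 1 :=
  (cftn2_t M).ref
theorem cftn1_1 : ∀ i < 2, (cftn1.ent Tm cfth_P cfx_P cfx_P cfe_P (nat_lit 6) (nat_lit 1) B1 cftl4 [cftl5] (fun w => Nat.xor w (cftl4.Pt (nat_lit 0)))) i = 0 := allZ_sound0 cftn1_1_0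
theorem cftn1_t {G Ω : Type*} [Group G] [MulAction G Ω] {g : ℕ → G} {pt : ℕ → Ω}
    (M : Md g pt Tm 13920 6 B1 322560) : TrO (gen (wds g cfth_W) cftl4.K) (wds g cfx_W) (wds g cfx_W) 1 pt 13920 (cftl4.Pt 0) (fun w => Nat.xor w (cftl4.Pt (nat_lit 0))) :=
  node M (cft_S4 M) (cfth_act M) (cfx_act M) (cfx_act M) cftn1 ((cfe_act M).mono (by decide)) (fun _ _ => trivial) cftn1_0 cftn1_1 (List.forall_mem_cons.2 ⟨cftr2 M, List.forall_mem_nil _⟩)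
theorem cfc3_e : ∀ i < 1, (dent cfc3 cfe_P (nat_lit 13920)) i = 0 := allZ_sound0 cfc3_e_0
theorem cfc3_ok : DOK cfc3 cfe_P 13920 := ⟨cfc3_h, cfc3_e⟩
theorem cftn3_1 : ∀ i < 2, (cftn3.ent Tm cfth_P cfx_P cfx_P cfe_P (nat_lit 6) (nat_lit 1) B1 cftl3 [cftl4, cftl5] (memO cfc3)) i = 0 := allZ_sound0 cftn3_1_0
theorem cftn3_t {G Ω : Type*} [Group G] [MulAction G Ω] {g : ℕ → G} {pt : ℕ → Ω}
    (M : Md g pt Tm 13920 6 B1 322560) : TrO (gen (wds g cfth_W) cftl3.K) (wds g cfx_W) (wds g cfx_W) 1 pt 13920 (cftl3.Pt 0) (memO cfc3) :=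
  node M (cft_S3 M) (cfth_act M) (cfx_act M) (cfx_act M) cftn3 ((cfe_act M).mono (by decide)) (fun _ _ => trivial) cftn3_0 cftn3_1 (List.forall_mem_nil _)
theorem cftn4y58_act {G Ω : Type*} [Group G] [MulAction G Ω] {g : ℕ → G} {pt : ℕ → Ω} {c : ℕ}
    (M : Md g pt Tm 13920 6 B1 c) : Act (wds g cftn4y58_W) pt cftn4y58_P 13920 1 :=
  M.wact cftn4y58_lt
theorem cftr5k_act {G Ω : Type*} [Group G] [MulAction G Ω] {g : ℕ → G} {pt : ℕ → Ω} {c : ℕ}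
    (M : Md g pt Tm 13920 6 B1 c) : Act (wds g cftr5k_W) pt cftr5k_P 13920 2 :=
  M.wact cftr5k_lt
theorem cftn5y1_act {G Ω : Type*} [Group G] [MulAction G Ω] {g : ℕ → G} {pt : ℕ → Ω} {c : ℕ}
    (M : Md g pt Tm 13920 6 B1 c) : Act (wds g cftn5y1_W) pt cftn5y1_P 13920 1 :=
  M.wact cftn5y1_lt
theorem cftr6k_act {G Ω : Type*} [Group G] [MulAction G Ω] {g : ℕ → G} {pt : ℕ → Ω} {c : ℕ}
    (M : Md g pt Tm 13920 6 B1 c) : Act (wds g cftr6k_W) pt cftr6k_P 13920 2 :=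
  M.wact cftr6k_lt
theorem cftn6_1 : ∀ i < 2, (cftn6.ent Tm cfth_P cfx_P cftn5y1_P cftr6k_P (nat_lit 6) (nat_lit 1) B1 cftl4 [cftl5] (fun _ => nat_lit 1)) i = 0 := allZ_sound0 cftn6_1_0
theorem cftn6_t {G Ω : Type*} [Group G] [MulAction G Ω] {g : ℕ → G} {pt : ℕ → Ω}
    (M : Md g pt Tm 13920 6 B1 322560) : TrO (gen (wds g cfth_W) cftl4.K) (wds g cfx_W) (wds g cftn5y1_W) 1 pt 13920 (cftl4.Pt 0) (fun _ => nat_lit 1) :=
  node M (cft_S4 M) (cfth_act M) (cfx_act M) (cftn5y1_act M) cftn6 ((cftr6k_act M).mono (by decide)) (fun _ _ => trivial) cftn6_0 cftn6_1 (List.forall_mem_nil _)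
theorem cftr6 {G Ω : Type*} [Group G] [MulAction G Ω] {g : ℕ → G} {pt : ℕ → Ω}
    (M : Md g pt Tm 13920 6 B1 322560) : Ref (gen (wds g cfth_W) (topK [cftl4, cftl5])) (wds g cfx_W) (wds g cftn5y1_W) 1 :=
  (cftn6_t M).ref
theorem cftn5_1 : ∀ i < 2, (cftn5.ent Tm cfth_P cfx_P cftn4y58_P cftr5k_P (nat_lit 6) (nat_lit 1) B1 cftl3 [cftl4, cftl5] (fun _ => nat_lit 1)) i = 0 := allZ_sound0 cftn5_1_0
theorem cftn5_t {G Ω : Type*} [Group G] [MulAction G Ω] {g : ℕ → G} {pt : ℕ → Ω}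
    (M : Md g pt Tm 13920 6 B1 322560) : TrO (gen (wds g cfth_W) cftl3.K) (wds g cfx_W) (wds g cftn4y58_W) 1 pt 13920 (cftl3.Pt 0) (fun _ => nat_lit 1) :=
  node M (cft_S3 M) (cfth_act M) (cfx_act M) (cftn4y58_act M) cftn5 ((cftr5k_act M).mono (by decide)) (fun _ _ => trivial) cftn5_0 cftn5_1 (List.forall_mem_cons.2 ⟨cftr6 M, List.forall_mem_nil _⟩)
theorem cftr5 {G Ω : Type*} [Group G] [MulAction G Ω] {g : ℕ → G} {pt : ℕ → Ω}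
    (M : Md g pt Tm 13920 6 B1 322560) : Ref (gen (wds g cfth_W) (topK [cftl3, cftl4, cftl5])) (wds g cfx_W) (wds g cftn4y58_W) 1 :=
  (cftn5_t M).ref
theorem cftn4_1 : ∀ i < 2, (cftn4.ent Tm cfth_P cfx_P cfx_P cfe_P (nat_lit 6) (nat_lit 1) B1 cftl2 [cftl3, cftl4, cftl5] (fun w => Nat.xor w (cftl2.Pt (nat_lit 0)))) i = 0 := allZ_sound0 cftn4_1_0
theorem cftn4_t {G Ω : Type*} [Group G] [MulAction G Ω] {g : ℕ → G} {pt : ℕ → Ω}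
    (M : Md g pt Tm 13920 6 B1 322560) : TrO (gen (wds g cfth_W) cftl2.K) (wds g cfx_W) (wds g cfx_W) 1 pt 13920 (cftl2.Pt 0) (fun w => Nat.xor w (cftl2.Pt (nat_lit 0))) :=
  node M (cft_S2 M) (cfth_act M) (cfx_act M) (cfx_act M) cftn4 ((cfe_act M).mono (by decide)) (fun _ _ => trivial) cftn4_0 cftn4_1 (List.forall_mem_cons.2 ⟨cftr5 M, List.forall_mem_nil _⟩)
theorem cfc0_e : ∀ i < 59, (dent cfc0 cfe_P (nat_lit 13920)) i = 0 := allZ_sound0 cfc0_e_0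
theorem cfc0_ok : DOK cfc0 cfe_P 13920 := ⟨cfc0_h, cfc0_e⟩
theorem cftn7y229_act {G Ω : Type*} [Group G] [MulAction G Ω] {g : ℕ → G} {pt : ℕ → Ω} {c : ℕ}
    (M : Md g pt Tm 13920 6 B1 c) : Act (wds g cftn7y229_W) pt cftn7y229_P 13920 1 :=
  M.wact cftn7y229_lt
theorem cftr8k_act {G Ω : Type*} [Group G] [MulAction G Ω] {g : ℕ → G} {pt : ℕ → Ω} {c : ℕ}
    (M : Md g pt Tm 13920 6 B1 c) : Act (wds g cftr8k_W) pt cftr8k_P 13920 2 :=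
  M.wact cftr8k_lt
theorem cftn8y52_act {G Ω : Type*} [Group G] [MulAction G Ω] {g : ℕ → G} {pt : ℕ → Ω} {c : ℕ}
    (M : Md g pt Tm 13920 6 B1 c) : Act (wds g cftn8y52_W) pt cftn8y52_P 13920 1 :=
  M.wact cftn8y52_lt
theorem cftr9k_act {G Ω : Type*} [Group G] [MulAction G Ω] {g : ℕ → G} {pt : ℕ → Ω} {c : ℕ}
    (M : Md g pt Tm 13920 6 B1 c) : Act (wds g cftr9k_W) pt cftr9k_P 13920 2 :=
  M.wact cftr9k_lt
theorem cftn9_1 : ∀ i < 2, (cftn9.ent Tm cfth_P cfx_P cftn8y52_P cftr9k_P (nat_lit 6) (nat_lit 1) B1 cftl3 [cftl4, cftl5] (fun _ => nat_lit 1)) i = 0 := allZ_sound0 cftn9_1_0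
theorem cftn9_t {G Ω : Type*} [Group G] [MulAction G Ω] {g : ℕ → G} {pt : ℕ → Ω}
    (M : Md g pt Tm 13920 6 B1 322560) : TrO (gen (wds g cfth_W) cftl3.K) (wds g cfx_W) (wds g cftn8y52_W) 1 pt 13920 (cftl3.Pt 0) (fun _ => nat_lit 1) :=
  node M (cft_S3 M) (cfth_act M) (cfx_act M) (cftn8y52_act M) cftn9 ((cftr9k_act M).mono (by decide)) (fun _ _ => trivial) cftn9_0 cftn9_1 (List.forall_mem_nil _)
theorem cftr9 {G Ω : Type*} [Group G] [MulAction G Ω] {g : ℕ → G} {pt : ℕ → Ω}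
    (M : Md g pt Tm 13920 6 B1 322560) : Ref (gen (wds g cfth_W) (topK [cftl3, cftl4, cftl5])) (wds g cfx_W) (wds g cftn8y52_W) 1 :=
  (cftn9_t M).ref
theorem cftn8y58_act {G Ω : Type*} [Group G] [MulAction G Ω] {g : ℕ → G} {pt : ℕ → Ω} {c : ℕ}
    (M : Md g pt Tm 13920 6 B1 c) : Act (wds g cftn8y58_W) pt cftn8y58_P 13920 1 :=
  M.wact cftn8y58_lt
theorem cftr10k_act {G Ω : Type*} [Group G] [MulAction G Ω] {g : ℕ → G} {pt : ℕ → Ω} {c : ℕ}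
    (M : Md g pt Tm 13920 6 B1 c) : Act (wds g cftr10k_W) pt cftr10k_P 13920 2 :=
  M.wact cftr10k_lt
theorem cftn10_1 : ∀ i < 2, (cftn10.ent Tm cfth_P cfx_P cftn8y58_P cftr10k_P (nat_lit 6) (nat_lit 1) B1 cftl3 [cftl4, cftl5] (fun _ => nat_lit 1)) i = 0 := allZ_sound0 cftn10_1_0
theorem cftn10_t {G Ω : Type*} [Group G] [MulAction G Ω] {g : ℕ → G} {pt : ℕ → Ω}
    (M : Md g pt Tm 13920 6 B1 322560) : TrO (gen (wds g cfth_W) cftl3.K) (wds g cfx_W) (wds g cftn8y58_W) 1 pt 13920 (cftl3.Pt 0) (fun _ => nat_lit 1) :=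
  node M (cft_S3 M) (cfth_act M) (cfx_act M) (cftn8y58_act M) cftn10 ((cftr10k_act M).mono (by decide)) (fun _ _ => trivial) cftn10_0 cftn10_1 (List.forall_mem_nil _)
theorem cftr10 {G Ω : Type*} [Group G] [MulAction G Ω] {g : ℕ → G} {pt : ℕ → Ω}
    (M : Md g pt Tm 13920 6 B1 322560) : Ref (gen (wds g cfth_W) (topK [cftl3, cftl4, cftl5])) (wds g cfx_W) (wds g cftn8y58_W) 1 :=
  (cftn10_t M).ref
theorem cftn8_1 : ∀ i < 2, (cftn8.ent Tm cfth_P cfx_P cftn7y229_P cftr8k_P (nat_lit 6) (nat_lit 1) B1 cftl2 [cftl3, cftl4, cftl5] (fun _ => nat_lit 1)) i = 0 := allZ_sound0 cftn8_1_0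
theorem cftn8_t {G Ω : Type*} [Group G] [MulAction G Ω] {g : ℕ → G} {pt : ℕ → Ω}
    (M : Md g pt Tm 13920 6 B1 322560) : TrO (gen (wds g cfth_W) cftl2.K) (wds g cfx_W) (wds g cftn7y229_W) 1 pt 13920 (cftl2.Pt 0) (fun _ => nat_lit 1) :=
  node M (cft_S2 M) (cfth_act M) (cfx_act M) (cftn7y229_act M) cftn8 ((cftr8k_act M).mono (by decide)) (fun _ _ => trivial) cftn8_0 cftn8_1 (List.forall_mem_cons.2 ⟨cftr9 M, List.forall_mem_cons.2 ⟨cftr10 M, List.forall_mem_nil _⟩⟩)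
theorem cftr8 {G Ω : Type*} [Group G] [MulAction G Ω] {g : ℕ → G} {pt : ℕ → Ω}
    (M : Md g pt Tm 13920 6 B1 322560) : Ref (gen (wds g cfth_W) (topK [cftl2, cftl3, cftl4, cftl5])) (wds g cfx_W) (wds g cftn7y229_W) 1 :=
  (cftn8_t M).ref
theorem cftn7_1 : ∀ i < 480, (cftn7.ent Tm cfth_P cfx_P cfx_P cfe_P (nat_lit 6) (nat_lit 1) B1 cftl0 [cftl1, cftl2, cftl3, cftl4, cftl5] (memO cfc0)) i = 0 := allZ_sound0 cftn7_1_0
theorem cftn7_t {G Ω : Type*} [Group G] [MulAction G Ω] {g : ℕ → G} {pt : ℕ → Ω}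
    (M : Md g pt Tm 13920 6 B1 322560) : TrO (gen (wds g cfth_W) cftl0.K) (wds g cfx_W) (wds g cfx_W) 1 pt 13920 (cftl0.Pt 0) (memO cfc0) :=
  node M (cft_S0 M) (cfth_act M) (cfx_act M) (cfx_act M) cftn7 ((cfe_act M).mono (by decide)) (fun _ _ => trivial) cftn7_0 cftn7_1 (List.forall_mem_cons.2 ⟨cftr8 M, List.forall_mem_nil _⟩)
theorem cf {G Ω : Type*} [Group G] [MulAction G Ω] {g : ℕ → G} {pt : ℕ → Ω}
    (M : Md g pt Tm 13920 6 B1 322560) : Cen ⊤ (wds g cfx_W) 1 (wds g cfe_W) pt 13920 [cfc0, cfc3, cfc5] :=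
  (cft_S0 M).top ▸ Cen.lev M (cft_S0 M) (Cen.triv (cft_S1 M) (Cen.triv (cft_S2 M) (Cen.lev M (cft_S3 M) (Cen.triv (cft_S4 M) (Cen.lev M (cft_S5 M) (Cen.bot) (cftn0_t M) (cfx_act M) (cfe_act M) (fun _ _ => trivial) cfc5_ok cf_f5) (cftn1_t M)) (cftn3_t M) (cfx_act M) (cfe_act M) (fun _ _ => trivial) cfc3_ok cf_f3) (cftn4_t M)) (forced (cft_S1 M) (cfth_act M) (cfx_act M) _ _ cf_f1)) (cftn7_t M) (cfx_act M) (cfe_act M) (fun _ _ => trivial) cfc0_ok cf_f0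
theorem cf_card {G Ω : Type*} [Group G] [MulAction G Ω] {g : ℕ → G} {pt : ℕ → Ω}
    (M : Md g pt Tm 13920 6 B1 322560) : Nat.card (Subgroup.centralizer {(wds g cfx_W) 0}) = 240 :=
  (cf M).card_cent1 M.inj cf_c.1
theorem cf_eq {G Ω : Type*} [Group G] [MulAction G Ω] {g : ℕ → G} {pt : ℕ → Ω}
    (M : Md g pt Tm 13920 6 B1 322560) : Subgroup.centralizer (gen (wds g cfx_W) 1) = gen (wds g cfe_W) 5 ∧ Nat.card (gen (wds g cfe_W) 5) = 240 :=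
  cf_c.1 ▸ cf_c.2 ▸ ⟨(cf M).cent, (cf M).card M.inj⟩
theorem ctx_act {G Ω : Type*} [Group G] [MulAction G Ω] {g : ℕ → G} {pt : ℕ → Ω} {c : ℕ}
    (M : Md g pt Tm 13920 6 B1 c) : Act (wds g ctx_W) pt ctx_P 13920 3 :=
  M.wact ctx_lt
theorem ctth_act {G Ω : Type*} [Group G] [MulAction G Ω] {g : ℕ → G} {pt : ℕ → Ω} {c : ℕ}
    (M : Md g pt Tm 13920 6 B1 c) : Act (wds g ctth_W) pt ctth_P 13920 12 :=
  M.wact ctth_lt
theorem cttl0_e : ∀ i < 479, (dent cttl0 ctth_P (nat_lit 13920)) i = 0 := allZ_sound0 cttl0_e_0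
theorem cttl0_ok : DOK cttl0 ctth_P 13920 := ⟨cttl0_h, cttl0_e⟩
theorem cttl1_e : ∀ i < 55, (dent cttl1 ctth_P (nat_lit 13920)) i = 0 := allZ_sound0 cttl1_e_0
theorem cttl1_ok : DOK cttl1 ctth_P 13920 := ⟨cttl1_h, cttl1_e⟩
theorem cttl2_e : ∀ i < 5, (dent cttl2 ctth_P (nat_lit 13920)) i = 0 := allZ_sound0 cttl2_e_0
theorem cttl2_ok : DOK cttl2 ctth_P 13920 := ⟨cttl2_h, cttl2_e⟩
theorem cttl3_e : ∀ i < 1, (dent cttl3 ctth_P (nat_lit 13920)) i = 0 := allZ_sound0 cttl3_e_0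
theorem cttl3_ok : DOK cttl3 ctth_P 13920 := ⟨cttl3_h, cttl3_e⟩
theorem ctt_low {G Ω : Type*} [Group G] [MulAction G Ω] {g : ℕ → G} {pt : ℕ → Ω} {c : ℕ}
    (M : Md g pt Tm 13920 6 B1 c) : SLow (gi (wds g ctth_W)) pt 13920 [cttl0, cttl1, cttl2, cttl3] :=
  ((((SLow.nil).cons cttl3_ok (ctth_act M) ctt_f3).cons cttl2_ok (ctth_act M) ctt_f2).cons cttl1_ok (ctth_act M) ctt_f1).cons cttl0_ok (ctth_act M) ctt_f0
theorem ctt_S0 {G Ω : Type*} [Group G] [MulAction G Ω] {g : ℕ → G} {pt : ℕ → Ω}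
    (M : Md g pt Tm 13920 6 B1 322560) : Stage ⊤ (wds g ctth_W) pt 13920 [cttl0, cttl1, cttl2, cttl3] [] :=
  M.stage (ctt_low M) ctt_c
theorem ctt_S1 {G Ω : Type*} [Group G] [MulAction G Ω] {g : ℕ → G} {pt : ℕ → Ω}
    (M : Md g pt Tm 13920 6 B1 322560) : Stage ⊤ (wds g ctth_W) pt 13920 [cttl1, cttl2, cttl3] [cttl0.Pt 0] :=
  (ctt_S0 M).next
theorem ctt_S2 {G Ω : Type*} [Group G] [MulAction G Ω] {g : ℕ → G} {pt : ℕ → Ω}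
    (M : Md g pt Tm 13920 6 B1 322560) : Stage ⊤ (wds g ctth_W) pt 13920 [cttl2, cttl3] [cttl1.Pt 0, cttl0.Pt 0] :=
  (ctt_S1 M).next
theorem ctt_S3 {G Ω : Type*} [Group G] [MulAction G Ω] {g : ℕ → G} {pt : ℕ → Ω}
    (M : Md g pt Tm 13920 6 B1 322560) : Stage ⊤ (wds g ctth_W) pt 13920 [cttl3] [cttl2.Pt 0, cttl1.Pt 0, cttl0.Pt 0] :=
  (ctt_S2 M).next
theorem ctt_S4 {G Ω : Type*} [Group G] [MulAction G Ω] {g : ℕ → G} {pt : ℕ → Ω}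
    (M : Md g pt Tm 13920 6 B1 322560) : Stage ⊤ (wds g ctth_W) pt 13920 [] [cttl3.Pt 0, cttl2.Pt 0, cttl1.Pt 0, cttl0.Pt 0] :=
  (ctt_S3 M).next
theorem cte_act {G Ω : Type*} [Group G] [MulAction G Ω] {g : ℕ → G} {pt : ℕ → Ω} {c : ℕ}
    (M : Md g pt Tm 13920 6 B1 c) : Act (wds g cte_W) pt cte_P 13920 1 :=
  M.wact cte_lt
theorem ctc3_e : ∀ i < 1, (dent ctc3 cte_P (nat_lit 13920)) i = 0 := allZ_sound0 ctc3_e_0
theorem ctc3_ok : DOK ctc3 cte_P 13920 := ⟨ctc3_h, ctc3_e⟩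
theorem cttn0_1 : ∀ i < 2, (cttn0.ent Tm ctth_P ctx_P ctx_P cte_P (nat_lit 6) (nat_lit 3) B1 cttl3 [] (memO ctc3)) i = 0 := allZ_sound0 cttn0_1_0
theorem cttn0_t {G Ω : Type*} [Group G] [MulAction G Ω] {g : ℕ → G} {pt : ℕ → Ω}
    (M : Md g pt Tm 13920 6 B1 322560) : TrO (gen (wds g ctth_W) cttl3.K) (wds g ctx_W) (wds g ctx_W) 3 pt 13920 (cttl3.Pt 0) (memO ctc3) :=
  node M (ctt_S3 M) (ctth_act M) (ctx_act M) (ctx_act M) cttn0 ((cte_act M).mono (by decide)) (fun _ _ => trivial) cttn0_0 cttn0_1 (List.forall_mem_nil _)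
theorem cttn1y229_act {G Ω : Type*} [Group G] [MulAction G Ω] {g : ℕ → G} {pt : ℕ → Ω} {c : ℕ}
    (M : Md g pt Tm 13920 6 B1 c) : Act (wds g cttn1y229_W) pt cttn1y229_P 13920 3 :=
  M.wact cttn1y229_lt
theorem cttr2k_act {G Ω : Type*} [Group G] [MulAction G Ω] {g : ℕ → G} {pt : ℕ → Ω} {c : ℕ}
    (M : Md g pt Tm 13920 6 B1 c) : Act (wds g cttr2k_W) pt cttr2k_P 13920 2 :=
  M.wact cttr2k_lt
theorem cttn2_1 : ∀ i < 2, (cttn2.ent Tm ctth_P ctx_P cttn1y229_P cttr2k_P (nat_lit 6) (nat_lit 3) B1 cttl3 [] (fun _ => nat_lit 1)) i = 0 := allZ_sound0 cttn2_1_0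
theorem cttn2_t {G Ω : Type*} [Group G] [MulAction G Ω] {g : ℕ → G} {pt : ℕ → Ω}
    (M : Md g pt Tm 13920 6 B1 322560) : TrO (gen (wds g ctth_W) cttl3.K) (wds g ctx_W) (wds g cttn1y229_W) 3 pt 13920 (cttl3.Pt 0) (fun _ => nat_lit 1) :=
  node M (ctt_S3 M) (ctth_act M) (ctx_act M) (cttn1y229_act M) cttn2 ((cttr2k_act M).mono (by decide)) (fun _ _ => trivial) cttn2_0 cttn2_1 (List.forall_mem_nil _)
theorem cttr2 {G Ω : Type*} [Group G] [MulAction G Ω] {g : ℕ → G} {pt : ℕ → Ω}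
    (M : Md g pt Tm 13920 6 B1 322560) : Ref (gen (wds g ctth_W) (topK [cttl3])) (wds g ctx_W) (wds g cttn1y229_W) 3 :=
  (cttn2_t M).ref
theorem cttn1y2583_act {G Ω : Type*} [Group G] [MulAction G Ω] {g : ℕ → G} {pt : ℕ → Ω} {c : ℕ}
    (M : Md g pt Tm 13920 6 B1 c) : Act (wds g cttn1y2583_W) pt cttn1y2583_P 13920 3 :=
  M.wact cttn1y2583_lt
theorem cttr3k_act {G Ω : Type*} [Group G] [MulAction G Ω] {g : ℕ → G} {pt : ℕ → Ω} {c : ℕ}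
    (M : Md g pt Tm 13920 6 B1 c) : Act (wds g cttr3k_W) pt cttr3k_P 13920 2 :=
  M.wact cttr3k_lt
theorem cttn3_1 : ∀ i < 2, (cttn3.ent Tm ctth_P ctx_P cttn1y2583_P cttr3k_P (nat_lit 6) (nat_lit 3) B1 cttl3 [] (fun _ => nat_lit 1)) i = 0 := allZ_sound0 cttn3_1_0
theorem cttn3_t {G Ω : Type*} [Group G] [MulAction G Ω] {g : ℕ → G} {pt : ℕ → Ω}
    (M : Md g pt Tm 13920 6 B1 322560) : TrO (gen (wds g ctth_W) cttl3.K) (wds g ctx_W) (wds g cttn1y2583_W) 3 pt 13920 (cttl3.Pt 0) (fun _ => nat_lit 1) :=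
  node M (ctt_S3 M) (ctth_act M) (ctx_act M) (cttn1y2583_act M) cttn3 ((cttr3k_act M).mono (by decide)) (fun _ _ => trivial) cttn3_0 cttn3_1 (List.forall_mem_nil _)
theorem cttr3 {G Ω : Type*} [Group G] [MulAction G Ω] {g : ℕ → G} {pt : ℕ → Ω}
    (M : Md g pt Tm 13920 6 B1 322560) : Ref (gen (wds g ctth_W) (topK [cttl3])) (wds g ctx_W) (wds g cttn1y2583_W) 3 :=
  (cttn3_t M).ref
theorem cttn1y5460_act {G Ω : Type*} [Group G] [MulAction G Ω] {g : ℕ → G} {pt : ℕ → Ω} {c : ℕ}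
    (M : Md g pt Tm 13920 6 B1 c) : Act (wds g cttn1y5460_W) pt cttn1y5460_P 13920 3 :=
  M.wact cttn1y5460_lt
theorem cttr4k_act {G Ω : Type*} [Group G] [MulAction G Ω] {g : ℕ → G} {pt : ℕ → Ω} {c : ℕ}
    (M : Md g pt Tm 13920 6 B1 c) : Act (wds g cttr4k_W) pt cttr4k_P 13920 2 :=
  M.wact cttr4k_lt
theorem cttn4_1 : ∀ i < 2, (cttn4.ent Tm ctth_P ctx_P cttn1y5460_P cttr4k_P (nat_lit 6) (nat_lit 3) B1 cttl3 [] (fun _ => nat_lit 1)) i = 0 := allZ_sound0 cttn4_1_0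
theorem cttn4_t {G Ω : Type*} [Group G] [MulAction G Ω] {g : ℕ → G} {pt : ℕ → Ω}
    (M : Md g pt Tm 13920 6 B1 322560) : TrO (gen (wds g ctth_W) cttl3.K) (wds g ctx_W) (wds g cttn1y5460_W) 3 pt 13920 (cttl3.Pt 0) (fun _ => nat_lit 1) :=
  node M (ctt_S3 M) (ctth_act M) (ctx_act M) (cttn1y5460_act M) cttn4 ((cttr4k_act M).mono (by decide)) (fun _ _ => trivial) cttn4_0 cttn4_1 (List.forall_mem_nil _)
theorem cttr4 {G Ω : Type*} [Group G] [MulAction G Ω] {g : ℕ → G} {pt : ℕ → Ω}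
    (M : Md g pt Tm 13920 6 B1 322560) : Ref (gen (wds g ctth_W) (topK [cttl3])) (wds g ctx_W) (wds g cttn1y5460_W) 3 :=
  (cttn4_t M).ref
theorem cttn1_1 : ∀ i < 480, (cttn1.ent Tm ctth_P ctx_P ctx_P cte_P (nat_lit 6) (nat_lit 3) B1 cttl0 [cttl1, cttl2, cttl3] (fun w => Nat.xor w (cttl0.Pt (nat_lit 0)))) i = 0 := allZ_sound0 cttn1_1_0
theorem cttn1_t {G Ω : Type*} [Group G] [MulAction G Ω] {g : ℕ → G} {pt : ℕ → Ω}
    (M : Md g pt Tm 13920 6 B1 322560) : TrO (gen (wds g ctth_W) cttl0.K) (wds g ctx_W) (wds g ctx_W) 3 pt 13920 (cttl0.Pt 0) (fun w => Nat.xor w (cttl0.Pt (nat_lit 0))) :=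
  node M (ctt_S0 M) (ctth_act M) (ctx_act M) (ctx_act M) cttn1 ((cte_act M).mono (by decide)) (fun _ _ => trivial) cttn1_0 cttn1_1 (List.forall_mem_cons.2 ⟨cttr2 M, List.forall_mem_cons.2 ⟨cttr3 M, List.forall_mem_cons.2 ⟨cttr4 M, List.forall_mem_nil _⟩⟩⟩)
theorem ct {G Ω : Type*} [Group G] [MulAction G Ω] {g : ℕ → G} {pt : ℕ → Ω}
    (M : Md g pt Tm 13920 6 B1 322560) : Cen ⊤ (wds g ctx_W) 3 (wds g cte_W) pt 13920 [ctc3] :=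
  (ctt_S0 M).top ▸ Cen.triv (ctt_S0 M) (Cen.triv (ctt_S1 M) (Cen.triv (ctt_S2 M) (Cen.lev M (ctt_S3 M) (Cen.bot) (cttn0_t M) (ctx_act M) (cte_act M) (fun _ _ => trivial) ctc3_ok ct_f3) (forced (ctt_S2 M) (ctth_act M) (ctx_act M) _ _ ct_f2)) (forced (ctt_S1 M) (ctth_act M) (ctx_act M) _ _ ct_f1)) (cttn1_t M)
theorem ct_eq {G Ω : Type*} [Group G] [MulAction G Ω] {g : ℕ → G} {pt : ℕ → Ω}
    (M : Md g pt Tm 13920 6 B1 322560) : Subgroup.centralizer (gen (wds g ctx_W) 3) = gen (wds g cte_W) 1 ∧ Nat.card (gen (wds g cte_W) 1) = 2 :=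
  ct_c.1 ▸ ct_c.2 ▸ ⟨(ct M).cent, (ct M).card M.inj⟩
theorem en27a : ∀ k < 1, ∀ i < 2, (tupEnt cte_P en27T en27N (nat_lit 13920) (nat_lit 2) (nat_lit 3)) k i = 0 := allZ2_sound en27a_a
theorem en27b : ∀ i < 2, (enEnt cte_P en27T en27W (nat_lit 3)) i = 0 := allZ_sound0 en27b_0
theorem cl28 : ∀ i < 2, (clEnt cte_P (wdsP Tm wW) 67 68 B1 cl28L en27W) i = 0 := allZ_sound0 cl28_0
theorem cl28g {G Ω : Type*} [Group G] [MulAction G Ω] {pt : ℕ → Ω} {w : ℕ → G} (S : Bm G pt 13920 B1) (hw : Act w pt (wdsP Tm wW) 13920 68) {x : ℕ → G}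
    (e : En x 1 en27W 2) (hx : Act x pt cte_P 13920 1) : ∀ v ∈ gen x 1,
    v = 1 ∨ v = w 0 := S.cls e hx hw en27c.2.1 cl28
theorem le29 : ∀ i < 3, (leEnt t_P ctx_P 9 B1 le29W) i = 0 := allZ_sound0 le29_0
theorem ckx_act {G Ω : Type*} [Group G] [MulAction G Ω] {g : ℕ → G} {pt : ℕ → Ω} {c : ℕ}
    (M : Md g pt Tm 13920 6 B1 c) : Act (wds g ckx_W) pt ckx_P 13920 2 :=
  M.wact ckx_lt
theorem ckth_act {G Ω : Type*} [Group G] [MulAction G Ω] {g : ℕ → G} {pt : ℕ → Ω} {c : ℕ}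
    (M : Md g pt Tm 13920 6 B1 c) : Act (wds g ckth_W) pt ckth_P 13920 12 :=
  M.wact ckth_lt
theorem cktl0_e : ∀ i < 479, (dent cktl0 ckth_P (nat_lit 13920)) i = 0 := allZ_sound0 cktl0_e_0
theorem cktl0_ok : DOK cktl0 ckth_P 13920 := ⟨cktl0_h, cktl0_e⟩
theorem cktl1_e : ∀ i < 83, (dent cktl1 ckth_P (nat_lit 13920)) i = 0 := allZ_sound0 cktl1_e_0
theorem cktl1_ok : DOK cktl1 ckth_P 13920 := ⟨cktl1_h, cktl1_e⟩
theorem cktl2_e : ∀ i < 3, (dent cktl2 ckth_P (nat_lit 13920)) i = 0 := allZ_sound0 cktl2_e_0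
theorem cktl2_ok : DOK cktl2 ckth_P 13920 := ⟨cktl2_h, cktl2_e⟩
theorem cktl3_e : ∀ i < 1, (dent cktl3 ckth_P (nat_lit 13920)) i = 0 := allZ_sound0 cktl3_e_0
theorem cktl3_ok : DOK cktl3 ckth_P 13920 := ⟨cktl3_h, cktl3_e⟩
theorem ckt_low {G Ω : Type*} [Group G] [MulAction G Ω] {g : ℕ → G} {pt : ℕ → Ω} {c : ℕ}
    (M : Md g pt Tm 13920 6 B1 c) : SLow (gi (wds g ckth_W)) pt 13920 [cktl0, cktl1, cktl2, cktl3] :=
  ((((SLow.nil).cons cktl3_ok (ckth_act M) ckt_f3).cons cktl2_ok (ckth_act M) ckt_f2).cons cktl1_ok (ckth_act M) ckt_f1).cons cktl0_ok (ckth_act M) ckt_f0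
theorem ckt_S0 {G Ω : Type*} [Group G] [MulAction G Ω] {g : ℕ → G} {pt : ℕ → Ω}
    (M : Md g pt Tm 13920 6 B1 322560) : Stage ⊤ (wds g ckth_W) pt 13920 [cktl0, cktl1, cktl2, cktl3] [] :=
  M.stage (ckt_low M) ckt_c
theorem ckt_S1 {G Ω : Type*} [Group G] [MulAction G Ω] {g : ℕ → G} {pt : ℕ → Ω}
    (M : Md g pt Tm 13920 6 B1 322560) : Stage ⊤ (wds g ckth_W) pt 13920 [cktl1, cktl2, cktl3] [cktl0.Pt 0] :=
  (ckt_S0 M).next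
theorem ckt_S2 {G Ω : Type*} [Group G] [MulAction G Ω] {g : ℕ → G} {pt : ℕ → Ω}
    (M : Md g pt Tm 13920 6 B1 322560) : Stage ⊤ (wds g ckth_W) pt 13920 [cktl2, cktl3] [cktl1.Pt 0, cktl0.Pt 0] :=
  (ckt_S1 M).next
theorem ckt_S3 {G Ω : Type*} [Group G] [MulAction G Ω] {g : ℕ → G} {pt : ℕ → Ω}
    (M : Md g pt Tm 13920 6 B1 322560) : Stage ⊤ (wds g ckth_W) pt 13920 [cktl3] [cktl2.Pt 0, cktl1.Pt 0, cktl0.Pt 0] :=
  (ckt_S2 M).next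
theorem ckt_S4 {G Ω : Type*} [Group G] [MulAction G Ω] {g : ℕ → G} {pt : ℕ → Ω}
    (M : Md g pt Tm 13920 6 B1 322560) : Stage ⊤ (wds g ckth_W) pt 13920 [] [cktl3.Pt 0, cktl2.Pt 0, cktl1.Pt 0, cktl0.Pt 0] :=
  (ckt_S3 M).next
theorem cke_act {G Ω : Type*} [Group G] [MulAction G Ω] {g : ℕ → G} {pt : ℕ → Ω} {c : ℕ}
    (M : Md g pt Tm 13920 6 B1 c) : Act (wds g cke_W) pt cke_P 13920 2 :=
  M.wact cke_lt
theorem ckc3_e : ∀ i < 1, (dent ckc3 cke_P (nat_lit 13920)) i = 0 := allZ_sound0 ckc3_e_0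
theorem ckc3_ok : DOK ckc3 cke_P 13920 := ⟨ckc3_h, ckc3_e⟩
theorem cktn0_1 : ∀ i < 2, (cktn0.ent Tm ckth_P ckx_P ckx_P cke_P (nat_lit 6) (nat_lit 2) B1 cktl3 [] (memO ckc3)) i = 0 := allZ_sound0 cktn0_1_0
theorem cktn0_t {G Ω : Type*} [Group G] [MulAction G Ω] {g : ℕ → G} {pt : ℕ → Ω}
    (M : Md g pt Tm 13920 6 B1 322560) : TrO (gen (wds g ckth_W) cktl3.K) (wds g ckx_W) (wds g ckx_W) 2 pt 13920 (cktl3.Pt 0) (memO ckc3) :=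
  node M (ckt_S3 M) (ckth_act M) (ckx_act M) (ckx_act M) cktn0 ((cke_act M).mono (by decide)) (fun _ _ => trivial) cktn0_0 cktn0_1 (List.forall_mem_nil _)
theorem ckc0_e : ∀ i < 1, (dent ckc0 cke_P (nat_lit 13920)) i = 0 := allZ_sound0 ckc0_e_0
theorem ckc0_ok : DOK ckc0 cke_P 13920 := ⟨ckc0_h, ckc0_e⟩
theorem cktn1_1 : ∀ i < 480, (cktn1.ent Tm ckth_P ckx_P ckx_P cke_P (nat_lit 6) (nat_lit 2) B1 cktl0 [cktl1, cktl2, cktl3] (memO ckc0)) i = 0 := allZ_sound0 cktn1_1_0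
theorem cktn1_t {G Ω : Type*} [Group G] [MulAction G Ω] {g : ℕ → G} {pt : ℕ → Ω}
    (M : Md g pt Tm 13920 6 B1 322560) : TrO (gen (wds g ckth_W) cktl0.K) (wds g ckx_W) (wds g ckx_W) 2 pt 13920 (cktl0.Pt 0) (memO ckc0) :=
  node M (ckt_S0 M) (ckth_act M) (ckx_act M) (ckx_act M) cktn1 ((cke_act M).mono (by decide)) (fun _ _ => trivial) cktn1_0 cktn1_1 (List.forall_mem_nil _)
theorem ck {G Ω : Type*} [Group G] [MulAction G Ω] {g : ℕ → G} {pt : ℕ → Ω}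
    (M : Md g pt Tm 13920 6 B1 322560) : Cen ⊤ (wds g ckx_W) 2 (wds g cke_W) pt 13920 [ckc0, ckc3] :=
  (ckt_S0 M).top ▸ Cen.lev M (ckt_S0 M) (Cen.triv (ckt_S1 M) (Cen.triv (ckt_S2 M) (Cen.lev M (ckt_S3 M) (Cen.bot) (cktn0_t M) (ckx_act M) (cke_act M) (fun _ _ => trivial) ckc3_ok ck_f3) (forced (ckt_S2 M) (ckth_act M) (ckx_act M) _ _ ck_f2)) (forced (ckt_S1 M) (ckth_act M) (ckx_act M) _ _ ck_f1)) (cktn1_t M) (ckx_act M) (cke_act M) (fun _ _ => trivial) ckc0_ok ck_f0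
theorem ck_eq {G Ω : Type*} [Group G] [MulAction G Ω] {g : ℕ → G} {pt : ℕ → Ω}
    (M : Md g pt Tm 13920 6 B1 322560) : Subgroup.centralizer (gen (wds g ckx_W) 2) = gen (wds g cke_W) 2 ∧ Nat.card (gen (wds g cke_W) 2) = 4 :=
  ck_c.1 ▸ ck_c.2 ▸ ⟨(ck M).cent, (ck M).card M.inj⟩
theorem clx_act {G Ω : Type*} [Group G] [MulAction G Ω] {g : ℕ → G} {pt : ℕ → Ω} {c : ℕ}
    (M : Md g pt Tm 13920 5 B1 c) : Act (wds g clx_W) pt clx_P 13920 1 :=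
  M.wact clx_lt
theorem clth_act {G Ω : Type*} [Group G] [MulAction G Ω] {g : ℕ → G} {pt : ℕ → Ω} {c : ℕ}
    (M : Md g pt Tm 13920 5 B1 c) : Act (wds g clth_W) pt clth_P 13920 11 :=
  M.wact clth_lt
theorem cltl0_e : ∀ i < 239, (dent cltl0 clth_P (nat_lit 13920)) i = 0 := allZ_sound0 cltl0_e_0
theorem cltl0_ok : DOK cltl0 clth_P 13920 := ⟨cltl0_h, cltl0_e⟩
theorem cltl1_e : ∀ i < 1, (dent cltl1 clth_P (nat_lit 13920)) i = 0 := allZ_sound0 cltl1_e_0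
theorem cltl1_ok : DOK cltl1 clth_P 13920 := ⟨cltl1_h, cltl1_e⟩
theorem cltl2_e : ∀ i < 13, (dent cltl2 clth_P (nat_lit 13920)) i = 0 := allZ_sound0 cltl2_e_0
theorem cltl2_ok : DOK cltl2 clth_P 13920 := ⟨cltl2_h, cltl2_e⟩
theorem cltl3_e : ∀ i < 3, (dent cltl3 clth_P (nat_lit 13920)) i = 0 := allZ_sound0 cltl3_e_0
theorem cltl3_ok : DOK cltl3 clth_P 13920 := ⟨cltl3_h, cltl3_e⟩
theorem cltl4_e : ∀ i < 2, (dent cltl4 clth_P (nat_lit 13920)) i = 0 := allZ_sound0 cltl4_e_0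
theorem cltl4_ok : DOK cltl4 clth_P 13920 := ⟨cltl4_h, cltl4_e⟩
theorem cltl5_e : ∀ i < 1, (dent cltl5 clth_P (nat_lit 13920)) i = 0 := allZ_sound0 cltl5_e_0
theorem cltl5_ok : DOK cltl5 clth_P 13920 := ⟨cltl5_h, cltl5_e⟩
theorem clt_low {G Ω : Type*} [Group G] [MulAction G Ω] {g : ℕ → G} {pt : ℕ → Ω} {c : ℕ}
    (M : Md g pt Tm 13920 5 B1 c) : SLow (gi (wds g clth_W)) pt 13920 [cltl0, cltl1, cltl2, cltl3, cltl4, cltl5] :=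
  ((((((SLow.nil).cons cltl5_ok (clth_act M) clt_f5).cons cltl4_ok (clth_act M) clt_f4).cons cltl3_ok (clth_act M) clt_f3).cons cltl2_ok (clth_act M) clt_f2).cons cltl1_ok (clth_act M) clt_f1).cons cltl0_ok (clth_act M) clt_f0
theorem clt_S0 {G Ω : Type*} [Group G] [MulAction G Ω] {g : ℕ → G} {pt : ℕ → Ω}
    (M : Md g pt Tm 13920 5 B1 161280) : Stage ⊤ (wds g clth_W) pt 13920 [cltl0, cltl1, cltl2, cltl3, cltl4, cltl5] [] :=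
  M.stage (clt_low M) clt_c
theorem clt_S1 {G Ω : Type*} [Group G] [MulAction G Ω] {g : ℕ → G} {pt : ℕ → Ω}
    (M : Md g pt Tm 13920 5 B1 161280) : Stage ⊤ (wds g clth_W) pt 13920 [cltl1, cltl2, cltl3, cltl4, cltl5] [cltl0.Pt 0] :=
  (clt_S0 M).next
theorem clt_S2 {G Ω : Type*} [Group G] [MulAction G Ω] {g : ℕ → G} {pt : ℕ → Ω}
    (M : Md g pt Tm 13920 5 B1 161280) : Stage ⊤ (wds g clth_W) pt 13920 [cltl2, cltl3, cltl4, cltl5] [cltl1.Pt 0, cltl0.Pt 0] :=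
  (clt_S1 M).next
theorem clt_S3 {G Ω : Type*} [Group G] [MulAction G Ω] {g : ℕ → G} {pt : ℕ → Ω}
    (M : Md g pt Tm 13920 5 B1 161280) : Stage ⊤ (wds g clth_W) pt 13920 [cltl3, cltl4, cltl5] [cltl2.Pt 0, cltl1.Pt 0, cltl0.Pt 0] :=
  (clt_S2 M).next
theorem clt_S4 {G Ω : Type*} [Group G] [MulAction G Ω] {g : ℕ → G} {pt : ℕ → Ω}
    (M : Md g pt Tm 13920 5 B1 161280) : Stage ⊤ (wds g clth_W) pt 13920 [cltl4, cltl5] [cltl3.Pt 0, cltl2.Pt 0, cltl1.Pt 0, cltl0.Pt 0] :=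
  (clt_S3 M).next
theorem clt_S5 {G Ω : Type*} [Group G] [MulAction G Ω] {g : ℕ → G} {pt : ℕ → Ω}
    (M : Md g pt Tm 13920 5 B1 161280) : Stage ⊤ (wds g clth_W) pt 13920 [cltl5] [cltl4.Pt 0, cltl3.Pt 0, cltl2.Pt 0, cltl1.Pt 0, cltl0.Pt 0] :=
  (clt_S4 M).next
theorem clt_S6 {G Ω : Type*} [Group G] [MulAction G Ω] {g : ℕ → G} {pt : ℕ → Ω}
    (M : Md g pt Tm 13920 5 B1 161280) : Stage ⊤ (wds g clth_W) pt 13920 [] [cltl5.Pt 0, cltl4.Pt 0, cltl3.Pt 0, cltl2.Pt 0, cltl1.Pt 0, cltl0.Pt 0] :=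
  (clt_S5 M).next
theorem cle_act {G Ω : Type*} [Group G] [MulAction G Ω] {g : ℕ → G} {pt : ℕ → Ω} {c : ℕ}
    (M : Md g pt Tm 13920 5 B1 c) : Act (wds g cle_W) pt cle_P 13920 8 :=
  M.wact cle_lt
theorem clc5_e : ∀ i < 1, (dent clc5 cle_P (nat_lit 13920)) i = 0 := allZ_sound0 clc5_e_0
theorem clc5_ok : DOK clc5 cle_P 13920 := ⟨clc5_h, clc5_e⟩
theorem cltn0_1 : ∀ i < 2, (cltn0.ent Tm clth_P clx_P clx_P cle_P (nat_lit 5) (nat_lit 1) B1 cltl5 [] (memO clc5)) i = 0 := allZ_sound0 cltn0_1_0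
theorem cltn0_t {G Ω : Type*} [Group G] [MulAction G Ω] {g : ℕ → G} {pt : ℕ → Ω}
    (M : Md g pt Tm 13920 5 B1 161280) : TrO (gen (wds g clth_W) cltl5.K) (wds g clx_W) (wds g clx_W) 1 pt 13920 (cltl5.Pt 0) (memO clc5) :=
  node M (clt_S5 M) (clth_act M) (clx_act M) (clx_act M) cltn0 ((cle_act M).mono (by decide)) (fun _ _ => trivial) cltn0_0 cltn0_1 (List.forall_mem_nil _)
theorem clc3_e : ∀ i < 3, (dent clc3 cle_P (nat_lit 13920)) i = 0 := allZ_sound0 clc3_e_0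
theorem clc3_ok : DOK clc3 cle_P 13920 := ⟨clc3_h, clc3_e⟩
theorem cltn1_1 : ∀ i < 4, (cltn1.ent Tm clth_P clx_P clx_P cle_P (nat_lit 5) (nat_lit 1) B1 cltl3 [cltl4, cltl5] (memO clc3)) i = 0 := allZ_sound0 cltn1_1_0
theorem cltn1_t {G Ω : Type*} [Group G] [MulAction G Ω] {g : ℕ → G} {pt : ℕ → Ω}
    (M : Md g pt Tm 13920 5 B1 161280) : TrO (gen (wds g clth_W) cltl3.K) (wds g clx_W) (wds g clx_W) 1 pt 13920 (cltl3.Pt 0) (memO clc3) :=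
  node M (clt_S3 M) (clth_act M) (clx_act M) (clx_act M) cltn1 ((cle_act M).mono (by decide)) (fun _ _ => trivial) cltn1_0 cltn1_1 (List.forall_mem_nil _)
theorem clc2_e : ∀ i < 1, (dent clc2 cle_P (nat_lit 13920)) i = 0 := allZ_sound0 clc2_e_0
theorem clc2_ok : DOK clc2 cle_P 13920 := ⟨clc2_h, clc2_e⟩
theorem cltn2_1 : ∀ i < 14, (cltn2.ent Tm clth_P clx_P clx_P cle_P (nat_lit 5) (nat_lit 1) B1 cltl2 [cltl3, cltl4, cltl5] (memO clc2)) i = 0 := allZ_sound0 cltn2_1_0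
theorem cltn2_t {G Ω : Type*} [Group G] [MulAction G Ω] {g : ℕ → G} {pt : ℕ → Ω}
    (M : Md g pt Tm 13920 5 B1 161280) : TrO (gen (wds g clth_W) cltl2.K) (wds g clx_W) (wds g clx_W) 1 pt 13920 (cltl2.Pt 0) (memO clc2) :=
  node M (clt_S2 M) (clth_act M) (clx_act M) (clx_act M) cltn2 ((cle_act M).mono (by decide)) (fun _ _ => trivial) cltn2_0 cltn2_1 (List.forall_mem_nil _)
theorem clc1_e : ∀ i < 1, (dent clc1 cle_P (nat_lit 13920)) i = 0 := allZ_sound0 clc1_e_0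
theorem clc1_ok : DOK clc1 cle_P 13920 := ⟨clc1_h, clc1_e⟩
theorem cltn3_1 : ∀ i < 2, (cltn3.ent Tm clth_P clx_P clx_P cle_P (nat_lit 5) (nat_lit 1) B1 cltl1 [cltl2, cltl3, cltl4, cltl5] (memO clc1)) i = 0 := allZ_sound0 cltn3_1_0
theorem cltn3_t {G Ω : Type*} [Group G] [MulAction G Ω] {g : ℕ → G} {pt : ℕ → Ω}
    (M : Md g pt Tm 13920 5 B1 161280) : TrO (gen (wds g clth_W) cltl1.K) (wds g clx_W) (wds g clx_W) 1 pt 13920 (cltl1.Pt 0) (memO clc1) :=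
  node M (clt_S1 M) (clth_act M) (clx_act M) (clx_act M) cltn3 ((cle_act M).mono (by decide)) (fun _ _ => trivial) cltn3_0 cltn3_1 (List.forall_mem_nil _)
theorem clc0_e : ∀ i < 7, (dent clc0 cle_P (nat_lit 13920)) i = 0 := allZ_sound0 clc0_e_0
theorem clc0_ok : DOK clc0 cle_P 13920 := ⟨clc0_h, clc0_e⟩
theorem cltn4y5062_act {G Ω : Type*} [Group G] [MulAction G Ω] {g : ℕ → G} {pt : ℕ → Ω} {c : ℕ}
    (M : Md g pt Tm 13920 5 B1 c) : Act (wds g cltn4y5062_W) pt cltn4y5062_P 13920 1 :=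
  M.wact cltn4y5062_lt
theorem cltr5k_act {G Ω : Type*} [Group G] [MulAction G Ω] {g : ℕ → G} {pt : ℕ → Ω} {c : ℕ}
    (M : Md g pt Tm 13920 5 B1 c) : Act (wds g cltr5k_W) pt cltr5k_P 13920 3 :=
  M.wact cltr5k_lt
theorem cltn5y12372_act {G Ω : Type*} [Group G] [MulAction G Ω] {g : ℕ → G} {pt : ℕ → Ω} {c : ℕ}
    (M : Md g pt Tm 13920 5 B1 c) : Act (wds g cltn5y12372_W) pt cltn5y12372_P 13920 1 :=
  M.wact cltn5y12372_lt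
theorem cltr6k_act {G Ω : Type*} [Group G] [MulAction G Ω] {g : ℕ → G} {pt : ℕ → Ω} {c : ℕ}
    (M : Md g pt Tm 13920 5 B1 c) : Act (wds g cltr6k_W) pt cltr6k_P 13920 3 :=
  M.wact cltr6k_lt
theorem cltn6y1946_act {G Ω : Type*} [Group G] [MulAction G Ω] {g : ℕ → G} {pt : ℕ → Ω} {c : ℕ}
    (M : Md g pt Tm 13920 5 B1 c) : Act (wds g cltn6y1946_W) pt cltn6y1946_P 13920 1 :=
  M.wact cltn6y1946_lt
theorem cltr7k_act {G Ω : Type*} [Group G] [MulAction G Ω] {g : ℕ → G} {pt : ℕ → Ω} {c : ℕ}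
    (M : Md g pt Tm 13920 5 B1 c) : Act (wds g cltr7k_W) pt cltr7k_P 13920 2 :=
  M.wact cltr7k_lt
theorem cltn7y461_act {G Ω : Type*} [Group G] [MulAction G Ω] {g : ℕ → G} {pt : ℕ → Ω} {c : ℕ}
    (M : Md g pt Tm 13920 5 B1 c) : Act (wds g cltn7y461_W) pt cltn7y461_P 13920 1 :=
  M.wact cltn7y461_lt
theorem cltr8k_act {G Ω : Type*} [Group G] [MulAction G Ω] {g : ℕ → G} {pt : ℕ → Ω} {c : ℕ}
    (M : Md g pt Tm 13920 5 B1 c) : Act (wds g cltr8k_W) pt cltr8k_P 13920 2 :=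
  M.wact cltr8k_lt
theorem cltn8_1 : ∀ i < 2, (cltn8.ent Tm clth_P clx_P cltn7y461_P cltr8k_P (nat_lit 5) (nat_lit 1) B1 cltl5 [] (fun _ => nat_lit 1)) i = 0 := allZ_sound0 cltn8_1_0
theorem cltn8_t {G Ω : Type*} [Group G] [MulAction G Ω] {g : ℕ → G} {pt : ℕ → Ω}
    (M : Md g pt Tm 13920 5 B1 161280) : TrO (gen (wds g clth_W) cltl5.K) (wds g clx_W) (wds g cltn7y461_W) 1 pt 13920 (cltl5.Pt 0) (fun _ => nat_lit 1) :=
  node M (clt_S5 M) (clth_act M) (clx_act M) (cltn7y461_act M) cltn8 ((cltr8k_act M).mono (by decide)) (fun _ _ => trivial) cltn8_0 cltn8_1 (List.forall_mem_nil _)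
theorem cltr8 {G Ω : Type*} [Group G] [MulAction G Ω] {g : ℕ → G} {pt : ℕ → Ω}
    (M : Md g pt Tm 13920 5 B1 161280) : Ref (gen (wds g clth_W) (topK [cltl5])) (wds g clx_W) (wds g cltn7y461_W) 1 :=
  (cltn8_t M).ref
theorem cltn7_1 : ∀ i < 4, (cltn7.ent Tm clth_P clx_P cltn6y1946_P cltr7k_P (nat_lit 5) (nat_lit 1) B1 cltl3 [cltl4, cltl5] (fun _ => nat_lit 1)) i = 0 := allZ_sound0 cltn7_1_0
theorem cltn7_t {G Ω : Type*} [Group G] [MulAction G Ω] {g : ℕ → G} {pt : ℕ → Ω}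
    (M : Md g pt Tm 13920 5 B1 161280) : TrO (gen (wds g clth_W) cltl3.K) (wds g clx_W) (wds g cltn6y1946_W) 1 pt 13920 (cltl3.Pt 0) (fun _ => nat_lit 1) :=
  node M (clt_S3 M) (clth_act M) (clx_act M) (cltn6y1946_act M) cltn7 ((cltr7k_act M).mono (by decide)) (fun _ _ => trivial) cltn7_0 cltn7_1 (List.forall_mem_cons.2 ⟨cltr8 M, List.forall_mem_nil _⟩)
theorem cltr7 {G Ω : Type*} [Group G] [MulAction G Ω] {g : ℕ → G} {pt : ℕ → Ω}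
    (M : Md g pt Tm 13920 5 B1 161280) : Ref (gen (wds g clth_W) (topK [cltl3, cltl4, cltl5])) (wds g clx_W) (wds g cltn6y1946_W) 1 :=
  (cltn7_t M).ref
theorem cltn6_1 : ∀ i < 14, (cltn6.ent Tm clth_P clx_P cltn5y12372_P cltr6k_P (nat_lit 5) (nat_lit 1) B1 cltl2 [cltl3, cltl4, cltl5] (fun _ => nat_lit 1)) i = 0 := allZ_sound0 cltn6_1_0
theorem cltn6_t {G Ω : Type*} [Group G] [MulAction G Ω] {g : ℕ → G} {pt : ℕ → Ω}
    (M : Md g pt Tm 13920 5 B1 161280) : TrO (gen (wds g clth_W) cltl2.K) (wds g clx_W) (wds g cltn5y12372_W) 1 pt 13920 (cltl2.Pt 0) (fun _ => nat_lit 1) :=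
  node M (clt_S2 M) (clth_act M) (clx_act M) (cltn5y12372_act M) cltn6 ((cltr6k_act M).mono (by decide)) (fun _ _ => trivial) cltn6_0 cltn6_1 (List.forall_mem_cons.2 ⟨cltr7 M, List.forall_mem_nil _⟩)
theorem cltr6 {G Ω : Type*} [Group G] [MulAction G Ω] {g : ℕ → G} {pt : ℕ → Ω}
    (M : Md g pt Tm 13920 5 B1 161280) : Ref (gen (wds g clth_W) (topK [cltl2, cltl3, cltl4, cltl5])) (wds g clx_W) (wds g cltn5y12372_W) 1 :=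
  (cltn6_t M).ref
theorem cltn5_1 : ∀ i < 2, (cltn5.ent Tm clth_P clx_P cltn4y5062_P cltr5k_P (nat_lit 5) (nat_lit 1) B1 cltl1 [cltl2, cltl3, cltl4, cltl5] (fun _ => nat_lit 1)) i = 0 := allZ_sound0 cltn5_1_0
theorem cltn5_t {G Ω : Type*} [Group G] [MulAction G Ω] {g : ℕ → G} {pt : ℕ → Ω}
    (M : Md g pt Tm 13920 5 B1 161280) : TrO (gen (wds g clth_W) cltl1.K) (wds g clx_W) (wds g cltn4y5062_W) 1 pt 13920 (cltl1.Pt 0) (fun _ => nat_lit 1) :=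
  node M (clt_S1 M) (clth_act M) (clx_act M) (cltn4y5062_act M) cltn5 ((cltr5k_act M).mono (by decide)) (fun _ _ => trivial) cltn5_0 cltn5_1 (List.forall_mem_cons.2 ⟨cltr6 M, List.forall_mem_nil _⟩)
theorem cltr5 {G Ω : Type*} [Group G] [MulAction G Ω] {g : ℕ → G} {pt : ℕ → Ω}
    (M : Md g pt Tm 13920 5 B1 161280) : Ref (gen (wds g clth_W) (topK [cltl1, cltl2, cltl3, cltl4, cltl5])) (wds g clx_W) (wds g cltn4y5062_W) 1 :=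
  (cltn5_t M).ref
theorem cltn4_1 : ∀ i < 240, (cltn4.ent Tm clth_P clx_P clx_P cle_P (nat_lit 5) (nat_lit 1) B1 cltl0 [cltl1, cltl2, cltl3, cltl4, cltl5] (memO clc0)) i = 0 := allZ_sound0 cltn4_1_0
theorem cltn4_t {G Ω : Type*} [Group G] [MulAction G Ω] {g : ℕ → G} {pt : ℕ → Ω}
    (M : Md g pt Tm 13920 5 B1 161280) : TrO (gen (wds g clth_W) cltl0.K) (wds g clx_W) (wds g clx_W) 1 pt 13920 (cltl0.Pt 0) (memO clc0) :=
  node M (clt_S0 M) (clth_act M) (clx_act M) (clx_act M) cltn4 ((cle_act M).mono (by decide)) (fun _ _ => trivial) cltn4_0 cltn4_1 (List.forall_mem_cons.2 ⟨cltr5 M, List.forall_mem_nil _⟩)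
theorem cl {G Ω : Type*} [Group G] [MulAction G Ω] {g : ℕ → G} {pt : ℕ → Ω}
    (M : Md g pt Tm 13920 5 B1 161280) : Cen ⊤ (wds g clx_W) 1 (wds g cle_W) pt 13920 [clc0, clc1, clc2, clc3, clc5] :=
  (clt_S0 M).top ▸ Cen.lev M (clt_S0 M) (Cen.lev M (clt_S1 M) (Cen.lev M (clt_S2 M) (Cen.lev M (clt_S3 M) (Cen.triv (clt_S4 M) (Cen.lev M (clt_S5 M) (Cen.bot) (cltn0_t M) (clx_act M) (cle_act M) (fun _ _ => trivial) clc5_ok cl_f5) (forced (clt_S4 M) (clth_act M) (clx_act M) _ _ cl_f4)) (cltn1_t M) (clx_act M) (cle_act M) (fun _ _ => trivial) clc3_ok cl_f3) (cltn2_t M) (clx_act M) (cle_act M) (fun _ _ => trivial) clc2_ok cl_f2) (cltn3_t M) (clx_act M) (cle_act M) (fun _ _ => trivial) clc1_ok cl_f1) (cltn4_t M) (clx_act M) (cle_act M) (fun _ _ => trivial) clc0_ok cl_f0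
theorem cl_card {G Ω : Type*} [Group G] [MulAction G Ω] {g : ℕ → G} {pt : ℕ → Ω}
    (M : Md g pt Tm 13920 5 B1 161280) : Nat.card (Subgroup.centralizer {(wds g clx_W) 0}) = 256 :=
  (cl M).card_cent1 M.inj cl_c.1
theorem cl_eq {G Ω : Type*} [Group G] [MulAction G Ω] {g : ℕ → G} {pt : ℕ → Ω}
    (M : Md g pt Tm 13920 5 B1 161280) : Subgroup.centralizer (gen (wds g clx_W) 1) = gen (wds g cle_W) 8 ∧ Nat.card (gen (wds g cle_W) 8) = 256 :=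
  cl_c.1 ▸ cl_c.2 ▸ ⟨(cl M).cent, (cl M).card M.inj⟩
theorem nu_act {G Ω : Type*} [Group G] [MulAction G Ω] {g : ℕ → G} {pt : ℕ → Ω} {c : ℕ}
    (M : Md g pt Tm 13920 6 B1 c) : Act (wds g nu_W) pt nu_P 13920 4 :=
  M.wact nu_lt
theorem cnx_act {G Ω : Type*} [Group G] [MulAction G Ω] {g : ℕ → G} {pt : ℕ → Ω} {c : ℕ}
    (M : Md g pt Tm 13920 5 B1 c) : Act (wds g cnx_W) pt cnx_P 13920 2 :=
  M.wact cnx_lt
theorem cnth_act {G Ω : Type*} [Group G] [MulAction G Ω] {g : ℕ → G} {pt : ℕ → Ω} {c : ℕ}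
    (M : Md g pt Tm 13920 5 B1 c) : Act (wds g cnth_W) pt cnth_P 13920 11 :=
  M.wact cnth_lt
theorem cntl0_e : ∀ i < 239, (dent cntl0 cnth_P (nat_lit 13920)) i = 0 := allZ_sound0 cntl0_e_0
theorem cntl0_ok : DOK cntl0 cnth_P 13920 := ⟨cntl0_h, cntl0_e⟩
theorem cntl1_e : ∀ i < 20, (dent cntl1 cnth_P (nat_lit 13920)) i = 0 := allZ_sound0 cntl1_e_0
theorem cntl1_ok : DOK cntl1 cnth_P 13920 := ⟨cntl1_h, cntl1_e⟩
theorem cntl2_e : ∀ i < 3, (dent cntl2 cnth_P (nat_lit 13920)) i = 0 := allZ_sound0 cntl2_e_0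
theorem cntl2_ok : DOK cntl2 cnth_P 13920 := ⟨cntl2_h, cntl2_e⟩
theorem cntl3_e : ∀ i < 1, (dent cntl3 cnth_P (nat_lit 13920)) i = 0 := allZ_sound0 cntl3_e_0
theorem cntl3_ok : DOK cntl3 cnth_P 13920 := ⟨cntl3_h, cntl3_e⟩
theorem cntl4_e : ∀ i < 3, (dent cntl4 cnth_P (nat_lit 13920)) i = 0 := allZ_sound0 cntl4_e_0
theorem cntl4_ok : DOK cntl4 cnth_P 13920 := ⟨cntl4_h, cntl4_e⟩
theorem cnt_low {G Ω : Type*} [Group G] [MulAction G Ω] {g : ℕ → G} {pt : ℕ → Ω} {c : ℕ}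
    (M : Md g pt Tm 13920 5 B1 c) : SLow (gi (wds g cnth_W)) pt 13920 [cntl0, cntl1, cntl2, cntl3, cntl4] :=
  (((((SLow.nil).cons cntl4_ok (cnth_act M) cnt_f4).cons cntl3_ok (cnth_act M) cnt_f3).cons cntl2_ok (cnth_act M) cnt_f2).cons cntl1_ok (cnth_act M) cnt_f1).cons cntl0_ok (cnth_act M) cnt_f0
theorem cnt_S0 {G Ω : Type*} [Group G] [MulAction G Ω] {g : ℕ → G} {pt : ℕ → Ω}
    (M : Md g pt Tm 13920 5 B1 161280) : Stage ⊤ (wds g cnth_W) pt 13920 [cntl0, cntl1, cntl2, cntl3, cntl4] [] :=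
  M.stage (cnt_low M) cnt_c
theorem cnt_S1 {G Ω : Type*} [Group G] [MulAction G Ω] {g : ℕ → G} {pt : ℕ → Ω}
    (M : Md g pt Tm 13920 5 B1 161280) : Stage ⊤ (wds g cnth_W) pt 13920 [cntl1, cntl2, cntl3, cntl4] [cntl0.Pt 0] :=
  (cnt_S0 M).next
theorem cnt_S2 {G Ω : Type*} [Group G] [MulAction G Ω] {g : ℕ → G} {pt : ℕ → Ω}
    (M : Md g pt Tm 13920 5 B1 161280) : Stage ⊤ (wds g cnth_W) pt 13920 [cntl2, cntl3, cntl4] [cntl1.Pt 0, cntl0.Pt 0] :=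
  (cnt_S1 M).next
theorem cnt_S3 {G Ω : Type*} [Group G] [MulAction G Ω] {g : ℕ → G} {pt : ℕ → Ω}
    (M : Md g pt Tm 13920 5 B1 161280) : Stage ⊤ (wds g cnth_W) pt 13920 [cntl3, cntl4] [cntl2.Pt 0, cntl1.Pt 0, cntl0.Pt 0] :=
  (cnt_S2 M).next
theorem cnt_S4 {G Ω : Type*} [Group G] [MulAction G Ω] {g : ℕ → G} {pt : ℕ → Ω}
    (M : Md g pt Tm 13920 5 B1 161280) : Stage ⊤ (wds g cnth_W) pt 13920 [cntl4] [cntl3.Pt 0, cntl2.Pt 0, cntl1.Pt 0, cntl0.Pt 0] :=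
  (cnt_S3 M).next
theorem cnt_S5 {G Ω : Type*} [Group G] [MulAction G Ω] {g : ℕ → G} {pt : ℕ → Ω}
    (M : Md g pt Tm 13920 5 B1 161280) : Stage ⊤ (wds g cnth_W) pt 13920 [] [cntl4.Pt 0, cntl3.Pt 0, cntl2.Pt 0, cntl1.Pt 0, cntl0.Pt 0] :=
  (cnt_S4 M).next
theorem cne_act {G Ω : Type*} [Group G] [MulAction G Ω] {g : ℕ → G} {pt : ℕ → Ω} {c : ℕ}
    (M : Md g pt Tm 13920 5 B1 c) : Act (wds g cne_W) pt cne_P 13920 5 :=
  M.wact cne_lt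
theorem cnc4_e : ∀ i < 3, (dent cnc4 cne_P (nat_lit 13920)) i = 0 := allZ_sound0 cnc4_e_0
theorem cnc4_ok : DOK cnc4 cne_P 13920 := ⟨cnc4_h, cnc4_e⟩
theorem cntn0_1 : ∀ i < 4, (cntn0.ent Tm cnth_P cnx_P cnx_P cne_P (nat_lit 5) (nat_lit 2) B1 cntl4 [] (memO cnc4)) i = 0 := allZ_sound0 cntn0_1_0
theorem cntn0_t {G Ω : Type*} [Group G] [MulAction G Ω] {g : ℕ → G} {pt : ℕ → Ω}
    (M : Md g pt Tm 13920 5 B1 161280) : TrO (gen (wds g cnth_W) cntl4.K) (wds g cnx_W) (wds g cnx_W) 2 pt 13920 (cntl4.Pt 0) (memO cnc4) :=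
  node M (cnt_S4 M) (cnth_act M) (cnx_act M) (cnx_act M) cntn0 ((cne_act M).mono (by decide)) (fun _ _ => trivial) cntn0_0 cntn0_1 (List.forall_mem_nil _)
theorem cnc2_e : ∀ i < 1, (dent cnc2 cne_P (nat_lit 13920)) i = 0 := allZ_sound0 cnc2_e_0
theorem cnc2_ok : DOK cnc2 cne_P 13920 := ⟨cnc2_h, cnc2_e⟩
theorem cntn1y1213_act {G Ω : Type*} [Group G] [MulAction G Ω] {g : ℕ → G} {pt : ℕ → Ω} {c : ℕ}
    (M : Md g pt Tm 13920 5 B1 c) : Act (wds g cntn1y1213_W) pt cntn1y1213_P 13920 2 :=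
  M.wact cntn1y1213_lt
theorem cntr2k_act {G Ω : Type*} [Group G] [MulAction G Ω] {g : ℕ → G} {pt : ℕ → Ω} {c : ℕ}
    (M : Md g pt Tm 13920 5 B1 c) : Act (wds g cntr2k_W) pt cntr2k_P 13920 2 :=
  M.wact cntr2k_lt
theorem cntn2_1 : ∀ i < 4, (cntn2.ent Tm cnth_P cnx_P cntn1y1213_P cntr2k_P (nat_lit 5) (nat_lit 2) B1 cntl4 [] (fun _ => nat_lit 1)) i = 0 := allZ_sound0 cntn2_1_0
theorem cntn2_t {G Ω : Type*} [Group G] [MulAction G Ω] {g : ℕ → G} {pt : ℕ → Ω}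
    (M : Md g pt Tm 13920 5 B1 161280) : TrO (gen (wds g cnth_W) cntl4.K) (wds g cnx_W) (wds g cntn1y1213_W) 2 pt 13920 (cntl4.Pt 0) (fun _ => nat_lit 1) :=
  node M (cnt_S4 M) (cnth_act M) (cnx_act M) (cntn1y1213_act M) cntn2 ((cntr2k_act M).mono (by decide)) (fun _ _ => trivial) cntn2_0 cntn2_1 (List.forall_mem_nil _)
theorem cntr2 {G Ω : Type*} [Group G] [MulAction G Ω] {g : ℕ → G} {pt : ℕ → Ω}
    (M : Md g pt Tm 13920 5 B1 161280) : Ref (gen (wds g cnth_W) (topK [cntl4])) (wds g cnx_W) (wds g cntn1y1213_W) 2 :=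
  (cntn2_t M).ref
theorem cntn1_1 : ∀ i < 4, (cntn1.ent Tm cnth_P cnx_P cnx_P cne_P (nat_lit 5) (nat_lit 2) B1 cntl2 [cntl3, cntl4] (memO cnc2)) i = 0 := allZ_sound0 cntn1_1_0
theorem cntn1_t {G Ω : Type*} [Group G] [MulAction G Ω] {g : ℕ → G} {pt : ℕ → Ω}
    (M : Md g pt Tm 13920 5 B1 161280) : TrO (gen (wds g cnth_W) cntl2.K) (wds g cnx_W) (wds g cnx_W) 2 pt 13920 (cntl2.Pt 0) (memO cnc2) :=
  node M (cnt_S2 M) (cnth_act M) (cnx_act M) (cnx_act M) cntn1 ((cne_act M).mono (by decide)) (fun _ _ => trivial) cntn1_0 cntn1_1 (List.forall_mem_cons.2 ⟨cntr2 M, List.forall_mem_nil _⟩)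
theorem cnc0_e : ∀ i < 7, (dent cnc0 cne_P (nat_lit 13920)) i = 0 := allZ_sound0 cnc0_e_0
theorem cnc0_ok : DOK cnc0 cne_P 13920 := ⟨cnc0_h, cnc0_e⟩
theorem cntn3y4379_act {G Ω : Type*} [Group G] [MulAction G Ω] {g : ℕ → G} {pt : ℕ → Ω} {c : ℕ}
    (M : Md g pt Tm 13920 5 B1 c) : Act (wds g cntn3y4379_W) pt cntn3y4379_P 13920 2 :=
  M.wact cntn3y4379_lt
theorem cntr4k_act {G Ω : Type*} [Group G] [MulAction G Ω] {g : ℕ → G} {pt : ℕ → Ω} {c : ℕ}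
    (M : Md g pt Tm 13920 5 B1 c) : Act (wds g cntr4k_W) pt cntr4k_P 13920 2 :=
  M.wact cntr4k_lt
theorem cntn4_1 : ∀ i < 4, (cntn4.ent Tm cnth_P cnx_P cntn3y4379_P cntr4k_P (nat_lit 5) (nat_lit 2) B1 cntl2 [cntl3, cntl4] (fun _ => nat_lit 1)) i = 0 := allZ_sound0 cntn4_1_0
theorem cntn4_t {G Ω : Type*} [Group G] [MulAction G Ω] {g : ℕ → G} {pt : ℕ → Ω}
    (M : Md g pt Tm 13920 5 B1 161280) : TrO (gen (wds g cnth_W) cntl2.K) (wds g cnx_W) (wds g cntn3y4379_W) 2 pt 13920 (cntl2.Pt 0) (fun _ => nat_lit 1) :=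
  node M (cnt_S2 M) (cnth_act M) (cnx_act M) (cntn3y4379_act M) cntn4 ((cntr4k_act M).mono (by decide)) (fun _ _ => trivial) cntn4_0 cntn4_1 (List.forall_mem_nil _)
theorem cntr4 {G Ω : Type*} [Group G] [MulAction G Ω] {g : ℕ → G} {pt : ℕ → Ω}
    (M : Md g pt Tm 13920 5 B1 161280) : Ref (gen (wds g cnth_W) (topK [cntl2, cntl3, cntl4])) (wds g cnx_W) (wds g cntn3y4379_W) 2 :=
  (cntn4_t M).ref
theorem cntn3_1 : ∀ i < 240, (cntn3.ent Tm cnth_P cnx_P cnx_P cne_P (nat_lit 5) (nat_lit 2) B1 cntl0 [cntl1, cntl2, cntl3, cntl4] (memO cnc0)) i = 0 := allZ_sound0 cntn3_1_0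
theorem cntn3_t {G Ω : Type*} [Group G] [MulAction G Ω] {g : ℕ → G} {pt : ℕ → Ω}
    (M : Md g pt Tm 13920 5 B1 161280) : TrO (gen (wds g cnth_W) cntl0.K) (wds g cnx_W) (wds g cnx_W) 2 pt 13920 (cntl0.Pt 0) (memO cnc0) :=
  node M (cnt_S0 M) (cnth_act M) (cnx_act M) (cnx_act M) cntn3 ((cne_act M).mono (by decide)) (fun _ _ => trivial) cntn3_0 cntn3_1 (List.forall_mem_cons.2 ⟨cntr4 M, List.forall_mem_nil _⟩)
theorem cn {G Ω : Type*} [Group G] [MulAction G Ω] {g : ℕ → G} {pt : ℕ → Ω}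
    (M : Md g pt Tm 13920 5 B1 161280) : Cen ⊤ (wds g cnx_W) 2 (wds g cne_W) pt 13920 [cnc0, cnc2, cnc4] :=
  (cnt_S0 M).top ▸ Cen.lev M (cnt_S0 M) (Cen.triv (cnt_S1 M) (Cen.lev M (cnt_S2 M) (Cen.triv (cnt_S3 M) (Cen.lev M (cnt_S4 M) (Cen.bot) (cntn0_t M) (cnx_act M) (cne_act M) (fun _ _ => trivial) cnc4_ok cn_f4) (forced (cnt_S3 M) (cnth_act M) (cnx_act M) _ _ cn_f3)) (cntn1_t M) (cnx_act M) (cne_act M) (fun _ _ => trivial) cnc2_ok cn_f2) (forced (cnt_S1 M) (cnth_act M) (cnx_act M) _ _ cn_f1)) (cntn3_t M) (cnx_act M) (cne_act M) (fun _ _ => trivial) cnc0_ok cn_f0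
theorem cn_eq {G Ω : Type*} [Group G] [MulAction G Ω] {g : ℕ → G} {pt : ℕ → Ω}
    (M : Md g pt Tm 13920 5 B1 161280) : Subgroup.centralizer (gen (wds g cnx_W) 2) = gen (wds g cne_W) 5 ∧ Nat.card (gen (wds g cne_W) 5) = 64 :=
  cn_c.1 ▸ cn_c.2 ▸ ⟨(cn M).cent, (cn M).card M.inj⟩
theorem en30a : ∀ k < 5, ∀ i < 64, (tupEnt cne_P en30T en30N (nat_lit 13920) (nat_lit 64) (nat_lit 3)) k i = 0 := allZ2_sound en30a_a
theorem en30b : ∀ i < 64, (enEnt cne_P en30T en30W (nat_lit 3)) i = 0 := allZ_sound0 en30b_0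
theorem cl31 : ∀ i < 64, (clEnt cne_P (wdsP Tm wW) 67 68 B1 cl31L en30W) i = 0 := range_glue (range_glue (range_glue (allZ_sound0 cl31_0) cl31_1) cl31_2) cl31_3
theorem cl31g {G Ω : Type*} [Group G] [MulAction G Ω] {pt : ℕ → Ω} {w : ℕ → G} (S : Bm G pt 13920 B1) (hw : Act w pt (wdsP Tm wW) 13920 68) {x : ℕ → G}
    (e : En x 5 en30W 64) (hx : Act x pt cne_P 13920 5) : ∀ v ∈ gen x 5,
    v = 1 ∨ v = w 6 ∨ v = w 6 * w 6 ∨ v = w 6 * w 6 * w 6 ∨ v * w 27 * w 28 = w 27 * v * w 28 * w 26 ∨ v * w 29 * w 30 = w 29 * v * w 30 * w 26 ∨ v * w 31 * w 32 = w 31 * v * w 32 * w 26 ∨ v * w 33 * w 34 = w 33 * v * w 34 * w 26 ∨ v * w 35 * w 36 = w 35 * v * w 36 * w 26 ∨ v * w 37 * w 38 = w 37 * v * w 38 * w 26 ∨ v * w 39 * w 40 = w 39 * v * w 40 * w 26 ∨ v * w 41 * w 42 = w 41 * v * w 42 * w 26 ∨ v * w 43 * w 44 = w 43 * v * w 44 * w 26 ∨ v * w 45 *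 w 46 = w 45 * v * w 46 * w 26 ∨ v * w 47 * w 42 = w 47 * v * w 42 * w 26 ∨ v * w 48 * w 49 = w 48 * v * w 49 * w 26 ∨ v * w 50 * w 51 = w 50 * v * w 51 * w 26 ∨ v * w 52 * w 53 = w 52 * v * w 53 * w 26 ∨ v * w 54 * w 28 = w 54 * v * w 28 * w 26 ∨ v * w 55 * w 56 = w 55 * v * w 56 * w 26 ∨ v * w 57 * w 58 = w 57 * v * w 58 * w 26 ∨ v * w 59 * w 60 = w 59 * v * w 60 * w 26 := S.cls e hx hw en30c.2.1 cl31
theorem le32 : ∀ i < 3, (leEnt (pk (catP (wdsP P wG) 67 (wdsP P uW)) [61, 62, 89]) (pk (catP (wdsP P wG) 67 (wdsP P uW)) [0, 82, 83]) 3 H16.TON.B le32W) i = 0 := allZ_sound0 le32_0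
theorem le34 : ∀ i < 4, (leEnt t_P nu_P 9 B1 le34W) i = 0 := allZ_sound0 le34_0
theorem co35 : ∀ i < 2, (comEnt nu_P cnx_P 4 B1 co35U co35V) i = 0 := allZ_sound0 co35_0
theorem le36 : ∀ i < 3, (leEnt (pk (catP (wdsP P wG) 67 (wdsP P uW)) [90, 91, 92]) (pk (catP (wdsP P wG) 67 (wdsP P uW)) [0, 82, 83]) 3 H16.TON.B le36W) i = 0 := allZ_sound0 le36_0
theorem en39a : ∀ k < 6, ∀ i < 64, (tupEnt t_P en39T en39N (nat_lit 13920) (nat_lit 64) (nat_lit 3)) k i = 0 := allZ2_sound en39a_a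
theorem en39b : ∀ i < 64, (enEnt t_P en39T en39W (nat_lit 3)) i = 0 := allZ_sound0 en39b_0
theorem cl40 : ∀ i < 64, (clEnt t_P t_P 10 11 B1 cl40L en39W) i = 0 := allZ_sound0 cl40_0
theorem le41 : ∀ i < 9, (leEnt (pk (catP (wdsP P wG) 67 (wdsP P uW)) [93, 94]) (wdsP (wdsP P mW) t_W) 2 H16.TON.B le41W) i = 0 := allZ_sound0 le41_0
theorem co42 : ∀ i < 2, (comEnt (pk (catP (wdsP P wG) 67 (wdsP P uW)) [93, 94]) (pk (catP (wdsP P wG) 67 (wdsP P uW)) [93, 94]) 2 H16.TON.B co42U co42V) i = 0 := allZ_sound0 co42_0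
theorem cs43 : ∀ k < 3, ∀ i < 3, (cmEnt t_P t_P B1) k i = 0 := allZ2_sound cs43_a
theorem co44 : ∀ i < 3, (comEnt t_P t_P 9 B1 co44U co44V) i = 0 := allZ_sound0 co44_0
theorem ns45 : ∀ k < 2, ∀ i < 3, (nrmEnt (wdsP (wdsP P mW) t_W) (pk (catP (wdsP P wG) 67 (wdsP P uW)) [93, 94]) (nat_lit 3) H16.TON.B ns45W) k i = 0 := allZ2_sound ns45_a
theorem cpth_act {G Ω : Type*} [Group G] [MulAction G Ω] {g : ℕ → G} {pt : ℕ → Ω} {c : ℕ}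
    (M : Md g pt Tm 13920 6 B1 c) : Act (wds g cpth_W) pt cpth_P 13920 12 :=
  M.wact cpth_lt
theorem cptl0_e : ∀ i < 479, (dent cptl0 cpth_P (nat_lit 13920)) i = 0 := allZ_sound0 cptl0_e_0
theorem cptl0_ok : DOK cptl0 cpth_P 13920 := ⟨cptl0_h, cptl0_e⟩
theorem cptl1_e : ∀ i < 55, (dent cptl1 cpth_P (nat_lit 13920)) i = 0 := allZ_sound0 cptl1_e_0
theorem cptl1_ok : DOK cptl1 cpth_P 13920 := ⟨cptl1_h, cptl1_e⟩
theorem cptl2_e : ∀ i < 5, (dent cptl2 cpth_P (nat_lit 13920)) i = 0 := allZ_sound0 cptl2_e_0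
theorem cptl2_ok : DOK cptl2 cpth_P 13920 := ⟨cptl2_h, cptl2_e⟩
theorem cptl3_e : ∀ i < 1, (dent cptl3 cpth_P (nat_lit 13920)) i = 0 := allZ_sound0 cptl3_e_0
theorem cptl3_ok : DOK cptl3 cpth_P 13920 := ⟨cptl3_h, cptl3_e⟩
theorem cpt_low {G Ω : Type*} [Group G] [MulAction G Ω] {g : ℕ → G} {pt : ℕ → Ω} {c : ℕ}
    (M : Md g pt Tm 13920 6 B1 c) : SLow (gi (wds g cpth_W)) pt 13920 [cptl0, cptl1, cptl2, cptl3] :=
  ((((SLow.nil).cons cptl3_ok (cpth_act M) cpt_f3).cons cptl2_ok (cpth_act M) cpt_f2).cons cptl1_ok (cpth_act M) cpt_f1).cons cptl0_ok (cpth_act M) cpt_f0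
theorem cpt_S0 {G Ω : Type*} [Group G] [MulAction G Ω] {g : ℕ → G} {pt : ℕ → Ω}
    (M : Md g pt Tm 13920 6 B1 322560) : Stage ⊤ (wds g cpth_W) pt 13920 [cptl0, cptl1, cptl2, cptl3] [] :=
  M.stage (cpt_low M) cpt_c
theorem cpt_S1 {G Ω : Type*} [Group G] [MulAction G Ω] {g : ℕ → G} {pt : ℕ → Ω}
    (M : Md g pt Tm 13920 6 B1 322560) : Stage ⊤ (wds g cpth_W) pt 13920 [cptl1, cptl2, cptl3] [cptl0.Pt 0] :=
  (cpt_S0 M).next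
theorem cpt_S2 {G Ω : Type*} [Group G] [MulAction G Ω] {g : ℕ → G} {pt : ℕ → Ω}
    (M : Md g pt Tm 13920 6 B1 322560) : Stage ⊤ (wds g cpth_W) pt 13920 [cptl2, cptl3] [cptl1.Pt 0, cptl0.Pt 0] :=
  (cpt_S1 M).next
theorem cpt_S3 {G Ω : Type*} [Group G] [MulAction G Ω] {g : ℕ → G} {pt : ℕ → Ω}
    (M : Md g pt Tm 13920 6 B1 322560) : Stage ⊤ (wds g cpth_W) pt 13920 [cptl3] [cptl2.Pt 0, cptl1.Pt 0, cptl0.Pt 0] :=
  (cpt_S2 M).next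
theorem cpt_S4 {G Ω : Type*} [Group G] [MulAction G Ω] {g : ℕ → G} {pt : ℕ → Ω}
    (M : Md g pt Tm 13920 6 B1 322560) : Stage ⊤ (wds g cpth_W) pt 13920 [] [cptl3.Pt 0, cptl2.Pt 0, cptl1.Pt 0, cptl0.Pt 0] :=
  (cpt_S3 M).next
theorem cpe_act {G Ω : Type*} [Group G] [MulAction G Ω] {g : ℕ → G} {pt : ℕ → Ω} {c : ℕ}
    (M : Md g pt Tm 13920 6 B1 c) : Act (wds g cpe_W) pt cpe_P 13920 4 :=
  M.wact cpe_lt
theorem cpc3_e : ∀ i < 1, (dent cpc3 cpe_P (nat_lit 13920)) i = 0 := allZ_sound0 cpc3_e_0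
theorem cpc3_ok : DOK cpc3 cpe_P 13920 := ⟨cpc3_h, cpc3_e⟩
theorem cptn0_1 : ∀ i < 2, (cptn0.ent Tm cpth_P pf_P pf_P cpe_P (nat_lit 6) (nat_lit 2) B1 cptl3 [] (memO cpc3)) i = 0 := allZ_sound0 cptn0_1_0
theorem cptn0_t {G Ω : Type*} [Group G] [MulAction G Ω] {g : ℕ → G} {pt : ℕ → Ω}
    (M : Md g pt Tm 13920 6 B1 322560) : TrO (gen (wds g cpth_W) cptl3.K) (wds g pf_W) (wds g pf_W) 2 pt 13920 (cptl3.Pt 0) (memO cpc3) :=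
  node M (cpt_S3 M) (cpth_act M) (pf_act M) (pf_act M) cptn0 ((cpe_act M).mono (by decide)) (fun _ _ => trivial) cptn0_0 cptn0_1 (List.forall_mem_nil _)
theorem cpc2_e : ∀ i < 5, (dent cpc2 cpe_P (nat_lit 13920)) i = 0 := allZ_sound0 cpc2_e_0
theorem cpc2_ok : DOK cpc2 cpe_P 13920 := ⟨cpc2_h, cpc2_e⟩
theorem cptn1_1 : ∀ i < 6, (cptn1.ent Tm cpth_P pf_P pf_P cpe_P (nat_lit 6) (nat_lit 2) B1 cptl2 [cptl3] (memO cpc2)) i = 0 := allZ_sound0 cptn1_1_0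
theorem cptn1_t {G Ω : Type*} [Group G] [MulAction G Ω] {g : ℕ → G} {pt : ℕ → Ω}
    (M : Md g pt Tm 13920 6 B1 322560) : TrO (gen (wds g cpth_W) cptl2.K) (wds g pf_W) (wds g pf_W) 2 pt 13920 (cptl2.Pt 0) (memO cpc2) :=
  node M (cpt_S2 M) (cpth_act M) (pf_act M) (pf_act M) cptn1 ((cpe_act M).mono (by decide)) (fun _ _ => trivial) cptn1_0 cptn1_1 (List.forall_mem_nil _)
theorem cpc0_e : ∀ i < 5, (dent cpc0 cpe_P (nat_lit 13920)) i = 0 := allZ_sound0 cpc0_e_0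
theorem cpc0_ok : DOK cpc0 cpe_P 13920 := ⟨cpc0_h, cpc0_e⟩
theorem cptn2y8002_act {G Ω : Type*} [Group G] [MulAction G Ω] {g : ℕ → G} {pt : ℕ → Ω} {c : ℕ}
    (M : Md g pt Tm 13920 6 B1 c) : Act (wds g cptn2y8002_W) pt cptn2y8002_P 13920 2 :=
  M.wact cptn2y8002_lt
theorem cptr3k_act {G Ω : Type*} [Group G] [MulAction G Ω] {g : ℕ → G} {pt : ℕ → Ω} {c : ℕ}
    (M : Md g pt Tm 13920 6 B1 c) : Act (wds g cptr3k_W) pt cptr3k_P 13920 2 :=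
  M.wact cptr3k_lt
theorem cptn3_1 : ∀ i < 6, (cptn3.ent Tm cpth_P pf_P cptn2y8002_P cptr3k_P (nat_lit 6) (nat_lit 2) B1 cptl2 [cptl3] (fun _ => nat_lit 1)) i = 0 := allZ_sound0 cptn3_1_0
theorem cptn3_t {G Ω : Type*} [Group G] [MulAction G Ω] {g : ℕ → G} {pt : ℕ → Ω}
    (M : Md g pt Tm 13920 6 B1 322560) : TrO (gen (wds g cpth_W) cptl2.K) (wds g pf_W) (wds g cptn2y8002_W) 2 pt 13920 (cptl2.Pt 0) (fun _ => nat_lit 1) :=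
  node M (cpt_S2 M) (cpth_act M) (pf_act M) (cptn2y8002_act M) cptn3 ((cptr3k_act M).mono (by decide)) (fun _ _ => trivial) cptn3_0 cptn3_1 (List.forall_mem_nil _)
theorem cptr3 {G Ω : Type*} [Group G] [MulAction G Ω] {g : ℕ → G} {pt : ℕ → Ω}
    (M : Md g pt Tm 13920 6 B1 322560) : Ref (gen (wds g cpth_W) (topK [cptl2, cptl3])) (wds g pf_W) (wds g cptn2y8002_W) 2 :=
  (cptn3_t M).ref
theorem cptn2_1 : ∀ i < 480, (cptn2.ent Tm cpth_P pf_P pf_P cpe_P (nat_lit 6) (nat_lit 2) B1 cptl0 [cptl1, cptl2, cptl3] (memO cpc0)) i = 0 := allZ_sound0 cptn2_1_0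
theorem cptn2_t {G Ω : Type*} [Group G] [MulAction G Ω] {g : ℕ → G} {pt : ℕ → Ω}
    (M : Md g pt Tm 13920 6 B1 322560) : TrO (gen (wds g cpth_W) cptl0.K) (wds g pf_W) (wds g pf_W) 2 pt 13920 (cptl0.Pt 0) (memO cpc0) :=
  node M (cpt_S0 M) (cpth_act M) (pf_act M) (pf_act M) cptn2 ((cpe_act M).mono (by decide)) (fun _ _ => trivial) cptn2_0 cptn2_1 (List.forall_mem_cons.2 ⟨cptr3 M, List.forall_mem_nil _⟩)
theorem cp {G Ω : Type*} [Group G] [MulAction G Ω] {g : ℕ → G} {pt : ℕ → Ω}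
    (M : Md g pt Tm 13920 6 B1 322560) : Cen ⊤ (wds g pf_W) 2 (wds g cpe_W) pt 13920 [cpc0, cpc2, cpc3] :=
  (cpt_S0 M).top ▸ Cen.lev M (cpt_S0 M) (Cen.triv (cpt_S1 M) (Cen.lev M (cpt_S2 M) (Cen.lev M (cpt_S3 M) (Cen.bot) (cptn0_t M) (pf_act M) (cpe_act M) (fun _ _ => trivial) cpc3_ok cp_f3) (cptn1_t M) (pf_act M) (cpe_act M) (fun _ _ => trivial) cpc2_ok cp_f2) (forced (cpt_S1 M) (cpth_act M) (pf_act M) _ _ cp_f1)) (cptn2_t M) (pf_act M) (cpe_act M) (fun _ _ => trivial) cpc0_ok cp_f0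
theorem cp_eq {G Ω : Type*} [Group G] [MulAction G Ω] {g : ℕ → G} {pt : ℕ → Ω}
    (M : Md g pt Tm 13920 6 B1 322560) : Subgroup.centralizer (gen (wds g pf_W) 2) = gen (wds g cpe_W) 4 ∧ Nat.card (gen (wds g cpe_W) 4) = 72 :=
  cp_c.1 ▸ cp_c.2 ▸ ⟨(cp M).cent, (cp M).card M.inj⟩
theorem cpe_q_0 : ∀ i < 13920, (matEnt cpe_P cpe_Q (nat_lit 0)) i = 0 := range_glue (allZ_sound0 cpe_q_0_0) cpe_q_0_1
theorem cpe_q_1 : ∀ i < 13920, (matEnt cpe_P cpe_Q (nat_lit 1)) i = 0 := allZ_sound0 cpe_q_1_0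
theorem cpe_q_2 : ∀ i < 13920, (matEnt cpe_P cpe_Q (nat_lit 2)) i = 0 := range_glue (range_glue (allZ_sound0 cpe_q_2_0) cpe_q_2_1) cpe_q_2_2
theorem cpe_q_3 : ∀ i < 13920, (matEnt cpe_P cpe_Q (nat_lit 3)) i = 0 := range_glue (allZ_sound0 cpe_q_3_0) cpe_q_3_1
theorem cpe_q : ∀ k < 4, ∀ i < 13920, (matEnt cpe_P cpe_Q) k i = 0 :=
  letters_glue (letters_glue (letters_glue (letters_glue (letters_nil) cpe_q_0) cpe_q_1) cpe_q_2) cpe_q_3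
theorem en46a : ∀ k < 4, ∀ i < 72, (tupEnt cpe_Q en46T en46N (nat_lit 13920) (nat_lit 72) (nat_lit 3)) k i = 0 := allZ2_sound en46a_a
theorem en46b : ∀ i < 72, (enEnt cpe_Q en46T en46W (nat_lit 3)) i = 0 := allZ_sound0 en46b_0
theorem cl47 : ∀ i < 72, (clEnt cpe_Q (wdsP Tm wW) 67 68 B1 cl47L en46W) i = 0 := allZ_sound0 cl47_0
theorem cl47g {G Ω : Type*} [Group G] [MulAction G Ω] {pt : ℕ → Ω} {w : ℕ → G} (S : Bm G pt 13920 B1) (hw : Act w pt (wdsP Tm wW) 13920 68) {x : ℕ → G}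
    (e : En x 4 en46W 72) (hx : Act x pt cpe_Q 13920 4) : ∀ v ∈ gen x 4,
    v * v ≠ 1 ∨ v = 1 ∨ v = w 0 ∨ v = w 1 ∨ v = w 0 * w 1 ∨ v = w 2 ∨ v = w 0 * w 2 := S.cls e hx hw en46c.2.1 cl47
theorem cle_q_0 : ∀ i < 13920, (matEnt cle_P cle_Q (nat_lit 0)) i = 0 := range_glue (allZ_sound0 cle_q_0_0) cle_q_0_1
theorem cle_q_1 : ∀ i < 13920, (matEnt cle_P cle_Q (nat_lit 1)) i = 0 := allZ_sound0 cle_q_1_0
theorem cle_q_2 : ∀ i < 13920, (matEnt cle_P cle_Q (nat_lit 2)) i = 0 := range_glue (allZ_sound0 cle_q_2_0) cle_q_2_1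
theorem cle_q_3 : ∀ i < 13920, (matEnt cle_P cle_Q (nat_lit 3)) i = 0 := range_glue (allZ_sound0 cle_q_3_0) cle_q_3_1
theorem cle_q_4 : ∀ i < 13920, (matEnt cle_P cle_Q (nat_lit 4)) i = 0 := range_glue (range_glue (allZ_sound0 cle_q_4_0) cle_q_4_1) cle_q_4_2
theorem cle_q_5 : ∀ i < 13920, (matEnt cle_P cle_Q (nat_lit 5)) i = 0 := range_glue (allZ_sound0 cle_q_5_0) cle_q_5_1
theorem cle_q_6 : ∀ i < 13920, (matEnt cle_P cle_Q (nat_lit 6)) i = 0 := range_glue (range_glue (allZ_sound0 cle_q_6_0) cle_q_6_1) cle_q_6_2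
theorem cle_q_7 : ∀ i < 13920, (matEnt cle_P cle_Q (nat_lit 7)) i = 0 := range_glue (range_glue (allZ_sound0 cle_q_7_0) cle_q_7_1) cle_q_7_2
theorem cle_q : ∀ k < 8, ∀ i < 13920, (matEnt cle_P cle_Q) k i = 0 :=
  letters_glue (letters_glue (letters_glue (letters_glue (letters_glue (letters_glue (letters_glue (letters_glue (letters_nil) cle_q_0) cle_q_1) cle_q_2) cle_q_3) cle_q_4) cle_q_5) cle_q_6) cle_q_7
theorem en48a : ∀ k < 8, ∀ i < 256, (tupEnt cle_Q en48T en48N (nat_lit 13920) (nat_lit 256) (nat_lit 3)) k i = 0 := allZ2_sound en48a_a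
theorem en48b : ∀ i < 256, (enEnt cle_Q en48T en48W (nat_lit 3)) i = 0 := allZ_sound0 en48b_0
theorem cl49 : ∀ i < 256, (clEnt cle_Q (pk (wdsP Tm wW) [10, 11, 9, 6, 63, 63, 0, 1]) 4 8 B1 cl49L en48W) i = 0 := allZ_sound0 cl49_0
theorem cyx_act {G Ω : Type*} [Group G] [MulAction G Ω] {g : ℕ → G} {pt : ℕ → Ω} {c : ℕ}
    (M : Md g pt Tm 13920 6 B1 c) : Act (wds g cyx_W) pt cyx_P 13920 3 :=
  M.wact cyx_lt
theorem cyth_act {G Ω : Type*} [Group G] [MulAction G Ω] {g : ℕ → G} {pt : ℕ → Ω} {c : ℕ}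
    (M : Md g pt Tm 13920 6 B1 c) : Act (wds g cyth_W) pt cyth_P 13920 12 :=
  M.wact cyth_lt
theorem cytl0_e : ∀ i < 479, (dent cytl0 cyth_P (nat_lit 13920)) i = 0 := allZ_sound0 cytl0_e_0
theorem cytl0_ok : DOK cytl0 cyth_P 13920 := ⟨cytl0_h, cytl0_e⟩
theorem cytl1_e : ∀ i < 55, (dent cytl1 cyth_P (nat_lit 13920)) i = 0 := allZ_sound0 cytl1_e_0
theorem cytl1_ok : DOK cytl1 cyth_P 13920 := ⟨cytl1_h, cytl1_e⟩
theorem cytl2_e : ∀ i < 11, (dent cytl2 cyth_P (nat_lit 13920)) i = 0 := allZ_sound0 cytl2_e_0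
theorem cytl2_ok : DOK cytl2 cyth_P 13920 := ⟨cytl2_h, cytl2_e⟩
theorem cyt_low {G Ω : Type*} [Group G] [MulAction G Ω] {g : ℕ → G} {pt : ℕ → Ω} {c : ℕ}
    (M : Md g pt Tm 13920 6 B1 c) : SLow (gi (wds g cyth_W)) pt 13920 [cytl0, cytl1, cytl2] :=
  (((SLow.nil).cons cytl2_ok (cyth_act M) cyt_f2).cons cytl1_ok (cyth_act M) cyt_f1).cons cytl0_ok (cyth_act M) cyt_f0
theorem cyt_S0 {G Ω : Type*} [Group G] [MulAction G Ω] {g : ℕ → G} {pt : ℕ → Ω}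
    (M : Md g pt Tm 13920 6 B1 322560) : Stage ⊤ (wds g cyth_W) pt 13920 [cytl0, cytl1, cytl2] [] :=
  M.stage (cyt_low M) cyt_c
theorem cyt_S1 {G Ω : Type*} [Group G] [MulAction G Ω] {g : ℕ → G} {pt : ℕ → Ω}
    (M : Md g pt Tm 13920 6 B1 322560) : Stage ⊤ (wds g cyth_W) pt 13920 [cytl1, cytl2] [cytl0.Pt 0] :=
  (cyt_S0 M).next
theorem cyt_S2 {G Ω : Type*} [Group G] [MulAction G Ω] {g : ℕ → G} {pt : ℕ → Ω}
    (M : Md g pt Tm 13920 6 B1 322560) : Stage ⊤ (wds g cyth_W) pt 13920 [cytl2] [cytl1.Pt 0, cytl0.Pt 0] :=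
  (cyt_S1 M).next
theorem cyt_S3 {G Ω : Type*} [Group G] [MulAction G Ω] {g : ℕ → G} {pt : ℕ → Ω}
    (M : Md g pt Tm 13920 6 B1 322560) : Stage ⊤ (wds g cyth_W) pt 13920 [] [cytl2.Pt 0, cytl1.Pt 0, cytl0.Pt 0] :=
  (cyt_S2 M).next
theorem cye_act {G Ω : Type*} [Group G] [MulAction G Ω] {g : ℕ → G} {pt : ℕ → Ω} {c : ℕ}
    (M : Md g pt Tm 13920 6 B1 c) : Act (wds g cye_W) pt cye_P 13920 3 :=
  M.wact cye_lt
theorem cyc2_e : ∀ i < 5, (dent cyc2 cye_P (nat_lit 13920)) i = 0 := allZ_sound0 cyc2_e_0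
theorem cyc2_ok : DOK cyc2 cye_P 13920 := ⟨cyc2_h, cyc2_e⟩
theorem cytn0_1 : ∀ i < 12, (cytn0.ent Tm cyth_P cyx_P cyx_P cye_P (nat_lit 6) (nat_lit 3) B1 cytl2 [] (memO cyc2)) i = 0 := allZ_sound0 cytn0_1_0
theorem cytn0_t {G Ω : Type*} [Group G] [MulAction G Ω] {g : ℕ → G} {pt : ℕ → Ω}
    (M : Md g pt Tm 13920 6 B1 322560) : TrO (gen (wds g cyth_W) cytl2.K) (wds g cyx_W) (wds g cyx_W) 3 pt 13920 (cytl2.Pt 0) (memO cyc2) :=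
  node M (cyt_S2 M) (cyth_act M) (cyx_act M) (cyx_act M) cytn0 ((cye_act M).mono (by decide)) (fun _ _ => trivial) cytn0_0 cytn0_1 (List.forall_mem_nil _)
theorem cyc0_e : ∀ i < 5, (dent cyc0 cye_P (nat_lit 13920)) i = 0 := allZ_sound0 cyc0_e_0
theorem cyc0_ok : DOK cyc0 cye_P 13920 := ⟨cyc0_h, cyc0_e⟩
theorem cytn1y8002_act {G Ω : Type*} [Group G] [MulAction G Ω] {g : ℕ → G} {pt : ℕ → Ω} {c : ℕ}
    (M : Md g pt Tm 13920 6 B1 c) : Act (wds g cytn1y8002_W) pt cytn1y8002_P 13920 3 :=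
  M.wact cytn1y8002_lt
theorem cytr2k_act {G Ω : Type*} [Group G] [MulAction G Ω] {g : ℕ → G} {pt : ℕ → Ω} {c : ℕ}
    (M : Md g pt Tm 13920 6 B1 c) : Act (wds g cytr2k_W) pt cytr2k_P 13920 2 :=
  M.wact cytr2k_lt
theorem cytn2_1 : ∀ i < 12, (cytn2.ent Tm cyth_P cyx_P cytn1y8002_P cytr2k_P (nat_lit 6) (nat_lit 3) B1 cytl2 [] (fun _ => nat_lit 1)) i = 0 := allZ_sound0 cytn2_1_0
theorem cytn2_t {G Ω : Type*} [Group G] [MulAction G Ω] {g : ℕ → G} {pt : ℕ → Ω}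
    (M : Md g pt Tm 13920 6 B1 322560) : TrO (gen (wds g cyth_W) cytl2.K) (wds g cyx_W) (wds g cytn1y8002_W) 3 pt 13920 (cytl2.Pt 0) (fun _ => nat_lit 1) :=
  node M (cyt_S2 M) (cyth_act M) (cyx_act M) (cytn1y8002_act M) cytn2 ((cytr2k_act M).mono (by decide)) (fun _ _ => trivial) cytn2_0 cytn2_1 (List.forall_mem_nil _)
theorem cytr2 {G Ω : Type*} [Group G] [MulAction G Ω] {g : ℕ → G} {pt : ℕ → Ω}
    (M : Md g pt Tm 13920 6 B1 322560) : Ref (gen (wds g cyth_W) (topK [cytl2])) (wds g cyx_W) (wds g cytn1y8002_W) 3 :=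
  (cytn2_t M).ref
theorem cytn1_1 : ∀ i < 480, (cytn1.ent Tm cyth_P cyx_P cyx_P cye_P (nat_lit 6) (nat_lit 3) B1 cytl0 [cytl1, cytl2] (memO cyc0)) i = 0 := allZ_sound0 cytn1_1_0
theorem cytn1_t {G Ω : Type*} [Group G] [MulAction G Ω] {g : ℕ → G} {pt : ℕ → Ω}
    (M : Md g pt Tm 13920 6 B1 322560) : TrO (gen (wds g cyth_W) cytl0.K) (wds g cyx_W) (wds g cyx_W) 3 pt 13920 (cytl0.Pt 0) (memO cyc0) :=
  node M (cyt_S0 M) (cyth_act M) (cyx_act M) (cyx_act M) cytn1 ((cye_act M).mono (by decide)) (fun _ _ => trivial) cytn1_0 cytn1_1 (List.forall_mem_cons.2 ⟨cytr2 M, List.forall_mem_nil _⟩)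
theorem cy {G Ω : Type*} [Group G] [MulAction G Ω] {g : ℕ → G} {pt : ℕ → Ω}
    (M : Md g pt Tm 13920 6 B1 322560) : Cen ⊤ (wds g cyx_W) 3 (wds g cye_W) pt 13920 [cyc0, cyc2] :=
  (cyt_S0 M).top ▸ Cen.lev M (cyt_S0 M) (Cen.triv (cyt_S1 M) (Cen.lev M (cyt_S2 M) (Cen.bot) (cytn0_t M) (cyx_act M) (cye_act M) (fun _ _ => trivial) cyc2_ok cy_f2) (forced (cyt_S1 M) (cyth_act M) (cyx_act M) _ _ cy_f1)) (cytn1_t M) (cyx_act M) (cye_act M) (fun _ _ => trivial) cyc0_ok cy_f0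
theorem cy_eq {G Ω : Type*} [Group G] [MulAction G Ω] {g : ℕ → G} {pt : ℕ → Ω}
    (M : Md g pt Tm 13920 6 B1 322560) : Subgroup.centralizer (gen (wds g cyx_W) 3) = gen (wds g cye_W) 3 ∧ Nat.card (gen (wds g cye_W) 3) = 36 :=
  cy_c.1 ▸ cy_c.2 ▸ ⟨(cy M).cent, (cy M).card M.inj⟩
theorem le53 : ∀ i < 3, (leEnt (pk (wdsP Tm wW) [10, 11, 6]) cye_P 3 B1 le53W) i = 0 := allZ_sound0 le53_0
theorem le54 : ∀ i < 4, (leEnt (pk (wdsP Tm wW) [10, 11, 9, 6, 63, 63, 0, 1]) Tm 5 B1 le54W) i = 0 := allZ_sound0 le54_0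
theorem cvx_act {G Ω : Type*} [Group G] [MulAction G Ω] {g : ℕ → G} {pt : ℕ → Ω} {c : ℕ}
    (M : Md g pt Tm 13920 6 B1 c) : Act (wds g cvx_W) pt cvx_P 13920 3 :=
  M.wact cvx_lt
theorem cvth_act {G Ω : Type*} [Group G] [MulAction G Ω] {g : ℕ → G} {pt : ℕ → Ω} {c : ℕ}
    (M : Md g pt Tm 13920 6 B1 c) : Act (wds g cvth_W) pt cvth_P 13920 12 :=
  M.wact cvth_lt
theorem cvtl0_e : ∀ i < 479, (dent cvtl0 cvth_P (nat_lit 13920)) i = 0 := allZ_sound0 cvtl0_e_0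
theorem cvtl0_ok : DOK cvtl0 cvth_P 13920 := ⟨cvtl0_h, cvtl0_e⟩
theorem cvtl1_e : ∀ i < 55, (dent cvtl1 cvth_P (nat_lit 13920)) i = 0 := allZ_sound0 cvtl1_e_0
theorem cvtl1_ok : DOK cvtl1 cvth_P 13920 := ⟨cvtl1_h, cvtl1_e⟩
theorem cvtl2_e : ∀ i < 5, (dent cvtl2 cvth_P (nat_lit 13920)) i = 0 := allZ_sound0 cvtl2_e_0
theorem cvtl2_ok : DOK cvtl2 cvth_P 13920 := ⟨cvtl2_h, cvtl2_e⟩
theorem cvtl3_e : ∀ i < 1, (dent cvtl3 cvth_P (nat_lit 13920)) i = 0 := allZ_sound0 cvtl3_e_0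
theorem cvtl3_ok : DOK cvtl3 cvth_P 13920 := ⟨cvtl3_h, cvtl3_e⟩
theorem cvt_low {G Ω : Type*} [Group G] [MulAction G Ω] {g : ℕ → G} {pt : ℕ → Ω} {c : ℕ}
    (M : Md g pt Tm 13920 6 B1 c) : SLow (gi (wds g cvth_W)) pt 13920 [cvtl0, cvtl1, cvtl2, cvtl3] :=
  ((((SLow.nil).cons cvtl3_ok (cvth_act M) cvt_f3).cons cvtl2_ok (cvth_act M) cvt_f2).cons cvtl1_ok (cvth_act M) cvt_f1).cons cvtl0_ok (cvth_act M) cvt_f0
theorem cvt_S0 {G Ω : Type*} [Group G] [MulAction G Ω] {g : ℕ → G} {pt : ℕ → Ω}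
    (M : Md g pt Tm 13920 6 B1 322560) : Stage ⊤ (wds g cvth_W) pt 13920 [cvtl0, cvtl1, cvtl2, cvtl3] [] :=
  M.stage (cvt_low M) cvt_c
theorem cvt_S1 {G Ω : Type*} [Group G] [MulAction G Ω] {g : ℕ → G} {pt : ℕ → Ω}
    (M : Md g pt Tm 13920 6 B1 322560) : Stage ⊤ (wds g cvth_W) pt 13920 [cvtl1, cvtl2, cvtl3] [cvtl0.Pt 0] :=
  (cvt_S0 M).next
theorem cvt_S2 {G Ω : Type*} [Group G] [MulAction G Ω] {g : ℕ → G} {pt : ℕ → Ω}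
    (M : Md g pt Tm 13920 6 B1 322560) : Stage ⊤ (wds g cvth_W) pt 13920 [cvtl2, cvtl3] [cvtl1.Pt 0, cvtl0.Pt 0] :=
  (cvt_S1 M).next
theorem cvt_S3 {G Ω : Type*} [Group G] [MulAction G Ω] {g : ℕ → G} {pt : ℕ → Ω}
    (M : Md g pt Tm 13920 6 B1 322560) : Stage ⊤ (wds g cvth_W) pt 13920 [cvtl3] [cvtl2.Pt 0, cvtl1.Pt 0, cvtl0.Pt 0] :=
  (cvt_S2 M).next
theorem cvt_S4 {G Ω : Type*} [Group G] [MulAction G Ω] {g : ℕ → G} {pt : ℕ → Ω}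
    (M : Md g pt Tm 13920 6 B1 322560) : Stage ⊤ (wds g cvth_W) pt 13920 [] [cvtl3.Pt 0, cvtl2.Pt 0, cvtl1.Pt 0, cvtl0.Pt 0] :=
  (cvt_S3 M).next
theorem cve_act {G Ω : Type*} [Group G] [MulAction G Ω] {g : ℕ → G} {pt : ℕ → Ω} {c : ℕ}
    (M : Md g pt Tm 13920 6 B1 c) : Act (wds g cve_W) pt cve_P 13920 4 :=
  M.wact cve_lt
theorem cvc3_e : ∀ i < 1, (dent cvc3 cve_P (nat_lit 13920)) i = 0 := allZ_sound0 cvc3_e_0
theorem cvc3_ok : DOK cvc3 cve_P 13920 := ⟨cvc3_h, cvc3_e⟩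
theorem cvtn0_1 : ∀ i < 2, (cvtn0.ent Tm cvth_P cvx_P cvx_P cve_P (nat_lit 6) (nat_lit 3) B1 cvtl3 [] (memO cvc3)) i = 0 := allZ_sound0 cvtn0_1_0
theorem cvtn0_t {G Ω : Type*} [Group G] [MulAction G Ω] {g : ℕ → G} {pt : ℕ → Ω}
    (M : Md g pt Tm 13920 6 B1 322560) : TrO (gen (wds g cvth_W) cvtl3.K) (wds g cvx_W) (wds g cvx_W) 3 pt 13920 (cvtl3.Pt 0) (memO cvc3) :=
  node M (cvt_S3 M) (cvth_act M) (cvx_act M) (cvx_act M) cvtn0 ((cve_act M).mono (by decide)) (fun _ _ => trivial) cvtn0_0 cvtn0_1 (List.forall_mem_nil _)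
theorem cvc2_e : ∀ i < 2, (dent cvc2 cve_P (nat_lit 13920)) i = 0 := allZ_sound0 cvc2_e_0
theorem cvc2_ok : DOK cvc2 cve_P 13920 := ⟨cvc2_h, cvc2_e⟩
theorem cvtn1y4826_act {G Ω : Type*} [Group G] [MulAction G Ω] {g : ℕ → G} {pt : ℕ → Ω} {c : ℕ}
    (M : Md g pt Tm 13920 6 B1 c) : Act (wds g cvtn1y4826_W) pt cvtn1y4826_P 13920 3 :=
  M.wact cvtn1y4826_lt
theorem cvtr2k_act {G Ω : Type*} [Group G] [MulAction G Ω] {g : ℕ → G} {pt : ℕ → Ω} {c : ℕ}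
    (M : Md g pt Tm 13920 6 B1 c) : Act (wds g cvtr2k_W) pt cvtr2k_P 13920 2 :=
  M.wact cvtr2k_lt
theorem cvtn2_1 : ∀ i < 2, (cvtn2.ent Tm cvth_P cvx_P cvtn1y4826_P cvtr2k_P (nat_lit 6) (nat_lit 3) B1 cvtl3 [] (fun _ => nat_lit 1)) i = 0 := allZ_sound0 cvtn2_1_0
theorem cvtn2_t {G Ω : Type*} [Group G] [MulAction G Ω] {g : ℕ → G} {pt : ℕ → Ω}
    (M : Md g pt Tm 13920 6 B1 322560) : TrO (gen (wds g cvth_W) cvtl3.K) (wds g cvx_W) (wds g cvtn1y4826_W) 3 pt 13920 (cvtl3.Pt 0) (fun _ => nat_lit 1) :=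
  node M (cvt_S3 M) (cvth_act M) (cvx_act M) (cvtn1y4826_act M) cvtn2 ((cvtr2k_act M).mono (by decide)) (fun _ _ => trivial) cvtn2_0 cvtn2_1 (List.forall_mem_nil _)
theorem cvtr2 {G Ω : Type*} [Group G] [MulAction G Ω] {g : ℕ → G} {pt : ℕ → Ω}
    (M : Md g pt Tm 13920 6 B1 322560) : Ref (gen (wds g cvth_W) (topK [cvtl3])) (wds g cvx_W) (wds g cvtn1y4826_W) 3 :=
  (cvtn2_t M).ref
theorem cvtn1_1 : ∀ i < 6, (cvtn1.ent Tm cvth_P cvx_P cvx_P cve_P (nat_lit 6) (nat_lit 3) B1 cvtl2 [cvtl3] (memO cvc2)) i = 0 := allZ_sound0 cvtn1_1_0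
theorem cvtn1_t {G Ω : Type*} [Group G] [MulAction G Ω] {g : ℕ → G} {pt : ℕ → Ω}
    (M : Md g pt Tm 13920 6 B1 322560) : TrO (gen (wds g cvth_W) cvtl2.K) (wds g cvx_W) (wds g cvx_W) 3 pt 13920 (cvtl2.Pt 0) (memO cvc2) :=
  node M (cvt_S2 M) (cvth_act M) (cvx_act M) (cvx_act M) cvtn1 ((cve_act M).mono (by decide)) (fun _ _ => trivial) cvtn1_0 cvtn1_1 (List.forall_mem_cons.2 ⟨cvtr2 M, List.forall_mem_nil _⟩)
theorem cvc0_e : ∀ i < 5, (dent cvc0 cve_P (nat_lit 13920)) i = 0 := allZ_sound0 cvc0_e_0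
theorem cvc0_ok : DOK cvc0 cve_P 13920 := ⟨cvc0_h, cvc0_e⟩
theorem cvtn3_1 : ∀ i < 480, (cvtn3.ent Tm cvth_P cvx_P cvx_P cve_P (nat_lit 6) (nat_lit 3) B1 cvtl0 [cvtl1, cvtl2, cvtl3] (memO cvc0)) i = 0 := allZ_sound0 cvtn3_1_0
theorem cvtn3_t {G Ω : Type*} [Group G] [MulAction G Ω] {g : ℕ → G} {pt : ℕ → Ω}
    (M : Md g pt Tm 13920 6 B1 322560) : TrO (gen (wds g cvth_W) cvtl0.K) (wds g cvx_W) (wds g cvx_W) 3 pt 13920 (cvtl0.Pt 0) (memO cvc0) :=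
  node M (cvt_S0 M) (cvth_act M) (cvx_act M) (cvx_act M) cvtn3 ((cve_act M).mono (by decide)) (fun _ _ => trivial) cvtn3_0 cvtn3_1 (List.forall_mem_nil _)
theorem cv {G Ω : Type*} [Group G] [MulAction G Ω] {g : ℕ → G} {pt : ℕ → Ω}
    (M : Md g pt Tm 13920 6 B1 322560) : Cen ⊤ (wds g cvx_W) 3 (wds g cve_W) pt 13920 [cvc0, cvc2, cvc3] :=
  (cvt_S0 M).top ▸ Cen.lev M (cvt_S0 M) (Cen.triv (cvt_S1 M) (Cen.lev M (cvt_S2 M) (Cen.lev M (cvt_S3 M) (Cen.bot) (cvtn0_t M) (cvx_act M) (cve_act M) (fun _ _ => trivial) cvc3_ok cv_f3) (cvtn1_t M) (cvx_act M) (cve_act M) (fun _ _ => trivial) cvc2_ok cv_f2) (forced (cvt_S1 M) (cvth_act M) (cvx_act M) _ _ cv_f1)) (cvtn3_t M) (cvx_act M) (cve_act M) (fun _ _ => trivial) cvc0_ok cv_f0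
theorem cv_eq {G Ω : Type*} [Group G] [MulAction G Ω] {g : ℕ → G} {pt : ℕ → Ω}
    (M : Md g pt Tm 13920 6 B1 322560) : Subgroup.centralizer (gen (wds g cvx_W) 3) = gen (wds g cve_W) 4 ∧ Nat.card (gen (wds g cve_W) 4) = 36 :=
  cv_c.1 ▸ cv_c.2 ▸ ⟨(cv M).cent, (cv M).card M.inj⟩
theorem cs56 : ∀ k < 2, ∀ i < 2, (cmEnt pf_P pf_P B1) k i = 0 := allZ2_sound cs56_a
theorem le58 : ∀ i < 4, (leEnt (pk (wdsP Tm wW) [0, 1, 10, 11]) cve_P 4 B1 le58W) i = 0 := allZ_sound0 le58_0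
theorem rL0g {G Ω : Type*} [Group G] [MulAction G Ω] {pt : ℕ → Ω} {w : ℕ → G} (S : Bm G pt 13920 B1) (hw : Act w pt (wdsP Tm wW) 13920 68) :
    w 3 * w 3 * w 3 = 1 ∧ w 3 ≠ 1 ∧ w 4 * w 4 * w 4 * w 4 * w 4 = 1 ∧ w 4 ≠ 1 ∧ w 5 * w 5 * w 5 * w 5 * w 5 * w 5 * w 5 = 1 ∧ w 5 ≠ 1 ∧ w 66 * w 66 = 1 ∧ w 0 * w 0 = 1 ∧ w 0 ≠ 1 ∧ w 1 * w 1 = 1 ∧ w 9 * w 0 = w 0 * w 9 ∧ w 15 * w 0 = w 0 * w 15 ∧ w 1 * w 0 = w 0 * w 1 ∧ w 16 * w 0 = w 0 * w 16 ∧ w 16 * w 1 = w 1 * w 16 ∧ w 0 * w 1 = w 12 ∧ True := S.rl hw rL0k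
theorem rL1g {G Ω : Type*} [Group G] [MulAction G Ω] {pt : ℕ → Ω} {w : ℕ → G} (S : Bm G pt 13920 B1) (hw : Act w pt (wdsP Tm wW) 13920 68) :
    w 17 * w 0 = w 0 * w 17 ∧ w 17 * w 9 = w 16 * w 17 ∧ w 2 * w 18 = w 19 ∧ w 20 * w 21 * w 20 = w 22 ∧ w 66 * w 0 = w 0 * w 66 ∧ w 66 * w 66 = w 66 * w 66 ∧ w 9 * w 9 = 1 ∧ w 23 * w 9 = w 25 * w 23 ∧ w 24 * w 9 = w 9 * w 25 * w 24 ∧ w 26 * w 26 = 1 ∧ w 26 ≠ 1 ∧ w 6 * w 6 = w 0 ∧ w 1 * w 2 ≠ w 2 * w 1 ∧ w 2 * w 2 = 1 ∧ w 1 * w 9 = w 9 * w 1 ∧ w 1 * w 2 = w 6 ∧ True := S.rl hw rL1k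
theorem rL2g {G Ω : Type*} [Group G] [MulAction G Ω] {pt : ℕ → Ω} {w : ℕ → G} (S : Bm G pt 13920 B1) (hw : Act w pt (wdsP Tm wW) 13920 68) :
    w 1 * w 6 = w 6 * w 0 * w 1 ∧ w 9 * w 8 * w 7 = w 7 * w 8 ∧ w 63 * w 9 = w 9 * w 63 ∧ w 65 * w 0 = w 0 * w 65 ∧ w 65 * w 1 = w 2 * w 65 ∧ w 64 * w 1 = w 2 * w 64 ∧ w 2 * w 1 * w 2 = w 1 * w 0 ∧ True := S.rl hw rL2k
theorem rG0g {G Ω : Type*} [Group G] [MulAction G Ω] {pt : ℕ → Ω} {w u : ℕ → G} (S : Bm G pt 245520 H16.TON.B) (hw : Act (cat w 67 u) pt (catP (wdsP P wG) 67 (wdsP P uW)) 245520 (67 + 29)) :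
    u 1 * u 0 = w 0 * u 1 ∧ u 4 * w 0 = w 9 * u 4 ∧ u 4 * w 9 = w 0 * w 9 * u 4 ∧ u 6 * w 9 = w 9 * u 6 ∧ u 7 * w 9 = w 9 * u 7 ∧ u 5 * w 9 = w 9 * u 5 ∧ u 5 * w 15 = w 15 * u 5 ∧ u 6 * w 0 = w 15 * u 6 ∧ u 7 * w 0 = w 0 * w 15 * u 7 ∧ u 5 * w 0 = w 0 * w 9 * u 5 ∧ u 2 * w 0 = w 1 * u 2 ∧ u 2 * w 1 = w 0 * w 1 * u 2 ∧ u 8 * w 0 = w 16 * u 8 ∧ u 8 * w 9 = w 1 * u 8 ∧ u 9 * w 0 = w 16 * u 9 ∧ u 9 * w 9 = w 12 * u 9 ∧ True := S.rl hw rG0k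
theorem rG1g {G Ω : Type*} [Group G] [MulAction G Ω] {pt : ℕ → Ω} {w u : ℕ → G} (S : Bm G pt 245520 H16.TON.B) (hw : Act (cat w 67 u) pt (catP (wdsP P wG) 67 (wdsP P uW)) 245520 (67 + 29)) :
    u 10 * w 0 = w 1 * u 10 ∧ u 10 * w 1 = w 18 * u 10 ∧ u 11 * w 0 = w 2 * u 11 ∧ u 11 * w 1 = w 18 * u 11 ∧ u 12 * w 1 = w 1 * u 12 ∧ u 12 * w 19 = w 20 * u 12 ∧ u 13 * w 1 = w 1 * u 13 ∧ u 13 * w 2 = w 21 * u 13 ∧ u 14 * w 1 = w 20 * u 14 ∧ u 14 * w 2 = w 21 * u 14 ∧ u 19 * w 1 = w 0 * u 19 ∧ u 19 * w 22 = u 15 * u 19 ∧ u 20 * w 1 = w 0 * u 20 ∧ u 20 * w 22 = u 16 * u 20 ∧ u 21 * w 1 = u 15 * u 21 ∧ u 21 * w 22 = u 16 * u 21 ∧ True := S.rl hw rG1k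
theorem rG2g {G Ω : Type*} [Group G] [MulAction G Ω] {pt : ℕ → Ω} {w u : ℕ → G} (S : Bm G pt 245520 H16.TON.B) (hw : Act (cat w 67 u) pt (catP (wdsP P wG) 67 (wdsP P uW)) 245520 (67 + 29)) :
    u 17 * w 0 = u 15 * u 17 ∧ u 18 * w 0 = u 16 * u 18 ∧ u 22 * w 26 = w 26 * u 22 ∧ u 23 * w 66 = w 66 * u 23 ∧ u 24 * w 66 = w 66 * u 24 ∧ w 66 * u 25 * w 66 * u 24 * u 23 = u 25 * u 23 * u 24 ∧ u 3 * w 0 = w 2 * u 3 ∧ u 3 * w 2 = w 0 * w 2 * u 3 ∧ True := S.rl hw rG2k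
theorem lnk : ∀ i < 67, (lnkEnt (wdsP (wdsP P mW) wW) (wdsP P wG) H16.TON.B) i = 0 := range_glue (allZ_sound0 lnk_0) lnk_1

set_option linter.unusedSectionVars false
open Cfsg Subgroup H19 H28.SF H7.NS
variable {G Ω : Type*} [Group G] [Finite G] [MulAction G Ω] {g : ℕ → G} {pt : ℕ → Ω}
noncomputable def D (g : ℕ → G) : Dt G := ⟨gen g 10, (gen (wds (m g) t_W) 9), gen (m g) 4, (gen (wds (m g) pf_W) 2), (gen (wds (m g) t_W) 3), (w g 0), (w g 1), (w g 2), (w g 66), 4, 512, 8, 3⟩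
section
variable (X : Cx g pt)
include X
theorem aw : Act (w g) (pl pt) (wdsP Tm wW) 13920 68 :=
  (aL X).wds w_lt _
theorem weq : ∀ k < 67, w g k = wds g wG k :=
  (SG X).eqs ((am X).wds w_lt _) (X.M.wact wG_lt) lnk
theorem awG : Act (w g) pt (wdsP P wG) 245520 67 :=
  (SG X).link ((am X).wds w_lt _) (X.M.wact wG_lt) lnk
theorem au : Act (u g) pt (wdsP P uW) 245520 29 :=
  (X.M.act.mono (by decide)).wds u_lt _
theorem aU : Act (cat (w g) 67 (u g)) pt (catP (wdsP P wG) 67 (wdsP P uW)) 245520 (67 + 29) :=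
  act_cat (awG X) (au X)
omit X in
theorem uI (_ : Cx g pt) (k : ℕ) : u g k ∈ gen g 10 :=
  evA_mem_gen _ (nth_lt u_lt k)
theorem rL0 : type_of% (rL0g (SL X) (aw X)) := rL0g (SL X) (aw X)
theorem rL1 : type_of% (rL1g (SL X) (aw X)) := rL1g (SL X) (aw X)
theorem rL2 : type_of% (rL2g (SL X) (aw X)) := rL2g (SL X) (aw X)
theorem rG0 : type_of% (rG0g (SG X) (aU X)) := rG0g (SG X) (aU X)
theorem rG1 : type_of% (rG1g (SG X) (aU X)) := rG1g (SG X) (aU X)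
theorem rG2 : type_of% (rG2g (SG X) (aU X)) := rG2g (SG X) (aU X)
theorem tu : PC0 (wds (m g) t_W) 10 2 ∧ #(gen (wds (m g) t_W) 10) = 2 ^ 10 :=
  have ⟨_, M, u⟩ := (R0 X).md
  pc_up (u.wds t_lt _) (t_pc0 M)
theorem pfu : PC0 (wds (m g) pf_W) 2 3 ∧ #(gen (wds (m g) pf_W) 2) = 3 ^ 2 :=
  have ⟨_, M, u⟩ := (R0 X).md
  pc_up (u.wds pf_lt _) (pf_pc0 M)
theorem cz : #C[(w g 0)] ≤ 322560 :=
  cz_le (a := (u g 0)) (j := 5) (c := 460815505920) (k := 241920) X.i (cardI X.M X.i) (by rw [show (u g 0) = g 3 from one_mul _]; exact X.hb) (rG0 X).1 (((SL X).cm1 ((aL X).mono (K' := 6) (by decide)) (aw X) cm1) (mem_gen _ (by decide : 5 < 6))) (nmD X.M X.i (by decide +kernel))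
    ((gen_wds_le t_lt _).trans ((SL X).cm1 ((aL X).mono (K' := 6) (by decide)) (aw X) cm1)) (tu X).2 (((SL X).cm1 ((aL X).mono (K' := 6) (by decide)) (aw X) cm1) (gen_wds_le w_lt 67 (mem_gen _ (by decide : 3 < 67)))) (rL0 X).1 (rL0 X).2.1 (((SL X).cm1 ((aL X).mono (K' := 6) (by decide)) (aw X) cm1) (gen_wds_le w_lt 67 (mem_gen _ (by decide : 4 < 67)))) (rL0 X).2.2.1 (rL0 X).2.2.2.1 (((SL X).cm1 ((aL X).mono (K' := 6) (by decide)) (aw X) cm1) (gen_wds_le w_lt 67 (mem_gen _ (by decide : 5 < 67)))) (rL0 X).2.2.2.2.1 (rL0 X).2.2.2.2.2.1 (by decide)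
theorem RA : Rm C[(w g 0)] (m g) (pl pt) Tm 13920 6 B1 322560 :=
  up X ((SL X).cm1 ((aL X).mono (K' := 6) (by decide)) (aw X) cm1) (cz X)
theorem RM : Rm (gen g 10 ⊓ C[(w g 0)]) (m g) (pl pt) Tm 13920 5 B1 161280 :=
  (RA X).half (leD (by decide +kernel)) (nmD X.M X.i (by decide +kernel)) (by have h := (rL0 X).2.2.2.2.2.2.1; rwa [show (w g 66) = m g 5 from one_mul _] at h) ((SL X).nm1 ((aL X).mono (K' := 5) (by decide)) ((aL X).mono (K' := 6) (by decide)) nm2)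
theorem wM (k : ℕ) (h : k < 66 := by decide) : w g k ∈ gen g 10 ⊓ C[(w g 0)] :=
  (leD (Ws := wW) (K := 5) (n := 66) (by decide +kernel)).trans (RM X).top.le (mem_gen _ h)
theorem phI : (w g 66) ∉ gen g 10 :=
  fun h => nmD X.M X.i (by decide +kernel) (Set.mem_of_eq_of_mem (one_mul _).symm h)
theorem co : Co (D g) (m g) (wds (m g) t_W) 4 9 460815505920 :=
  ⟨X.i, cardI X.M X.i, by decide, (RA X).top, (RM X).top, rfl, one_mul _, rfl, tu X, rfl, rfl, (leD (Ws := t_W) (K := 5) (n := 9) (by decide +kernel)), gen_wds_le t_lt _, phI X,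
    (rL0 X).2.2.2.2.2.2.1, (rL0 X).2.2.2.2.2.2.2.1, (rL0 X).2.2.2.2.2.2.2.2.1, (rL0 X).2.2.2.2.2.2.2.2.2.1, ((SL X).nm1 ((aL X).mono (K' := 4) (by decide)) (aw X) nm3), (mD (Ws := wW) (k := 0) (K := 4) (by decide +kernel)), ((SL X).coms ((aL X).mono (K' := 4) (by decide)) ((aL X).mono (K' := 4) (by decide)) co4)⟩
theorem wiu : C[(w g 0)] ⊓ C(gen (wds (m g) wix_W) 3) = gen (wds (m g) wie_W) 2 ∧ #(gen (wds (m g) wie_W) 2) = 4 :=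
  have ⟨_, M, u⟩ := (RA X).md
  cen_up (u.wds wix_lt _) (u.wds wie_lt _) (wi_eq M)
theorem en6 : En (wds (m g) wie_W) 2 en6W 4 :=
  (SL X).en ((aL X).wds wie_lt 2) en6a en6b en6c
theorem cl7a : type_of% (cl7g (SL X) (aw X) (en6 X) ((aL X).wds wie_lt 2)) := cl7g (SL X) (aw X) (en6 X) ((aL X).wds wie_lt 2)
theorem biu : C[(w g 0)] ⊓ C(gen (wds (m g) bix_W) 3) = gen (wds (m g) bie_W) 2 ∧ #(gen (wds (m g) bie_W) 2) = 4 :=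
  have ⟨_, M, u⟩ := (RA X).md
  cen_up (u.wds bix_lt _) (u.wds bie_lt _) (bi_eq M)
theorem en9 : En (wds (m g) bie_W) 2 en9W 4 :=
  (SL X).en ((aL X).wds bie_lt 2) en9a en9b en9c
theorem cl10a : type_of% (cl10g (SG X) (aU X) (en9 X) ((am X).wds bie_lt 2)) := cl10g (SG X) (aU X) (en9 X) ((am X).wds bie_lt 2)
theorem dki {Bz : G → G → Prop} : Dv (gen g 10) (w g 0) Bz true (w g 0) (w g 9) :=
  dbk (wl1 (wM X 0).1 (rL0 X).2.2.2.2.2.2.2.2.2.2.1 (uI X 4) (rG0 X).2.1 (rG0 X).2.2.1 ((leD (Ws := wix_W) (K := 5) (n := 3) (by decide +kernel)).trans (RM X).top.le) ((SL X).cm1 ((aL X).wds wix_lt 3) (aw X) cm8) (fun v hv => (cl7a X) v ((wiu X).1.le hv))) (wM X 0).1 (uI X 6) (uI X 7) (uI X 5) (rG0 X).2.2.2.1 (rG0 X).2.2.2.2.1 (rG0 X).2.2.2.2.2.1 (rG0 X).2.2.2.2.2.2.1 (rG0 X).2.2.2.2.2.2.2.1 (rG0 X).2.2.2.2.2.2.2.2.1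
    (rG0 X).2.2.2.2.2.2.2.2.2.1 (rL0 X).2.2.2.2.2.2.2.2.2.2.2.1 ((leD (Ws := bix_W) (K := 5) (n := 3) (by decide +kernel)).trans (RM X).top.le) ((SL X).cm1 ((aL X).wds bix_lt 3) (aw X) cm11) (fun v hv => (cl10a X) v ((biu X).1.le hv))
theorem wzpu : C[(w g 0)] ⊓ C(gen (wds (m g) wzpx_W) 3) = gen (wds (m g) wzpe_W) 2 ∧ #(gen (wds (m g) wzpe_W) 2) = 4 :=
  have ⟨_, M, u⟩ := (RA X).md
  cen_up (u.wds wzpx_lt _) (u.wds wzpe_lt _) (wzp_eq M)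
theorem en12 : En (wds (m g) wzpe_W) 2 en12W 4 :=
  (SL X).en ((aL X).wds wzpe_lt 2) en12a en12b en12c
theorem cl13a : type_of% (cl13g (SL X) (aw X) (en12 X) ((aL X).wds wzpe_lt 2)) := cl13g (SL X) (aw X) (en12 X) ((aL X).wds wzpe_lt 2)
theorem dpzp {Bz : G → G → Prop} : Dv (gen g 10) (w g 0) Bz true (w g 0) (w g 1) :=
  dpt (wl1 (wM X 0).1 (rL0 X).2.2.2.2.2.2.2.2.2.2.2.2.1 (uI X 2) (rG0 X).2.2.2.2.2.2.2.2.2.2.1 (rG0 X).2.2.2.2.2.2.2.2.2.2.2.1 ((leD (Ws := wzpx_W) (K := 5) (n := 3) (by decide +kernel)).trans (RM X).top.le) ((SL X).cm1 ((aL X).wds wzpx_lt 3) (aw X) cm14) (fun v hv => (cl13a X) v ((wzpu X).1.le hv))) (rL0 X).2.2.2.2.2.2.2.2.2.2.2.2.2.1 (rL0 X).2.2.2.2.2.2.2.2.2.2.2.2.2.2.1 (rL0 X).2.2.2.2.2.2.2.2.2.2.2.2.2.2.2.1 (dcj (dki X) (wM X 17).1 (rL1 X).1 (rL1 X).2.1).symm (dcj (dki X) (uI X 8) (rG0 X).2.2.2.2.2.2.2.2.2.2.2.2.1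 (rG0 X).2.2.2.2.2.2.2.2.2.2.2.2.2.1) (dcj (dki X) (uI X 9) (rG0 X).2.2.2.2.2.2.2.2.2.2.2.2.2.2.1 (rG0 X).2.2.2.2.2.2.2.2.2.2.2.2.2.2.2.1)
theorem db (k : (D g).KC) : Dv (gen g 10) (w g 0) (fun a b => (D g).KC ∧ a = (D g).z' ∧ b = (D g).w) false (w g 1) (w g 2) :=
  .base ⟨k, rfl, rfl⟩
theorem dsc (k : (D g).KC) : Dv (gen g 10) (w g 0) (fun a b => (D g).KC ∧ a = (D g).z' ∧ b = (D g).w) false (w g 1) (w g 19) :=
  .add (rL1 X).2.2.1 (db X k) (dcj (dpzp X) (uI X 10) (rG1 X).1 (rG1 X).2.1).rel (dcj (dpzp X) (uI X 11) (rG1 X).2.2.1 (rG1 X).2.2.2.1)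
theorem dsf (k : (D g).KC) : Dv (gen g 10) (w g 0) (fun a b => (D g).KC ∧ a = (D g).z' ∧ b = (D g).w) false (w g 1) (w g 22) :=
  .tri (rL1 X).2.2.2.1 (dcj (dsc X k) (uI X 12) (rG1 X).2.2.2.2.1 (rG1 X).2.2.2.2.2.1) (dcj (db X k) (uI X 13) (rG1 X).2.2.2.2.2.2.1 (rG1 X).2.2.2.2.2.2.2.1) (dcj (db X k) (uI X 14) (rG1 X).2.2.2.2.2.2.2.2.1 (rG1 X).2.2.2.2.2.2.2.2.2.1)
theorem gS : gen g 10 ≤ (gen (pk (cat (w g) 67 (u g)) [0, 82, 83]) 3) :=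
  ((SG X).le (act_pk (W := [0, 82, 83]) (m := 3) (aU X) (by decide +kernel)) (X.M.act.mono (K' := 10) (by decide)) le23)
theorem cvr : Cv C[(w g 0)] (wds (m g) covr_W) (3 + 2) :=
  have ⟨_, M, u⟩ := (RA X).md
  cov_up (u.wds covr_lt _) fun _ h => cov M (e := 1) h h
theorem cs : Cs (D g) (w g 0) (w g 66) :=
  (co X).cls (y := (pk (cat (w g) 67 (u g)) [0, 0, 66, 66])) (cvr X) ((SG X).cjs ((cj_act X.M).mono (K' := 5) (by decide)) ((am X).wds covr_lt 5) (act_pk (W := [0, 0, 66, 66]) (m := 4) (aU X) (by decide +kernel)) cjk) rfl rfl rfl rfl (rL1 X).2.2.2.2.1 (rL1 X).2.2.2.2.2.1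
theorem cfu : C[(w g 0)] ⊓ C(gen (wds (m g) cfx_W) 1) = gen (wds (m g) cfe_W) 5 ∧ #(gen (wds (m g) cfe_W) 5) = 240 :=
  have ⟨_, M, u⟩ := (RA X).md
  cen_up (u.wds cfx_lt _) (u.wds cfe_lt _) (cf_eq M)
theorem ee1 : EE (D g).I (w g 66) ≤ 2 ^ 3 :=
  (co X).ee (cvr X) (((leD (Ws := covr_W) (K := 5) (n := 3) (by decide +kernel)).trans (RM X).top.le).trans inf_le_left) rfl rfl (phI X) (rL0 X).2.2.2.2.2.2.1 (cen2 (cfu X) :) (cen2 (cfu X) :) (by decide) (.inr (by decide))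
theorem ee2 : EE (D g).I (w g 66) ≤ 2 ^ 3 :=
  (co X).ee (cvr X) (((leD (Ws := covr_W) (K := 5) (n := 3) (by decide +kernel)).trans (RM X).top.le).trans inf_le_left) rfl rfl (phI X) (rL0 X).2.2.2.2.2.2.1 (cen2 (cfu X) :) (cen2 (cfu X) :) (by decide) (.inr (by decide))
theorem eo1 : 2 ^ 3 ≤ EE (D g).I (w g 66) :=
  (co X).eo1 (phI X) (cen2 (cfu X) :) (rL1 X).2.2.2.2.1 (by decide)
theorem eo2 : 2 ^ 3 ≤ EE (D g).I (w g 66) :=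
  (co X).eo1 (phI X) (cen2 (cfu X) :) (rL1 X).2.2.2.2.1 (by decide)
theorem ctu : C[(w g 0)] ⊓ C(gen (wds (m g) ctx_W) 3) = gen (wds (m g) cte_W) 1 ∧ #(gen (wds (m g) cte_W) 1) = 2 :=
  have ⟨_, M, u⟩ := (RA X).md
  cen_up (u.wds ctx_lt _) (u.wds cte_lt _) (ct_eq M)
theorem en27 : En (wds (m g) cte_W) 1 en27W 2 :=
  (SL X).en ((aL X).wds cte_lt 1) en27a en27b en27c
theorem cl28a : type_of% (cl28g (SL X) (aw X) (en27 X) ((aL X).wds cte_lt 1)) := cl28g (SL X) (aw X) (en27 X) ((aL X).wds cte_lt 1)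
theorem cT : ∀ β ∈ C((D g).T), β = 1 ∨ β = (D g).z :=
  (co X).cen (co X).zT ((SL X).le ((aL X).wds t_lt 9) ((aL X).wds ctx_lt 3) le29) (fun v hv => (cl28a X) v ((ctu X).1.le hv))
theorem cku : C[(w g 0)] ⊓ C(gen (wds (m g) ckx_W) 2) = gen (wds (m g) cke_W) 2 ∧ #(gen (wds (m g) cke_W) 2) = 4 :=
  have ⟨_, M, u⟩ := (RA X).md
  cen_up (u.wds ckx_lt _) (u.wds cke_lt _) (ck_eq M)
theorem clu : gen g 10 ⊓ C[(w g 0)] ⊓ C(gen (wds (m g) clx_W) 1) = gen (wds (m g) cle_W) 8 ∧ #(gen (wds (m g) cle_W) 8) = 256 :=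
  have ⟨_, M, u⟩ := (RM X).md
  cen_up (u.wds clx_lt _) (u.wds cle_lt _) (cl_eq M)
theorem om : ∀ J ≤ gen g 10 ⊓ C[(w g 0)], gen g 10 ⊓ C[(w g 0)] ≤ N(J) → Odd #J → J = ⊥ :=
  odd_triv (k := 8) (wM X 9) (wM X 23) (wM X 24) (rL1 X).2.2.2.2.2.2.1 (cen2 (clu X) :) (rL1 X).2.2.2.2.2.2.2.1 (rL1 X).2.2.2.2.2.2.2.2.1
theorem cnu : gen g 10 ⊓ C[(w g 0)] ⊓ C(gen (wds (m g) cnx_W) 2) = gen (wds (m g) cne_W) 5 ∧ #(gen (wds (m g) cne_W) 5) = 64 :=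
  have ⟨_, M, u⟩ := (RM X).md
  cen_up (u.wds cnx_lt _) (u.wds cne_lt _) (cn_eq M)
theorem en30 : En (wds (m g) cne_W) 5 en30W 64 :=
  (SL X).en ((aM X).wds cne_lt 5) en30a en30b en30c
theorem cl31a : type_of% (cl31g (SL X) (aw X) (en30 X) ((aM X).wds cne_lt 5)) := cl31g (SL X) (aw X) (en30 X) ((aM X).wds cne_lt 5)
theorem g3j1 : G3 (D g) (w g 26) :=
  ⟨(rL1 X).2.2.2.2.2.2.2.2.2.1, (rL1 X).2.2.2.2.2.2.2.2.2.2.1, (pk (cat (w g) 67 (u g)) [61, 62, 89]), (wM X 61), (wM X 62), (uI X 22), (rG2 X).2.2.1, ((gS X).trans ((SG X).le (act_pk (W := [61, 62, 89]) (m := 3) (aU X) (by decide +kernel)) (act_pk (W := [0, 82, 83]) (m := 3) (aU X) (by decide +kernel)) le32))⟩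
theorem nj : ∀ J ≤ (D g).K, (D g).z ∈ J → (D g).I ⊓ C[(D g).z] ≤ N(J) →
    #J ∣ (D g).d ∨ ∀ H, (∀ j ∈ J, j * j = 1 → j ≠ 1 → (D g).I ⊓ C[j] ≤ H) → (D g).I ≤ H :=
  (co X).nj (om X) ((SL X).cm1 ((aL X).mono (K' := 4) (by decide)) (aw X) cm33) (od4 (rL1 X).2.2.2.2.2.2.2.2.2.2.2.1 (rL0 X).2.2.2.2.2.2.2.1) ((SL X).le ((aL X).wds t_lt 9) ((aL X).wds nu_lt 4) le34) (leD (Ws := nu_W) (K := 4) (n := 4) (by decide +kernel)) ((SL X).coms ((aL X).wds nu_lt 4) ((aM X).wds cnx_lt 2) co35)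
    (fun v hv => have e := (cl31a X) v ((cnu X).1.le hv); by rcases e with e | e | e | e | e | e | e | e | e | e | e | e | e | e | e | e | e | e | e | e | e | e; exacts [.inl (Set.mem_of_eq_of_mem e (one_mem _)), .inl (Set.mem_of_eq_of_mem e (mem_zpowers _)), .inl (Set.mem_of_eq_of_mem e (mul_mem (mem_zpowers _) (mem_zpowers _))), .inl (Set.mem_of_eq_of_mem e (mul_mem (mul_mem (mem_zpowers _) (mem_zpowers _)) (mem_zpowers _))), .inr ⟨_, (wM X 27), _, (wM X 28), .inl e⟩, .inr ⟨_, (wM X 29), _, (wM X 30), .inl e⟩, .inr ⟨_, (wM X 31), _, (wM X 32), .inl e⟩, .inr ⟨_, (wM X 33), _, (wM X 34), .inl e⟩, .inr ⟨_, (wM X 35), _, (wM X 36), .inl e⟩, .inr ⟨_, (wM X 37), _, (wM X 38), .inl e⟩, .inr ⟨_, (wM X 39), _, (wM X 40), .inl e⟩, .inr ⟨_, (wM X 41), _, (wM X 42), .inl e⟩, .inr ⟨_, (wM X 43), _, (wM X 44), .inl e⟩, .inr ⟨_, (wM X 45), _, (wM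 X 46), .inl e⟩, .inr ⟨_, (wM X 47), _, (wM X 42), .inl e⟩, .inr ⟨_, (wM X 48), _, (wM X 49), .inl e⟩, .inr ⟨_, (wM X 50), _, (wM X 51), .inl e⟩, .inr ⟨_, (wM X 52), _, (wM X 53), .inl e⟩, .inr ⟨_, (wM X 54), _, (wM X 28), .inl e⟩, .inr ⟨_, (wM X 55), _, (wM X 56), .inl e⟩, .inr ⟨_, (wM X 57), _, (wM X 58), .inl e⟩, .inr ⟨_, (wM X 59), _, (wM X 60), .inl e⟩]) (g3j1 X) (g3j1 X)
theorem gn1 : Gen (D g).I (w g 66) :=
  (gen_of (x := (pk (cat (w g) 67 (u g)) [90, 91, 92])) (uI X 25) (uI X 23) (uI X 24) (rG2 X).2.2.2.1 (rG2 X).2.2.2.2.1 (rL0 X).2.2.2.2.2.2.1 (rG2 X).2.2.2.2.2.1 ((gS X).trans ((SG X).le (act_pk (W := [90, 91, 92]) (m := 3) (aU X) (by decide +kernel)) (act_pk (W := [0, 82, 83]) (m := 3) (aU X) (by decide +kernel)) le36)))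
theorem fa {Y : Type*} [Group Y] [IsSimpleGroup Y] (e : gen g 10 ≃* Y) (o : Nat.card (Out Y) = 2) : (D g).FA :=
  (co X).fa e o ((SL X).mem1 ((aL X).wds t_lt 9) (aw X) me37) ((SL X).mem1 ((aL X).wds t_lt 9) (aw X) me38) (rL1 X).2.2.2.2.2.2.2.2.2.2.2.2.1 (cT X) (leD (Ws := ckx_W) (K := 4) (n := 2) (by decide +kernel)) (cku X).1 (leD (Ws := cke_W) (K := 4) (n := 2) (by decide +kernel)) (om X) (by dsimp only [D]; decide) (nj X)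
    ((co X).smo (cs X) (wM X 0).1 (ee1 X) (ee2 X) (by dsimp only [D]; decide)) ((co X).gen' (cs X) (wM X 0).1 (gn1 X) (gn1 X)) (.inl ((co X).cls1 (cs X) (phI X)))
theorem en39 : En (wds (m g) t_W) 6 en39W 64 :=
  (SL X).en ((aL X).wds t_lt 6) en39a en39b en39c
theorem fe : (D g).FE :=
  (co X).fe (H := (gen (pk (cat (w g) 67 (u g)) [93, 94]) 2)) (j' := 3) (cs X) (wM X 0).1 (phI X) (rL1 X).2.2.2.2.1 (rL1 X).2.2.2.2.2.1 ((SL X).mem1 ((aL X).wds t_lt 9) (aw X) me37) ((SL X).mem1 ((aL X).wds t_lt 9) (aw X) me38) (rL1 X).2.2.2.2.2.2.2.2.2.2.2.2.2.1 (rL1 X).2.2.2.2.2.2.2.2.2.2.2.2.1 rfl (by decide) ((SL X).cms ((aL X).wds t_lt 3) ((aL X).wds t_lt 3) cs43)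
    (fun k hk => match k, hk with | 0, _ => ((SL X).rl ((aL X).wds t_lt 10) elk).1 | 1, _ => ((SL X).rl ((aL X).wds t_lt 10) elk).2.1 | 2, _ => ((SL X).rl ((aL X).wds t_lt 10) elk).2.2.1) ((SL X).coms ((aL X).wds t_lt 9) ((aL X).wds t_lt 3) co44) ((co X).uY2 (j := 6) rfl (ev_mem (W := [nat_lit 0]) (by decide +kernel)) ((SL X).rl ((aL X).wds t_lt 10) uyk).1 fun v hv => have e := ((SL X).cls (en39 X) ((aL X).wds t_lt 6) ((aL X).wds t_lt 11) en39c.2.1 cl40) v hv; by rcases e with e | e | e | e | e | e | e | e | e; exacts [.inl e, .inr (Set.mem_of_eq_of_mem e (ev_mem (y := (wds (m g) t_W)) (n := 3) (W := []) (by decide +kernel))), .inr (Set.mem_of_eq_of_mem e (ev_mem (y := (wds (m g) t_W)) (n := 3) (W := [0]) (by decide +kernel))), .inr (Set.mem_of_eq_of_mem e (ev_mem (y := (wds (m g) t_W)) (n := 3) (W := [1]) (by decide +kernel))), .inr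 (Set.mem_of_eq_of_mem e (ev_mem (y := (wds (m g) t_W)) (n := 3) (W := [2]) (by decide +kernel))), .inr (Set.mem_of_eq_of_mem e (ev_mem (y := (wds (m g) t_W)) (n := 3) (W := [1, 0]) (by decide +kernel))), .inr (Set.mem_of_eq_of_mem e (ev_mem (y := (wds (m g) t_W)) (n := 3) (W := [2, 0]) (by decide +kernel))), .inr (Set.mem_of_eq_of_mem e (ev_mem (y := (wds (m g) t_W)) (n := 3) (W := [2, 1]) (by decide +kernel))), .inr (Set.mem_of_eq_of_mem e (ev_mem (y := (wds (m g) t_W)) (n := 3) (W := [2, 1, 0]) (by decide +kernel)))])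
    ((SG X).le (act_pk (W := [93, 94]) (m := 2) (aU X) (by decide +kernel)) ((am X).wds t_lt 9) le41) ((SG X).coms (act_pk (W := [93, 94]) (m := 2) (aU X) (by decide +kernel)) (act_pk (W := [93, 94]) (m := 2) (aU X) (by decide +kernel)) co42) (gen_le.2 fun k hk => match k, hk with | 0, _ => (uI X 26) | 1, _ => (uI X 27)) ((SG X).norms ((am X).wds t_lt 3) (act_pk (W := [93, 94]) (m := 2) (aU X) (by decide +kernel)) ns45) ((co X).cT.ge.trans (le_e2 (co X).syl.pi (co X).TM')) (eo1 X) (eo2 X) (ee1 X) (by dsimp only [D]; decide)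
theorem cpu : C[(w g 0)] ⊓ C(gen (wds (m g) pf_W) 2) = gen (wds (m g) cpe_W) 4 ∧ #(gen (wds (m g) cpe_W) 4) = 72 :=
  have ⟨_, M, u⟩ := (RA X).md
  cen_up (u.wds pf_lt _) (u.wds cpe_lt _) (cp_eq M)
theorem en46 : En (wds (m g) cpe_W) 4 en46W 72 :=
  (SL X).en ((act_mat ((aL X).wds cpe_lt 4) cpe_q).mono (K' := 4) (by decide)) en46a en46b en46c
theorem cl47a : type_of% (cl47g (SL X) (aw X) (en46 X) ((act_mat ((aL X).wds cpe_lt 4) cpe_q).mono (K' := 4) (by decide))) := cl47g (SL X) (aw X) (en46 X) ((act_mat ((aL X).wds cpe_lt 4) cpe_q).mono (K' := 4) (by decide))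
theorem en48 : En (wds (m g) cle_W) 8 en48W 256 :=
  (SL X).en ((act_mat ((aM X).wds cle_lt 8) cle_q).mono (K' := 8) (by decide)) en48a en48b en48c
theorem cyu : C[(w g 0)] ⊓ C(gen (wds (m g) cyx_W) 3) = gen (wds (m g) cye_W) 3 ∧ #(gen (wds (m g) cye_W) 3) = 36 :=
  have ⟨_, M, u⟩ := (RA X).md
  cen_up (u.wds cyx_lt _) (u.wds cye_lt _) (cy_eq M)
theorem rK : Rig (D g).K (insert (w g 6) (D g).P) :=
  rigK (co X) (by dsimp only [D]; decide) (PiN.of_card_pow (by dsimp only [D]; decide) (pfu X).2) (leD (Ws := pf_W) (K := 4) (n := 2) (by decide +kernel)) (le_cent1_iff.1 ((SL X).cm1 ((aL X).wds pf_lt 2) (aw X) cm5)) (mD (Ws := wW) (k := 6) (K := 4) (by decide +kernel)) ((SL X).cm1 ((aL X).mono (K' := 4) (by decide)) (aw X) cm50) (rL1 X).2.2.2.2.2.2.2.2.2.2.2.1 (rL2 X).1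
    (mD (Ws := wW) (k := 7) (K := 4) (by decide +kernel)) (mD (Ws := wW) (k := 8) (K := 4) (by decide +kernel)) ((SL X).nm1 ((aL X).wds pf_lt 2) (aw X) nm51) ((SL X).nm1 ((aL X).wds pf_lt 2) (aw X) nm52) (X := (gen (wds (m g) cyx_W) 3)) (gen_le.2 fun k hk => match k, hk with | 0, _ => mem_sup_left (mem_gen (wds (m g) pf_W) (by decide : 0 < 2)) | 1, _ => mem_sup_left (mem_gen (wds (m g) pf_W) (by decide : 1 < 2)) | 2, _ => mem_sup_right (mem_zpowers _)) ((cyu X).1.le.trans (((SL X).le (act_pk (W := [10, 11, 6]) (m := 3) (aw X) (by decide +kernel)) ((aL X).wds cye_lt 3) le53).trans (gen_le.2 fun k hk => match k, hk with | 0, _ => mem_sup_left (mem_gen (wds (m g) pf_W) (by decide : 0 < 2)) | 1, _ => mem_sup_left (mem_gen (wds (m g) pf_W) (by decide : 1 < 2)) | 2, _ => mem_sup_right (mem_zpowers _)))) (rL2 X).2.1 (.inl (rL1 X).2.2.2.2.2.2.2.2.2.2.2.2.2.2.1)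
    (y := (pk (w g) [10, 11, 9, 6, 63, 63, 0, 1])) (j := 4) (gen_le.2 fun k hk => match k, hk with | 0, _ => mem_sup_left (mem_sup_left (mem_gen (wds (m g) pf_W) (by decide : 0 < 2))) | 1, _ => mem_sup_left (mem_sup_left (mem_gen (wds (m g) pf_W) (by decide : 1 < 2))) | 2, _ => mem_sup_right (mem_zpowers _) | 3, _ => mem_sup_left (mem_sup_right (mem_zpowers _)))
    (mD (Ws := wW) (k := 63) (K := 4) (by decide +kernel)) (rL2 X).2.2.1 cl49a ((SL X).rl (act_pk (W := [10, 11, 9, 6, 63, 63, 0, 1]) (m := 8) (aw X) (by decide +kernel)) cl49b) (fun v hv => cl_app (((SL X).cls (en48 X) ((act_mat ((aM X).wds cle_lt 8) cle_q).mono (K' := 8) (by decide)) (act_pk (W := [10, 11, 9, 6, 63, 63, 0, 1]) (m := 8) (aw X) (by decide +kernel)) en48c.2.1 cl49) v ((cen1 (clu X) :).1.le hv))) ((SL X).le (act_pk (W := [10, 11, 9, 6, 63, 63, 0, 1]) (m := 5)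 (aw X) (by decide +kernel)) ((aL X).mono (K' := 4) (by decide)) le54)
theorem kc : (D g).KC :=
  ⟨(dpzp X), (dcj (dpzp X) (wM X 65).1 (rL2 X).2.2.2.1 (rL2 X).2.2.2.2.1), Set.mem_of_eq_of_mem (rL1 X).2.2.2.2.2.2.2.2.2.2.2.2.2.2.2.1 (le_cent1_iff.1 ((SL X).cm1 ((aL X).mono (K' := 4) (by decide)) (aw X) cm50)), ((rL1 X).2.2.2.2.2.2.2.2.2.2.2.2.2.2.2.1).symm ▸ rK X, ⟨_, (mD (Ws := wW) (k := 64) (K := 4) (by decide +kernel)), cj' (rL2 X).2.2.2.2.2.1⟩⟩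
theorem cvu : C[(w g 0)] ⊓ C(gen (wds (m g) cvx_W) 3) = gen (wds (m g) cve_W) 4 ∧ #(gen (wds (m g) cve_W) 4) = 36 :=
  have ⟨_, M, u⟩ := (RA X).md
  cen_up (u.wds cvx_lt _) (u.wds cve_lt _) (cv_eq M)
theorem fc' : (D g).FC :=
  fc (co X) (by dsimp only [D]; decide) (pfu X).2 (RM X).card (leD (Ws := pf_W) (K := 4) (n := 2) (by decide +kernel)) ((SL X).cms ((aL X).wds pf_lt 2) ((aL X).wds pf_lt 2) cs56) ((SL X).cm1 ((aL X).wds pf_lt 2) (aw X) cm5) ((SL X).cm1 ((aL X).wds pf_lt 2) (aw X) cm57) (wM X 2) (rL1 X).2.2.2.2.2.2.2.2.2.2.2.2.2.1 (rL2 X).2.2.2.2.2.2.1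
    (fun v hv => (cl47a X) v ((cpu X).1.le ⟨hv.1.2, hv.2⟩)) (.inr ((cpu X).1.le.trans (((leD (Ws := cpe_W) (K := 5) (n := 4) (by decide +kernel)).trans (RM X).top.le).trans inf_le_left))) (X := (gen (wds (m g) cvx_W) 3)) (gen_le.2 fun k hk => match k, hk with | 0, _ => mem_sup_left (mem_gen (wds (m g) pf_W) (by decide : 0 < 2)) | 1, _ => mem_sup_left (mem_gen (wds (m g) pf_W) (by decide : 1 < 2)) | 2, _ => mem_sup_right (mem_zpowers _))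
    ((cvu X).1.le.trans ((SL X).le (act_pk (W := [0, 1, 10, 11]) (m := 4) (aw X) (by decide +kernel)) ((aL X).wds cve_lt 4) le58)) rfl rfl (mem_gen (wds (m g) pf_W) (by decide : 0 < 2)) (mem_gen (wds (m g) pf_W) (by decide : 1 < 2)) (uI X 2) ((SG X).cm1 ((am X).wds pf_lt 2) (au X) cm59) (rG0 X).2.2.2.2.2.2.2.2.2.2.1 (rG0 X).2.2.2.2.2.2.2.2.2.2.2.1 (uI X 3) ((SG X).cm1 ((am X).wds pf_lt 2) (au X) cm60) (rG2 X).2.2.2.2.2.2.1 (rG2 X).2.2.2.2.2.2.2.1 (rigM (co X) (kc X).rig (wM X 2)) (have k := kc X; (clq (x := (pk (cat (w g) 67 (u g)) [0, 82, 83])) (gS X) (dcj (dsf X k) (uI X 19) (rG1 X).2.2.2.2.2.2.2.2.2.2.1 (rG1 X).2.2.2.2.2.2.2.2.2.2.2.1) (dcj (dsf X k) (uI X 20) (rG1 X).2.2.2.2.2.2.2.2.2.2.2.2.1 (rG1 X).2.2.2.2.2.2.2.2.2.2.2.2.2.1) (dcj (dsf X k) (uI X 21) (rG1 X).2.2.2.2.2.2.2.2.2.2.2.2.2.2.1 (rG1 X).2.2.2.2.2.2.2.2.2.2.2.2.2.2.2.1)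 rfl (uI X 17) (rG2 X).1 (uI X 18) (rG2 X).2.1))
end
end H15.NS.ON
theorem H15.NS.on : H7.NS.ON := by
  obtain ⟨Y, Ω, _, _, γ, pt, X, ⟨e⟩⟩ := H15.NS.ON.ex
  have := X.M.fin
  have := H16.TON.simple
  exact ⟨Y, _, ‹_›, H15.NS.ON.D γ, ⟨(H16.PON.equiv.trans (MulEquiv.subgroupCongr H16.TON.gen_eq).symm).trans e.symm⟩, H15.NS.ON.fa X e H16.OON.out, H15.NS.ON.fc' X, H15.NS.ON.fe X⟩
namespace H15.NS.ON

end H15.NS.ON
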