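import Cfsg.Agent.H15.NS.Suz.C0
import Cfsg.Agent.H15.NS3
import Cfsg.Agent.H16.O.Suz
import Cfsg.Agent.H16.P.SuzL

/-! Generated by tools/h15/ns/gen.py (kit tools/h0/tr). -/

set_option maxRecDepth 100000
set_option maxHeartbeats 0

namespace H15.NS.Suz
open H16 H0.TR
open scoped commutatorElement

noncomputable abbrev w {G : Type*} [Group G] (g : ℕ → G) : ℕ → G := wds (m g) wW
noncomputable abbrev u {G : Type*} [Group G] (g : ℕ → G) : ℕ → G := wds g uW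
theorem t_act {G Ω : Type*} [Group G] [MulAction G Ω] {g : ℕ → G} {pt : ℕ → Ω} {c : ℕ}
    (M : Md g pt Tm 1728 7 B1 c) : Act (wds g t_W) pt t_P 1728 14 :=
  M.wact t_lt
theorem t_r_0 : ∀ i < 1088, (resEnt t_P tP tE tI (nat_lit 1728) (nat_lit 1088) (nat_lit 0)) i = 0 := allZ_sound0 t_r_0_0
theorem t_r_1 : ∀ i < 1088, (resEnt t_P tP tE tI (nat_lit 1728) (nat_lit 1088) (nat_lit 1)) i = 0 := allZ_sound0 t_r_1_0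
theorem t_r_2 : ∀ i < 1088, (resEnt t_P tP tE tI (nat_lit 1728) (nat_lit 1088) (nat_lit 2)) i = 0 := allZ_sound0 t_r_2_0
theorem t_r_3 : ∀ i < 1088, (resEnt t_P tP tE tI (nat_lit 1728) (nat_lit 1088) (nat_lit 3)) i = 0 := allZ_sound0 t_r_3_0
theorem t_r_4 : ∀ i < 1088, (resEnt t_P tP tE tI (nat_lit 1728) (nat_lit 1088) (nat_lit 4)) i = 0 := allZ_sound0 t_r_4_0
theorem t_r_5 : ∀ i < 1088, (resEnt t_P tP tE tI (nat_lit 1728) (nat_lit 1088) (nat_lit 5)) i = 0 := allZ_sound0 t_r_5_0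
theorem t_r_6 : ∀ i < 1088, (resEnt t_P tP tE tI (nat_lit 1728) (nat_lit 1088) (nat_lit 6)) i = 0 := allZ_sound0 t_r_6_0
theorem t_r_7 : ∀ i < 1088, (resEnt t_P tP tE tI (nat_lit 1728) (nat_lit 1088) (nat_lit 7)) i = 0 := allZ_sound0 t_r_7_0
theorem t_r_8 : ∀ i < 1088, (resEnt t_P tP tE tI (nat_lit 1728) (nat_lit 1088) (nat_lit 8)) i = 0 := allZ_sound0 t_r_8_0
theorem t_r_9 : ∀ i < 1088, (resEnt t_P tP tE tI (nat_lit 1728) (nat_lit 1088) (nat_lit 9)) i = 0 := allZ_sound0 t_r_9_0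
theorem t_r_10 : ∀ i < 1088, (resEnt t_P tP tE tI (nat_lit 1728) (nat_lit 1088) (nat_lit 10)) i = 0 := allZ_sound0 t_r_10_0
theorem t_r_11 : ∀ i < 1088, (resEnt t_P tP tE tI (nat_lit 1728) (nat_lit 1088) (nat_lit 11)) i = 0 := allZ_sound0 t_r_11_0
theorem t_r_12 : ∀ i < 1088, (resEnt t_P tP tE tI (nat_lit 1728) (nat_lit 1088) (nat_lit 12)) i = 0 := allZ_sound0 t_r_12_0
theorem t_r_13 : ∀ i < 1088, (resEnt t_P tP tE tI (nat_lit 1728) (nat_lit 1088) (nat_lit 13)) i = 0 := allZ_sound0 t_r_13_0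
theorem t_r : ∀ k < 14, ∀ i < 1088, (resEnt t_P tP tE tI (nat_lit 1728) (nat_lit 1088)) k i = 0 :=
  letters_glue (letters_glue (letters_glue (letters_glue (letters_glue (letters_glue (letters_glue (letters_glue (letters_glue (letters_glue (letters_glue (letters_glue (letters_glue (letters_glue (letters_nil) t_r_0) t_r_1) t_r_2) t_r_3) t_r_4) t_r_5) t_r_6) t_r_7) t_r_8) t_r_9) t_r_10) t_r_11) t_r_12) t_r_13
theorem t_sm {G Ω : Type*} [Group G] [MulAction G Ω] {g : ℕ → G} {pt : ℕ → Ω} {c : ℕ}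
    (M : Md g pt Tm 1728 7 B1 c) : Sm (wds g t_W) (fun i => pt (tE i)) tP 1088 14 tB ∧ ∀ i < 1088, tE i < 1728 :=
  M.res (t_act M) (by decide) t_r t_b
theorem tl0_e : ∀ i < 1023, (dent tl0 (wdsP tP te) (nat_lit 1088)) i = 0 := allZ_sound0 tl0_e_0
theorem tl0_ok : DOK tl0 (wdsP tP te) 1088 := ⟨tl0_h, tl0_e⟩
theorem tl1_e : ∀ i < 15, (dent tl1 (wdsP tP te) (nat_lit 1088)) i = 0 := allZ_sound0 tl1_e_0
theorem tl1_ok : DOK tl1 (wdsP tP te) 1088 := ⟨tl1_h, tl1_e⟩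
theorem t_low {G Ω : Type*} [Group G] [MulAction G Ω] {g : ℕ → G} {pt : ℕ → Ω} {c : ℕ}
    (M : Md g pt Tm 1728 7 B1 c) : SLow (gi (wds (wds g t_W) te)) (fun i => pt (tE i)) 1088 [tl0, tl1] :=
  ((SLow.nil).cons tl1_ok ((t_sm M).1.act.wds t_e 23) t_f1).cons tl0_ok ((t_sm M).1.act.wds t_e 23) t_f0
theorem t_pc {G Ω : Type*} [Group G] [MulAction G Ω] {g : ℕ → G} {pt : ℕ → Ω}
    (M : Md g pt Tm 1728 7 B1 6635520) : PC (wds g t_W) 14 2 :=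
  have := M.fin
  ((t_sm M).1.pc0 (by decide) t_p).pc (t_low M) (t_sm M).1.inj
    (fun k => evA_mem_gen _ (nth_lt t_e k)) M.card ⟨by decide, t_c⟩
theorem t_pc0 {G Ω : Type*} [Group G] [MulAction G Ω] {g : ℕ → G} {pt : ℕ → Ω} {c : ℕ}
    (M : Md g pt Tm 1728 7 B1 c) : PC0 (wds g t_W) 14 2 ∧ Nat.card (gen (wds g t_W) 14) = 2 ^ 14 :=
  have := M.fin
  pc0c ((t_sm M).1.pc0 (by decide) t_p) (t_low M) (t_sm M).1.inj (fun k => evA_mem_gen _ (nth_lt t_e k)) t_c.1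
theorem pf_act {G Ω : Type*} [Group G] [MulAction G Ω] {g : ℕ → G} {pt : ℕ → Ω} {c : ℕ}
    (M : Md g pt Tm 1728 7 B1 c) : Act (wds g pf_W) pt pf_P 1728 1 :=
  M.wact pf_lt
theorem pf_r : ∀ k < 1, ∀ i < 20, (resEnt pf_P pfP pfE pfI (nat_lit 1728) (nat_lit 20)) k i = 0 := allZ2_sound pf_r_a
theorem pf_sm {G Ω : Type*} [Group G] [MulAction G Ω] {g : ℕ → G} {pt : ℕ → Ω} {c : ℕ}
    (M : Md g pt Tm 1728 7 B1 c) : Sm (wds g pf_W) (fun i => pt (pfE i)) pfP 20 1 pfB ∧ ∀ i < 20, pfE i < 1728 :=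
  M.res (pf_act M) (by decide) pf_r pf_b
theorem pfl0_e : ∀ i < 4, (dent pfl0 (wdsP pfP pfe) (nat_lit 20)) i = 0 := allZ_sound0 pfl0_e_0
theorem pfl0_ok : DOK pfl0 (wdsP pfP pfe) 20 := ⟨pfl0_h, pfl0_e⟩
theorem pf_low {G Ω : Type*} [Group G] [MulAction G Ω] {g : ℕ → G} {pt : ℕ → Ω} {c : ℕ}
    (M : Md g pt Tm 1728 7 B1 c) : SLow (gi (wds (wds g pf_W) pfe)) (fun i => pt (pfE i)) 20 [pfl0] :=
  (SLow.nil).cons pfl0_ok ((pf_sm M).1.act.wds pf_e 6) pf_f0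
theorem pf_pc {G Ω : Type*} [Group G] [MulAction G Ω] {g : ℕ → G} {pt : ℕ → Ω}
    (M : Md g pt Tm 1728 7 B1 6635520) : PC (wds g pf_W) 1 5 :=
  have := M.fin
  ((pf_sm M).1.pc0 (by decide) pf_p).pc (pf_low M) (pf_sm M).1.inj
    (fun k => evA_mem_gen _ (nth_lt pf_e k)) M.card ⟨by decide, pf_c⟩
theorem pf_pc0 {G Ω : Type*} [Group G] [MulAction G Ω] {g : ℕ → G} {pt : ℕ → Ω} {c : ℕ}
    (M : Md g pt Tm 1728 7 B1 c) : PC0 (wds g pf_W) 1 5 ∧ Nat.card (gen (wds g pf_W) 1) = 5 ^ 1 :=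
  have := M.fin
  pc0c ((pf_sm M).1.pc0 (by decide) pf_p) (pf_low M) (pf_sm M).1.inj (fun k => evA_mem_gen _ (nth_lt pf_e k)) pf_c.1
theorem co4 : ∀ i < 5, (comEnt Tm Tm 5 B1 co4U co4V) i = 0 := allZ_sound0 co4_0
theorem wzpx_act {G Ω : Type*} [Group G] [MulAction G Ω] {g : ℕ → G} {pt : ℕ → Ω} {c : ℕ}
    (M : Md g pt Tm 1728 7 B1 c) : Act (wds g wzpx_W) pt wzpx_P 1728 2 :=
  M.wact wzpx_lt
theorem wzpth_act {G Ω : Type*} [Group G] [MulAction G Ω] {g : ℕ → G} {pt : ℕ → Ω} {c : ℕ}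
    (M : Md g pt Tm 1728 7 B1 c) : Act (wds g wzpth_W) pt wzpth_P 1728 14 :=
  M.wact wzpth_lt
theorem wzptl0_e : ∀ i < 1727, (dent wzptl0 wzpth_P (nat_lit 1728)) i = 0 := allZ_sound0 wzptl0_e_0
theorem wzptl0_ok : DOK wzptl0 wzpth_P 1728 := ⟨wzptl0_h, wzptl0_e⟩
theorem wzptl1_e : ∀ i < 159, (dent wzptl1 wzpth_P (nat_lit 1728)) i = 0 := allZ_sound0 wzptl1_e_0
theorem wzptl1_ok : DOK wzptl1 wzpth_P 1728 := ⟨wzptl1_h, wzptl1_e⟩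
theorem wzptl2_e : ∀ i < 23, (dent wzptl2 wzpth_P (nat_lit 1728)) i = 0 := allZ_sound0 wzptl2_e_0
theorem wzptl2_ok : DOK wzptl2 wzpth_P 1728 := ⟨wzptl2_h, wzptl2_e⟩
theorem wzpt_low {G Ω : Type*} [Group G] [MulAction G Ω] {g : ℕ → G} {pt : ℕ → Ω} {c : ℕ}
    (M : Md g pt Tm 1728 7 B1 c) : SLow (gi (wds g wzpth_W)) pt 1728 [wzptl0, wzptl1, wzptl2] :=
  (((SLow.nil).cons wzptl2_ok (wzpth_act M) wzpt_f2).cons wzptl1_ok (wzpth_act M) wzpt_f1).cons wzptl0_ok (wzpth_act M) wzpt_f0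
theorem wzpt_S0 {G Ω : Type*} [Group G] [MulAction G Ω] {g : ℕ → G} {pt : ℕ → Ω}
    (M : Md g pt Tm 1728 7 B1 6635520) : Stage ⊤ (wds g wzpth_W) pt 1728 [wzptl0, wzptl1, wzptl2] [] :=
  M.stage (wzpt_low M) wzpt_c
theorem wzpt_S1 {G Ω : Type*} [Group G] [MulAction G Ω] {g : ℕ → G} {pt : ℕ → Ω}
    (M : Md g pt Tm 1728 7 B1 6635520) : Stage ⊤ (wds g wzpth_W) pt 1728 [wzptl1, wzptl2] [wzptl0.Pt 0] :=
  (wzpt_S0 M).next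
theorem wzpt_S2 {G Ω : Type*} [Group G] [MulAction G Ω] {g : ℕ → G} {pt : ℕ → Ω}
    (M : Md g pt Tm 1728 7 B1 6635520) : Stage ⊤ (wds g wzpth_W) pt 1728 [wzptl2] [wzptl1.Pt 0, wzptl0.Pt 0] :=
  (wzpt_S1 M).next
theorem wzpt_S3 {G Ω : Type*} [Group G] [MulAction G Ω] {g : ℕ → G} {pt : ℕ → Ω}
    (M : Md g pt Tm 1728 7 B1 6635520) : Stage ⊤ (wds g wzpth_W) pt 1728 [] [wzptl2.Pt 0, wzptl1.Pt 0, wzptl0.Pt 0] :=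
  (wzpt_S2 M).next
theorem wzpe_act {G Ω : Type*} [Group G] [MulAction G Ω] {g : ℕ → G} {pt : ℕ → Ω} {c : ℕ}
    (M : Md g pt Tm 1728 7 B1 c) : Act (wds g wzpe_W) pt wzpe_P 1728 2 :=
  M.wact wzpe_lt
theorem wzpc0_e : ∀ i < 3, (dent wzpc0 wzpe_P (nat_lit 1728)) i = 0 := allZ_sound0 wzpc0_e_0
theorem wzpc0_ok : DOK wzpc0 wzpe_P 1728 := ⟨wzpc0_h, wzpc0_e⟩
theorem wzptn0_1 : ∀ i < 1728, (wzptn0.ent Tm wzpth_P wzpx_P wzpx_P wzpe_P (nat_lit 7) (nat_lit 2) B1 wzptl0 [wzptl1, wzptl2] (memO wzpc0)) i = 0 := allZ_sound0 wzptn0_1_0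
theorem wzptn0_t {G Ω : Type*} [Group G] [MulAction G Ω] {g : ℕ → G} {pt : ℕ → Ω}
    (M : Md g pt Tm 1728 7 B1 6635520) : TrO (gen (wds g wzpth_W) wzptl0.K) (wds g wzpx_W) (wds g wzpx_W) 2 pt 1728 (wzptl0.Pt 0) (memO wzpc0) :=
  node M (wzpt_S0 M) (wzpth_act M) (wzpx_act M) (wzpx_act M) wzptn0 ((wzpe_act M).mono (by decide)) (fun _ _ => trivial) wzptn0_0 wzptn0_1 (List.forall_mem_nil _)
theorem wzp {G Ω : Type*} [Group G] [MulAction G Ω] {g : ℕ → G} {pt : ℕ → Ω}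
    (M : Md g pt Tm 1728 7 B1 6635520) : Cen ⊤ (wds g wzpx_W) 2 (wds g wzpe_W) pt 1728 [wzpc0] :=
  (wzpt_S0 M).top ▸ Cen.lev M (wzpt_S0 M) (Cen.triv (wzpt_S1 M) (Cen.triv (wzpt_S2 M) (Cen.bot) (forced (wzpt_S2 M) (wzpth_act M) (wzpx_act M) _ _ wzp_f2)) (forced (wzpt_S1 M) (wzpth_act M) (wzpx_act M) _ _ wzp_f1)) (wzptn0_t M) (wzpx_act M) (wzpe_act M) (fun _ _ => trivial) wzpc0_ok wzp_f0
theorem wzp_eq {G Ω : Type*} [Group G] [MulAction G Ω] {g : ℕ → G} {pt : ℕ → Ω}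
    (M : Md g pt Tm 1728 7 B1 6635520) : Subgroup.centralizer (gen (wds g wzpx_W) 2) = gen (wds g wzpe_W) 2 ∧ Nat.card (gen (wds g wzpe_W) 2) = 4 :=
  wzp_c.1 ▸ wzp_c.2 ▸ ⟨(wzp M).cent, (wzp M).card M.inj⟩
theorem en7a : ∀ k < 2, ∀ i < 4, (tupEnt wzpe_P en7T en7N (nat_lit 1728) (nat_lit 4) (nat_lit 4)) k i = 0 := allZ2_sound en7a_a
theorem en7b : ∀ i < 4, (enEnt wzpe_P en7T en7W (nat_lit 4)) i = 0 := allZ_sound0 en7b_0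
theorem cl8 : ∀ i < 4, (clEnt wzpe_P (wdsP Tm wW) 38 39 B1 cl8L en7W) i = 0 := allZ_sound0 cl8_0
theorem cl8g {G Ω : Type*} [Group G] [MulAction G Ω] {pt : ℕ → Ω} {w : ℕ → G} (S : Bm G pt 1728 B1) (hw : Act w pt (wdsP Tm wW) 1728 39) {x : ℕ → G}
    (e : En x 2 en7W 4) (hx : Act x pt wzpe_P 1728 2) : ∀ v ∈ gen x 2,
    v = 1 ∨ v = w 0 ∨ v = w 1 ∨ v = w 0 * w 1 := S.cls e hx hw en7c.2.1 cl8
theorem bzpx_act {G Ω : Type*} [Group G] [MulAction G Ω] {g : ℕ → G} {pt : ℕ → Ω} {c : ℕ}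
    (M : Md g pt Tm 1728 7 B1 c) : Act (wds g bzpx_W) pt bzpx_P 1728 2 :=
  M.wact bzpx_lt
theorem bzpth_act {G Ω : Type*} [Group G] [MulAction G Ω] {g : ℕ → G} {pt : ℕ → Ω} {c : ℕ}
    (M : Md g pt Tm 1728 7 B1 c) : Act (wds g bzpth_W) pt bzpth_P 1728 13 :=
  M.wact bzpth_lt
theorem bzptl0_e : ∀ i < 1727, (dent bzptl0 bzpth_P (nat_lit 1728)) i = 0 := allZ_sound0 bzptl0_e_0
theorem bzptl0_ok : DOK bzptl0 bzpth_P 1728 := ⟨bzptl0_h, bzptl0_e⟩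
theorem bzptl1_e : ∀ i < 19, (dent bzptl1 bzpth_P (nat_lit 1728)) i = 0 := allZ_sound0 bzptl1_e_0
theorem bzptl1_ok : DOK bzptl1 bzpth_P 1728 := ⟨bzptl1_h, bzptl1_e⟩
theorem bzptl2_e : ∀ i < 63, (dent bzptl2 bzpth_P (nat_lit 1728)) i = 0 := allZ_sound0 bzptl2_e_0
theorem bzptl2_ok : DOK bzptl2 bzpth_P 1728 := ⟨bzptl2_h, bzptl2_e⟩
theorem bzptl3_e : ∀ i < 2, (dent bzptl3 bzpth_P (nat_lit 1728)) i = 0 := allZ_sound0 bzptl3_e_0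
theorem bzptl3_ok : DOK bzptl3 bzpth_P 1728 := ⟨bzptl3_h, bzptl3_e⟩
theorem bzpt_low {G Ω : Type*} [Group G] [MulAction G Ω] {g : ℕ → G} {pt : ℕ → Ω} {c : ℕ}
    (M : Md g pt Tm 1728 7 B1 c) : SLow (gi (wds g bzpth_W)) pt 1728 [bzptl0, bzptl1, bzptl2, bzptl3] :=
  ((((SLow.nil).cons bzptl3_ok (bzpth_act M) bzpt_f3).cons bzptl2_ok (bzpth_act M) bzpt_f2).cons bzptl1_ok (bzpth_act M) bzpt_f1).cons bzptl0_ok (bzpth_act M) bzpt_f0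
theorem bzpt_S0 {G Ω : Type*} [Group G] [MulAction G Ω] {g : ℕ → G} {pt : ℕ → Ω}
    (M : Md g pt Tm 1728 7 B1 6635520) : Stage ⊤ (wds g bzpth_W) pt 1728 [bzptl0, bzptl1, bzptl2, bzptl3] [] :=
  M.stage (bzpt_low M) bzpt_c
theorem bzpt_S1 {G Ω : Type*} [Group G] [MulAction G Ω] {g : ℕ → G} {pt : ℕ → Ω}
    (M : Md g pt Tm 1728 7 B1 6635520) : Stage ⊤ (wds g bzpth_W) pt 1728 [bzptl1, bzptl2, bzptl3] [bzptl0.Pt 0] :=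
  (bzpt_S0 M).next
theorem bzpt_S2 {G Ω : Type*} [Group G] [MulAction G Ω] {g : ℕ → G} {pt : ℕ → Ω}
    (M : Md g pt Tm 1728 7 B1 6635520) : Stage ⊤ (wds g bzpth_W) pt 1728 [bzptl2, bzptl3] [bzptl1.Pt 0, bzptl0.Pt 0] :=
  (bzpt_S1 M).next
theorem bzpt_S3 {G Ω : Type*} [Group G] [MulAction G Ω] {g : ℕ → G} {pt : ℕ → Ω}
    (M : Md g pt Tm 1728 7 B1 6635520) : Stage ⊤ (wds g bzpth_W) pt 1728 [bzptl3] [bzptl2.Pt 0, bzptl1.Pt 0, bzptl0.Pt 0] :=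
  (bzpt_S2 M).next
theorem bzpt_S4 {G Ω : Type*} [Group G] [MulAction G Ω] {g : ℕ → G} {pt : ℕ → Ω}
    (M : Md g pt Tm 1728 7 B1 6635520) : Stage ⊤ (wds g bzpth_W) pt 1728 [] [bzptl3.Pt 0, bzptl2.Pt 0, bzptl1.Pt 0, bzptl0.Pt 0] :=
  (bzpt_S3 M).next
theorem bzpe_act {G Ω : Type*} [Group G] [MulAction G Ω] {g : ℕ → G} {pt : ℕ → Ω} {c : ℕ}
    (M : Md g pt Tm 1728 7 B1 c) : Act (wds g bzpe_W) pt bzpe_P 1728 2 :=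
  M.wact bzpe_lt
theorem bzpc0_e : ∀ i < 3, (dent bzpc0 bzpe_P (nat_lit 1728)) i = 0 := allZ_sound0 bzpc0_e_0
theorem bzpc0_ok : DOK bzpc0 bzpe_P 1728 := ⟨bzpc0_h, bzpc0_e⟩
theorem bzptn0_1 : ∀ i < 1728, (bzptn0.ent Tm bzpth_P bzpx_P bzpx_P bzpe_P (nat_lit 7) (nat_lit 2) B1 bzptl0 [bzptl1, bzptl2, bzptl3] (memO bzpc0)) i = 0 := allZ_sound0 bzptn0_1_0
theorem bzptn0_t {G Ω : Type*} [Group G] [MulAction G Ω] {g : ℕ → G} {pt : ℕ → Ω}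
    (M : Md g pt Tm 1728 7 B1 6635520) : TrO (gen (wds g bzpth_W) bzptl0.K) (wds g bzpx_W) (wds g bzpx_W) 2 pt 1728 (bzptl0.Pt 0) (memO bzpc0) :=
  node M (bzpt_S0 M) (bzpth_act M) (bzpx_act M) (bzpx_act M) bzptn0 ((bzpe_act M).mono (by decide)) (fun _ _ => trivial) bzptn0_0 bzptn0_1 (List.forall_mem_nil _)
theorem bzp {G Ω : Type*} [Group G] [MulAction G Ω] {g : ℕ → G} {pt : ℕ → Ω}
    (M : Md g pt Tm 1728 7 B1 6635520) : Cen ⊤ (wds g bzpx_W) 2 (wds g bzpe_W) pt 1728 [bzpc0] :=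
  (bzpt_S0 M).top ▸ Cen.lev M (bzpt_S0 M) (Cen.triv (bzpt_S1 M) (Cen.triv (bzpt_S2 M) (Cen.triv (bzpt_S3 M) (Cen.bot) (forced (bzpt_S3 M) (bzpth_act M) (bzpx_act M) _ _ bzp_f3)) (forced (bzpt_S2 M) (bzpth_act M) (bzpx_act M) _ _ bzp_f2)) (forced (bzpt_S1 M) (bzpth_act M) (bzpx_act M) _ _ bzp_f1)) (bzptn0_t M) (bzpx_act M) (bzpe_act M) (fun _ _ => trivial) bzpc0_ok bzp_f0
theorem bzp_eq {G Ω : Type*} [Group G] [MulAction G Ω] {g : ℕ → G} {pt : ℕ → Ω}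
    (M : Md g pt Tm 1728 7 B1 6635520) : Subgroup.centralizer (gen (wds g bzpx_W) 2) = gen (wds g bzpe_W) 2 ∧ Nat.card (gen (wds g bzpe_W) 2) = 4 :=
  bzp_c.1 ▸ bzp_c.2 ▸ ⟨(bzp M).cent, (bzp M).card M.inj⟩
theorem en10a : ∀ k < 2, ∀ i < 4, (tupEnt bzpe_P en10T en10N (nat_lit 1728) (nat_lit 4) (nat_lit 4)) k i = 0 := allZ2_sound en10a_a
theorem en10b : ∀ i < 4, (enEnt bzpe_P en10T en10W (nat_lit 4)) i = 0 := allZ_sound0 en10b_0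
theorem cl11 : ∀ i < 4, (clEnt (wdsP (wdsP P mW) bzpe_W) (catP (wdsP P wG) 38 (wdsP P uW)) 77 (38 + 40) B cl11L en10W) i = 0 := allZ_sound0 cl11_0
theorem cl11g {G Ω : Type*} [Group G] [MulAction G Ω] {pt : ℕ → Ω} {w u : ℕ → G} (S : Bm G pt 1782 B) (hw : Act (cat w 38 u) pt (catP (wdsP P wG) 38 (wdsP P uW)) 1782 (38 + 40)) {x : ℕ → G}
    (e : En x 2 en10W 4) (hx : Act x pt (wdsP (wdsP P mW) bzpe_W) 1782 2) : ∀ v ∈ gen x 2,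
    u 2 * v ≠ v * w 7 * w 1 * u 2 := S.cls e hx hw en10c.2.1 cl11
theorem wb1x_act {G Ω : Type*} [Group G] [MulAction G Ω] {g : ℕ → G} {pt : ℕ → Ω} {c : ℕ}
    (M : Md g pt Tm 1728 7 B1 c) : Act (wds g wb1x_W) pt wb1x_P 1728 2 :=
  M.wact wb1x_lt
theorem wb1th_act {G Ω : Type*} [Group G] [MulAction G Ω] {g : ℕ → G} {pt : ℕ → Ω} {c : ℕ}
    (M : Md g pt Tm 1728 7 B1 c) : Act (wds g wb1th_W) pt wb1th_P 1728 13 :=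
  M.wact wb1th_lt
theorem wb1tl0_e : ∀ i < 1727, (dent wb1tl0 wb1th_P (nat_lit 1728)) i = 0 := allZ_sound0 wb1tl0_e_0
theorem wb1tl0_ok : DOK wb1tl0 wb1th_P 1728 := ⟨wb1tl0_h, wb1tl0_e⟩
theorem wb1tl1_e : ∀ i < 9, (dent wb1tl1 wb1th_P (nat_lit 1728)) i = 0 := allZ_sound0 wb1tl1_e_0
theorem wb1tl1_ok : DOK wb1tl1 wb1th_P 1728 := ⟨wb1tl1_h, wb1tl1_e⟩
theorem wb1tl2_e : ∀ i < 127, (dent wb1tl2 wb1th_P (nat_lit 1728)) i = 0 := allZ_sound0 wb1tl2_e_0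
theorem wb1tl2_ok : DOK wb1tl2 wb1th_P 1728 := ⟨wb1tl2_h, wb1tl2_e⟩
theorem wb1tl3_e : ∀ i < 2, (dent wb1tl3 wb1th_P (nat_lit 1728)) i = 0 := allZ_sound0 wb1tl3_e_0
theorem wb1tl3_ok : DOK wb1tl3 wb1th_P 1728 := ⟨wb1tl3_h, wb1tl3_e⟩
theorem wb1t_low {G Ω : Type*} [Group G] [MulAction G Ω] {g : ℕ → G} {pt : ℕ → Ω} {c : ℕ}
    (M : Md g pt Tm 1728 7 B1 c) : SLow (gi (wds g wb1th_W)) pt 1728 [wb1tl0, wb1tl1, wb1tl2, wb1tl3] :=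
  ((((SLow.nil).cons wb1tl3_ok (wb1th_act M) wb1t_f3).cons wb1tl2_ok (wb1th_act M) wb1t_f2).cons wb1tl1_ok (wb1th_act M) wb1t_f1).cons wb1tl0_ok (wb1th_act M) wb1t_f0
theorem wb1t_S0 {G Ω : Type*} [Group G] [MulAction G Ω] {g : ℕ → G} {pt : ℕ → Ω}
    (M : Md g pt Tm 1728 7 B1 6635520) : Stage ⊤ (wds g wb1th_W) pt 1728 [wb1tl0, wb1tl1, wb1tl2, wb1tl3] [] :=
  M.stage (wb1t_low M) wb1t_c
theorem wb1t_S1 {G Ω : Type*} [Group G] [MulAction G Ω] {g : ℕ → G} {pt : ℕ → Ω}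
    (M : Md g pt Tm 1728 7 B1 6635520) : Stage ⊤ (wds g wb1th_W) pt 1728 [wb1tl1, wb1tl2, wb1tl3] [wb1tl0.Pt 0] :=
  (wb1t_S0 M).next
theorem wb1t_S2 {G Ω : Type*} [Group G] [MulAction G Ω] {g : ℕ → G} {pt : ℕ → Ω}
    (M : Md g pt Tm 1728 7 B1 6635520) : Stage ⊤ (wds g wb1th_W) pt 1728 [wb1tl2, wb1tl3] [wb1tl1.Pt 0, wb1tl0.Pt 0] :=
  (wb1t_S1 M).next
theorem wb1t_S3 {G Ω : Type*} [Group G] [MulAction G Ω] {g : ℕ → G} {pt : ℕ → Ω}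
    (M : Md g pt Tm 1728 7 B1 6635520) : Stage ⊤ (wds g wb1th_W) pt 1728 [wb1tl3] [wb1tl2.Pt 0, wb1tl1.Pt 0, wb1tl0.Pt 0] :=
  (wb1t_S2 M).next
theorem wb1t_S4 {G Ω : Type*} [Group G] [MulAction G Ω] {g : ℕ → G} {pt : ℕ → Ω}
    (M : Md g pt Tm 1728 7 B1 6635520) : Stage ⊤ (wds g wb1th_W) pt 1728 [] [wb1tl3.Pt 0, wb1tl2.Pt 0, wb1tl1.Pt 0, wb1tl0.Pt 0] :=
  (wb1t_S3 M).next
theorem wb1e_act {G Ω : Type*} [Group G] [MulAction G Ω] {g : ℕ → G} {pt : ℕ → Ω} {c : ℕ}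
    (M : Md g pt Tm 1728 7 B1 c) : Act (wds g wb1e_W) pt wb1e_P 1728 2 :=
  M.wact wb1e_lt
theorem wb1c0_e : ∀ i < 3, (dent wb1c0 wb1e_P (nat_lit 1728)) i = 0 := allZ_sound0 wb1c0_e_0
theorem wb1c0_ok : DOK wb1c0 wb1e_P 1728 := ⟨wb1c0_h, wb1c0_e⟩
theorem wb1tn0_1 : ∀ i < 1728, (wb1tn0.ent Tm wb1th_P wb1x_P wb1x_P wb1e_P (nat_lit 7) (nat_lit 2) B1 wb1tl0 [wb1tl1, wb1tl2, wb1tl3] (memO wb1c0)) i = 0 := allZ_sound0 wb1tn0_1_0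
theorem wb1tn0_t {G Ω : Type*} [Group G] [MulAction G Ω] {g : ℕ → G} {pt : ℕ → Ω}
    (M : Md g pt Tm 1728 7 B1 6635520) : TrO (gen (wds g wb1th_W) wb1tl0.K) (wds g wb1x_W) (wds g wb1x_W) 2 pt 1728 (wb1tl0.Pt 0) (memO wb1c0) :=
  node M (wb1t_S0 M) (wb1th_act M) (wb1x_act M) (wb1x_act M) wb1tn0 ((wb1e_act M).mono (by decide)) (fun _ _ => trivial) wb1tn0_0 wb1tn0_1 (List.forall_mem_nil _)
theorem wb1 {G Ω : Type*} [Group G] [MulAction G Ω] {g : ℕ → G} {pt : ℕ → Ω}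
    (M : Md g pt Tm 1728 7 B1 6635520) : Cen ⊤ (wds g wb1x_W) 2 (wds g wb1e_W) pt 1728 [wb1c0] :=
  (wb1t_S0 M).top ▸ Cen.lev M (wb1t_S0 M) (Cen.triv (wb1t_S1 M) (Cen.triv (wb1t_S2 M) (Cen.triv (wb1t_S3 M) (Cen.bot) (forced (wb1t_S3 M) (wb1th_act M) (wb1x_act M) _ _ wb1_f3)) (forced (wb1t_S2 M) (wb1th_act M) (wb1x_act M) _ _ wb1_f2)) (forced (wb1t_S1 M) (wb1th_act M) (wb1x_act M) _ _ wb1_f1)) (wb1tn0_t M) (wb1x_act M) (wb1e_act M) (fun _ _ => trivial) wb1c0_ok wb1_f0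
theorem wb1_eq {G Ω : Type*} [Group G] [MulAction G Ω] {g : ℕ → G} {pt : ℕ → Ω}
    (M : Md g pt Tm 1728 7 B1 6635520) : Subgroup.centralizer (gen (wds g wb1x_W) 2) = gen (wds g wb1e_W) 2 ∧ Nat.card (gen (wds g wb1e_W) 2) = 4 :=
  wb1_c.1 ▸ wb1_c.2 ▸ ⟨(wb1 M).cent, (wb1 M).card M.inj⟩
theorem en13a : ∀ k < 2, ∀ i < 4, (tupEnt wb1e_P en13T en13N (nat_lit 1728) (nat_lit 4) (nat_lit 4)) k i = 0 := allZ2_sound en13a_a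
theorem en13b : ∀ i < 4, (enEnt wb1e_P en13T en13W (nat_lit 4)) i = 0 := allZ_sound0 en13b_0
theorem cl14 : ∀ i < 4, (clEnt wb1e_P (wdsP Tm wW) 38 39 B1 cl14L en13W) i = 0 := allZ_sound0 cl14_0
theorem cl14g {G Ω : Type*} [Group G] [MulAction G Ω] {pt : ℕ → Ω} {w : ℕ → G} (S : Bm G pt 1728 B1) (hw : Act w pt (wdsP Tm wW) 1728 39) {x : ℕ → G}
    (e : En x 2 en13W 4) (hx : Act x pt wb1e_P 1728 2) : ∀ v ∈ gen x 2,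
    v = 1 ∨ v = w 0 ∨ v = w 8 ∨ v = w 0 * w 8 := S.cls e hx hw en13c.2.1 cl14
theorem n3x_act {G Ω : Type*} [Group G] [MulAction G Ω] {g : ℕ → G} {pt : ℕ → Ω} {c : ℕ}
    (M : Md g pt Tm 1728 7 B1 c) : Act (wds g n3x_W) pt n3x_P 1728 5 :=
  M.wact n3x_lt
theorem n3th_act {G Ω : Type*} [Group G] [MulAction G Ω] {g : ℕ → G} {pt : ℕ → Ω} {c : ℕ}
    (M : Md g pt Tm 1728 7 B1 c) : Act (wds g n3th_W) pt n3th_P 1728 13 :=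
  M.wact n3th_lt
theorem n3tl0_e : ∀ i < 1727, (dent n3tl0 n3th_P (nat_lit 1728)) i = 0 := allZ_sound0 n3tl0_e_0
theorem n3tl0_ok : DOK n3tl0 n3th_P 1728 := ⟨n3tl0_h, n3tl0_e⟩
theorem n3tl1_e : ∀ i < 31, (dent n3tl1 n3th_P (nat_lit 1728)) i = 0 := allZ_sound0 n3tl1_e_0
theorem n3tl1_ok : DOK n3tl1 n3th_P 1728 := ⟨n3tl1_h, n3tl1_e⟩
theorem n3tl2_e : ∀ i < 9, (dent n3tl2 n3th_P (nat_lit 1728)) i = 0 := allZ_sound0 n3tl2_e_0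
theorem n3tl2_ok : DOK n3tl2 n3th_P 1728 := ⟨n3tl2_h, n3tl2_e⟩
theorem n3tl3_e : ∀ i < 3, (dent n3tl3 n3th_P (nat_lit 1728)) i = 0 := allZ_sound0 n3tl3_e_0
theorem n3tl3_ok : DOK n3tl3 n3th_P 1728 := ⟨n3tl3_h, n3tl3_e⟩
theorem n3tl4_e : ∀ i < 2, (dent n3tl4 n3th_P (nat_lit 1728)) i = 0 := allZ_sound0 n3tl4_e_0
theorem n3tl4_ok : DOK n3tl4 n3th_P 1728 := ⟨n3tl4_h, n3tl4_e⟩
theorem n3t_low {G Ω : Type*} [Group G] [MulAction G Ω] {g : ℕ → G} {pt : ℕ → Ω} {c : ℕ}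
    (M : Md g pt Tm 1728 7 B1 c) : SLow (gi (wds g n3th_W)) pt 1728 [n3tl0, n3tl1, n3tl2, n3tl3, n3tl4] :=
  (((((SLow.nil).cons n3tl4_ok (n3th_act M) n3t_f4).cons n3tl3_ok (n3th_act M) n3t_f3).cons n3tl2_ok (n3th_act M) n3t_f2).cons n3tl1_ok (n3th_act M) n3t_f1).cons n3tl0_ok (n3th_act M) n3t_f0
theorem n3t_S0 {G Ω : Type*} [Group G] [MulAction G Ω] {g : ℕ → G} {pt : ℕ → Ω}
    (M : Md g pt Tm 1728 7 B1 6635520) : Stage ⊤ (wds g n3th_W) pt 1728 [n3tl0, n3tl1, n3tl2, n3tl3, n3tl4] [] :=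
  M.stage (n3t_low M) n3t_c
theorem n3t_S1 {G Ω : Type*} [Group G] [MulAction G Ω] {g : ℕ → G} {pt : ℕ → Ω}
    (M : Md g pt Tm 1728 7 B1 6635520) : Stage ⊤ (wds g n3th_W) pt 1728 [n3tl1, n3tl2, n3tl3, n3tl4] [n3tl0.Pt 0] :=
  (n3t_S0 M).next
theorem n3t_S2 {G Ω : Type*} [Group G] [MulAction G Ω] {g : ℕ → G} {pt : ℕ → Ω}
    (M : Md g pt Tm 1728 7 B1 6635520) : Stage ⊤ (wds g n3th_W) pt 1728 [n3tl2, n3tl3, n3tl4] [n3tl1.Pt 0, n3tl0.Pt 0] :=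
  (n3t_S1 M).next
theorem n3t_S3 {G Ω : Type*} [Group G] [MulAction G Ω] {g : ℕ → G} {pt : ℕ → Ω}
    (M : Md g pt Tm 1728 7 B1 6635520) : Stage ⊤ (wds g n3th_W) pt 1728 [n3tl3, n3tl4] [n3tl2.Pt 0, n3tl1.Pt 0, n3tl0.Pt 0] :=
  (n3t_S2 M).next
theorem n3t_S4 {G Ω : Type*} [Group G] [MulAction G Ω] {g : ℕ → G} {pt : ℕ → Ω}
    (M : Md g pt Tm 1728 7 B1 6635520) : Stage ⊤ (wds g n3th_W) pt 1728 [n3tl4] [n3tl3.Pt 0, n3tl2.Pt 0, n3tl1.Pt 0, n3tl0.Pt 0] :=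
  (n3t_S3 M).next
theorem n3t_S5 {G Ω : Type*} [Group G] [MulAction G Ω] {g : ℕ → G} {pt : ℕ → Ω}
    (M : Md g pt Tm 1728 7 B1 6635520) : Stage ⊤ (wds g n3th_W) pt 1728 [] [n3tl4.Pt 0, n3tl3.Pt 0, n3tl2.Pt 0, n3tl1.Pt 0, n3tl0.Pt 0] :=
  (n3t_S4 M).next
theorem n3e_act {G Ω : Type*} [Group G] [MulAction G Ω] {g : ℕ → G} {pt : ℕ → Ω} {c : ℕ}
    (M : Md g pt Tm 1728 7 B1 c) : Act (wds g n3e_W) pt n3e_P 1728 2 :=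
  M.wact n3e_lt
theorem n3c0_e : ∀ i < 3, (dent n3c0 n3e_P (nat_lit 1728)) i = 0 := allZ_sound0 n3c0_e_0
theorem n3c0_ok : DOK n3c0 n3e_P 1728 := ⟨n3c0_h, n3c0_e⟩
theorem n3tn0_1 : ∀ i < 1728, (n3tn0.ent Tm n3th_P n3x_P n3x_P n3e_P (nat_lit 7) (nat_lit 5) B1 n3tl0 [n3tl1, n3tl2, n3tl3, n3tl4] (memO n3c0)) i = 0 := allZ_sound0 n3tn0_1_0
theorem n3tn0_t {G Ω : Type*} [Group G] [MulAction G Ω] {g : ℕ → G} {pt : ℕ → Ω}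
    (M : Md g pt Tm 1728 7 B1 6635520) : TrO (gen (wds g n3th_W) n3tl0.K) (wds g n3x_W) (wds g n3x_W) 5 pt 1728 (n3tl0.Pt 0) (memO n3c0) :=
  node M (n3t_S0 M) (n3th_act M) (n3x_act M) (n3x_act M) n3tn0 ((n3e_act M).mono (by decide)) (fun _ _ => trivial) n3tn0_0 n3tn0_1 (List.forall_mem_nil _)
theorem n3 {G Ω : Type*} [Group G] [MulAction G Ω] {g : ℕ → G} {pt : ℕ → Ω}
    (M : Md g pt Tm 1728 7 B1 6635520) : Cen ⊤ (wds g n3x_W) 5 (wds g n3e_W) pt 1728 [n3c0] :=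
  (n3t_S0 M).top ▸ Cen.lev M (n3t_S0 M) (Cen.triv (n3t_S1 M) (Cen.triv (n3t_S2 M) (Cen.triv (n3t_S3 M) (Cen.triv (n3t_S4 M) (Cen.bot) (forced (n3t_S4 M) (n3th_act M) (n3x_act M) _ _ n3_f4)) (forced (n3t_S3 M) (n3th_act M) (n3x_act M) _ _ n3_f3)) (forced (n3t_S2 M) (n3th_act M) (n3x_act M) _ _ n3_f2)) (forced (n3t_S1 M) (n3th_act M) (n3x_act M) _ _ n3_f1)) (n3tn0_t M) (n3x_act M) (n3e_act M) (fun _ _ => trivial) n3c0_ok n3_f0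
theorem n3_eq {G Ω : Type*} [Group G] [MulAction G Ω] {g : ℕ → G} {pt : ℕ → Ω}
    (M : Md g pt Tm 1728 7 B1 6635520) : Subgroup.centralizer (gen (wds g n3x_W) 5) = gen (wds g n3e_W) 2 ∧ Nat.card (gen (wds g n3e_W) 2) = 4 :=
  n3_c.1 ▸ n3_c.2 ▸ ⟨(n3 M).cent, (n3 M).card M.inj⟩
theorem en19a : ∀ k < 2, ∀ i < 4, (tupEnt n3e_P en19T en19N (nat_lit 1728) (nat_lit 4) (nat_lit 4)) k i = 0 := allZ2_sound en19a_a
theorem en19b : ∀ i < 4, (enEnt n3e_P en19T en19W (nat_lit 4)) i = 0 := allZ_sound0 en19b_0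
theorem cl20 : ∀ i < 4, (clEnt (wdsP (wdsP P mW) n3e_W) (catP (wdsP P wG) 38 (wdsP P uW)) 77 (38 + 40) B cl20L en19W) i = 0 := allZ_sound0 cl20_0
theorem cl20g {G Ω : Type*} [Group G] [MulAction G Ω] {pt : ℕ → Ω} {w u : ℕ → G} (S : Bm G pt 1782 B) (hw : Act (cat w 38 u) pt (catP (wdsP P wG) 38 (wdsP P uW)) 1782 (38 + 40)) {x : ℕ → G}
    (e : En x 2 en19W 4) (hx : Act x pt (wdsP (wdsP P mW) n3e_W) 1782 2) : ∀ v ∈ gen x 2,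
    v * v ≠ 1 ∨ u 9 * v * u 11 * w 13 ≠ w 13 * u 9 * v * u 11 ∨ v * u 9 * v * u 11 ≠ u 10 * v * u 12 ∨ v = 1 := S.cls e hx hw en19c.2.1 cl20
theorem le29 : ∀ i < 12, (leEnt (pk (catP (wdsP P wG) 38 (wdsP P uW)) [0, 58, 59]) P 3 B le29W) i = 0 := allZ_sound0 le29_0
theorem covr_act {G Ω : Type*} [Group G] [MulAction G Ω] {g : ℕ → G} {pt : ℕ → Ω} {c : ℕ}
    (M : Md g pt Tm 1728 7 B1 c) : Act (wds g covr_W) pt covr_P 1728 6 :=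
  M.wact covr_lt
theorem cov_0 {G Ω : Type*} [Group G] [MulAction G Ω] {g : ℕ → G} {pt : ℕ → Ω}
    (M : Md g pt Tm 1728 7 B1 6635520) : H0.TR.Cov (wds g t_W) (wds g covr_W) 2 6 14 (evA (wds g t_W) []) :=
  have := M.fin
  covT0.cov M (t_sm M).1 (t_sm M).2 (covr_act M) (t_pc M) _ _ cov_c0
theorem cov {G Ω : Type*} [Group G] [MulAction G Ω] {g : ℕ → G} {pt : ℕ → Ω}
    (M : Md g pt Tm 1728 7 B1 6635520) {y : G} {e : ℕ} (hy : y ^ 2 ^ e = 1) (hq : y ^ 2 = 1) : Good (wds g covr_W) 6 y :=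
  have := M.fin
  H0.TR.Cov.all (t_pc M) (cov_0 M) hy hq
theorem cj_act {G Ω : Type*} [Group G] [MulAction G Ω] {g : ℕ → G} {pt : ℕ → Ω}
    (M : Md g pt P 1782 13 B 896690995200) : Act (wds g cj_W) pt cj_P 1782 6 :=
  M.wact cj_lt
theorem cjk : ∀ i < 6, (cjEnt cj_P (wdsP (wdsP P mW) covr_W) (pk (catP (wdsP P wG) 38 (wdsP P uW)) [0, 3, 36, 37]) 4 B [nat_lit 1, nat_lit 0, nat_lit 0, nat_lit 0, nat_lit 2, nat_lit 3]) i = 0 := allZ_sound0 cjk_0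
theorem cfx_act {G Ω : Type*} [Group G] [MulAction G Ω] {g : ℕ → G} {pt : ℕ → Ω} {c : ℕ}
    (M : Md g pt Tm 1728 7 B1 c) : Act (wds g cfx_W) pt cfx_P 1728 1 :=
  M.wact cfx_lt
theorem cfth_act {G Ω : Type*} [Group G] [MulAction G Ω] {g : ℕ → G} {pt : ℕ → Ω} {c : ℕ}
    (M : Md g pt Tm 1728 7 B1 c) : Act (wds g cfth_W) pt cfth_P 1728 15 :=
  M.wact cfth_lt
theorem cftl0_e : ∀ i < 1727, (dent cftl0 cfth_P (nat_lit 1728)) i = 0 := allZ_sound0 cftl0_e_0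
theorem cftl0_ok : DOK cftl0 cfth_P 1728 := ⟨cftl0_h, cftl0_e⟩
theorem cftl1_e : ∀ i < 159, (dent cftl1 cfth_P (nat_lit 1728)) i = 0 := allZ_sound0 cftl1_e_0
theorem cftl1_ok : DOK cftl1 cfth_P 1728 := ⟨cftl1_h, cftl1_e⟩
theorem cftl2_e : ∀ i < 5, (dent cftl2 cfth_P (nat_lit 1728)) i = 0 := allZ_sound0 cftl2_e_0
theorem cftl2_ok : DOK cftl2 cfth_P 1728 := ⟨cftl2_h, cftl2_e⟩
theorem cftl3_e : ∀ i < 1, (dent cftl3 cfth_P (nat_lit 1728)) i = 0 := allZ_sound0 cftl3_e_0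
theorem cftl3_ok : DOK cftl3 cfth_P 1728 := ⟨cftl3_h, cftl3_e⟩
theorem cftl4_e : ∀ i < 1, (dent cftl4 cfth_P (nat_lit 1728)) i = 0 := allZ_sound0 cftl4_e_0
theorem cftl4_ok : DOK cftl4 cfth_P 1728 := ⟨cftl4_h, cftl4_e⟩
theorem cft_low {G Ω : Type*} [Group G] [MulAction G Ω] {g : ℕ → G} {pt : ℕ → Ω} {c : ℕ}
    (M : Md g pt Tm 1728 7 B1 c) : SLow (gi (wds g cfth_W)) pt 1728 [cftl0, cftl1, cftl2, cftl3, cftl4] :=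
  (((((SLow.nil).cons cftl4_ok (cfth_act M) cft_f4).cons cftl3_ok (cfth_act M) cft_f3).cons cftl2_ok (cfth_act M) cft_f2).cons cftl1_ok (cfth_act M) cft_f1).cons cftl0_ok (cfth_act M) cft_f0
theorem cft_S0 {G Ω : Type*} [Group G] [MulAction G Ω] {g : ℕ → G} {pt : ℕ → Ω}
    (M : Md g pt Tm 1728 7 B1 6635520) : Stage ⊤ (wds g cfth_W) pt 1728 [cftl0, cftl1, cftl2, cftl3, cftl4] [] :=
  M.stage (cft_low M) cft_c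
theorem cft_S1 {G Ω : Type*} [Group G] [MulAction G Ω] {g : ℕ → G} {pt : ℕ → Ω}
    (M : Md g pt Tm 1728 7 B1 6635520) : Stage ⊤ (wds g cfth_W) pt 1728 [cftl1, cftl2, cftl3, cftl4] [cftl0.Pt 0] :=
  (cft_S0 M).next
theorem cft_S2 {G Ω : Type*} [Group G] [MulAction G Ω] {g : ℕ → G} {pt : ℕ → Ω}
    (M : Md g pt Tm 1728 7 B1 6635520) : Stage ⊤ (wds g cfth_W) pt 1728 [cftl2, cftl3, cftl4] [cftl1.Pt 0, cftl0.Pt 0] :=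
  (cft_S1 M).next
theorem cft_S3 {G Ω : Type*} [Group G] [MulAction G Ω] {g : ℕ → G} {pt : ℕ → Ω}
    (M : Md g pt Tm 1728 7 B1 6635520) : Stage ⊤ (wds g cfth_W) pt 1728 [cftl3, cftl4] [cftl2.Pt 0, cftl1.Pt 0, cftl0.Pt 0] :=
  (cft_S2 M).next
theorem cft_S4 {G Ω : Type*} [Group G] [MulAction G Ω] {g : ℕ → G} {pt : ℕ → Ω}
    (M : Md g pt Tm 1728 7 B1 6635520) : Stage ⊤ (wds g cfth_W) pt 1728 [cftl4] [cftl3.Pt 0, cftl2.Pt 0, cftl1.Pt 0, cftl0.Pt 0] :=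
  (cft_S3 M).next
theorem cft_S5 {G Ω : Type*} [Group G] [MulAction G Ω] {g : ℕ → G} {pt : ℕ → Ω}
    (M : Md g pt Tm 1728 7 B1 6635520) : Stage ⊤ (wds g cfth_W) pt 1728 [] [cftl4.Pt 0, cftl3.Pt 0, cftl2.Pt 0, cftl1.Pt 0, cftl0.Pt 0] :=
  (cft_S4 M).next
theorem cfe_act {G Ω : Type*} [Group G] [MulAction G Ω] {g : ℕ → G} {pt : ℕ → Ω} {c : ℕ}
    (M : Md g pt Tm 1728 7 B1 c) : Act (wds g cfe_W) pt cfe_P 1728 5 :=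
  M.wact cfe_lt
theorem cfc4_e : ∀ i < 1, (dent cfc4 cfe_P (nat_lit 1728)) i = 0 := allZ_sound0 cfc4_e_0
theorem cfc4_ok : DOK cfc4 cfe_P 1728 := ⟨cfc4_h, cfc4_e⟩
theorem cftn0_1 : ∀ i < 2, (cftn0.ent Tm cfth_P cfx_P cfx_P cfe_P (nat_lit 7) (nat_lit 1) B1 cftl4 [] (memO cfc4)) i = 0 := allZ_sound0 cftn0_1_0
theorem cftn0_t {G Ω : Type*} [Group G] [MulAction G Ω] {g : ℕ → G} {pt : ℕ → Ω}
    (M : Md g pt Tm 1728 7 B1 6635520) : TrO (gen (wds g cfth_W) cftl4.K) (wds g cfx_W) (wds g cfx_W) 1 pt 1728 (cftl4.Pt 0) (memO cfc4) :=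
  node M (cft_S4 M) (cfth_act M) (cfx_act M) (cfx_act M) cftn0 ((cfe_act M).mono (by decide)) (fun _ _ => trivial) cftn0_0 cftn0_1 (List.forall_mem_nil _)
theorem cftn1y1706_act {G Ω : Type*} [Group G] [MulAction G Ω] {g : ℕ → G} {pt : ℕ → Ω} {c : ℕ}
    (M : Md g pt Tm 1728 7 B1 c) : Act (wds g cftn1y1706_W) pt cftn1y1706_P 1728 1 :=
  M.wact cftn1y1706_lt
theorem cftr2k_act {G Ω : Type*} [Group G] [MulAction G Ω] {g : ℕ → G} {pt : ℕ → Ω} {c : ℕ}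
    (M : Md g pt Tm 1728 7 B1 c) : Act (wds g cftr2k_W) pt cftr2k_P 1728 2 :=
  M.wact cftr2k_lt
theorem cftn2_1 : ∀ i < 2, (cftn2.ent Tm cfth_P cfx_P cftn1y1706_P cftr2k_P (nat_lit 7) (nat_lit 1) B1 cftl4 [] (fun _ => nat_lit 1)) i = 0 := allZ_sound0 cftn2_1_0
theorem cftn2_t {G Ω : Type*} [Group G] [MulAction G Ω] {g : ℕ → G} {pt : ℕ → Ω}
    (M : Md g pt Tm 1728 7 B1 6635520) : TrO (gen (wds g cfth_W) cftl4.K) (wds g cfx_W) (wds g cftn1y1706_W) 1 pt 1728 (cftl4.Pt 0) (fun _ => nat_lit 1) :=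
  node M (cft_S4 M) (cfth_act M) (cfx_act M) (cftn1y1706_act M) cftn2 ((cftr2k_act M).mono (by decide)) (fun _ _ => trivial) cftn2_0 cftn2_1 (List.forall_mem_nil _)
theorem cftr2 {G Ω : Type*} [Group G] [MulAction G Ω] {g : ℕ → G} {pt : ℕ → Ω}
    (M : Md g pt Tm 1728 7 B1 6635520) : Ref (gen (wds g cfth_W) (topK [cftl4])) (wds g cfx_W) (wds g cftn1y1706_W) 1 :=
  (cftn2_t M).ref
theorem cftn1_1 : ∀ i < 6, (cftn1.ent Tm cfth_P cfx_P cfx_P cfe_P (nat_lit 7) (nat_lit 1) B1 cftl2 [cftl3, cftl4] (fun w => Nat.xor w (cftl2.Pt (nat_lit 0)))) i = 0 := allZ_sound0 cftn1_1_0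
theorem cftn1_t {G Ω : Type*} [Group G] [MulAction G Ω] {g : ℕ → G} {pt : ℕ → Ω}
    (M : Md g pt Tm 1728 7 B1 6635520) : TrO (gen (wds g cfth_W) cftl2.K) (wds g cfx_W) (wds g cfx_W) 1 pt 1728 (cftl2.Pt 0) (fun w => Nat.xor w (cftl2.Pt (nat_lit 0))) :=
  node M (cft_S2 M) (cfth_act M) (cfx_act M) (cfx_act M) cftn1 ((cfe_act M).mono (by decide)) (fun _ _ => trivial) cftn1_0 cftn1_1 (List.forall_mem_cons.2 ⟨cftr2 M, List.forall_mem_nil _⟩)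
theorem cfc0_e : ∀ i < 383, (dent cfc0 cfe_P (nat_lit 1728)) i = 0 := allZ_sound0 cfc0_e_0
theorem cfc0_ok : DOK cfc0 cfe_P 1728 := ⟨cfc0_h, cfc0_e⟩
theorem cftn3_1 : ∀ i < 1728, (cftn3.ent Tm cfth_P cfx_P cfx_P cfe_P (nat_lit 7) (nat_lit 1) B1 cftl0 [cftl1, cftl2, cftl3, cftl4] (memO cfc0)) i = 0 := allZ_sound0 cftn3_1_0
theorem cftn3_t {G Ω : Type*} [Group G] [MulAction G Ω] {g : ℕ → G} {pt : ℕ → Ω}
    (M : Md g pt Tm 1728 7 B1 6635520) : TrO (gen (wds g cfth_W) cftl0.K) (wds g cfx_W) (wds g cfx_W) 1 pt 1728 (cftl0.Pt 0) (memO cfc0) :=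
  node M (cft_S0 M) (cfth_act M) (cfx_act M) (cfx_act M) cftn3 ((cfe_act M).mono (by decide)) (fun _ _ => trivial) cftn3_0 cftn3_1 (List.forall_mem_nil _)
theorem cf {G Ω : Type*} [Group G] [MulAction G Ω] {g : ℕ → G} {pt : ℕ → Ω}
    (M : Md g pt Tm 1728 7 B1 6635520) : Cen ⊤ (wds g cfx_W) 1 (wds g cfe_W) pt 1728 [cfc0, cfc4] :=
  (cft_S0 M).top ▸ Cen.lev M (cft_S0 M) (Cen.triv (cft_S1 M) (Cen.triv (cft_S2 M) (Cen.triv (cft_S3 M) (Cen.lev M (cft_S4 M) (Cen.bot) (cftn0_t M) (cfx_act M) (cfe_act M) (fun _ _ => trivial) cfc4_ok cf_f4) (forced (cft_S3 M) (cfth_act M) (cfx_act M) _ _ cf_f3)) (cftn1_t M)) (forced (cft_S1 M) (cfth_act M) (cfx_act M) _ _ cf_f1)) (cftn3_t M) (cfx_act M) (cfe_act M) (fun _ _ => trivial) cfc0_ok cf_f0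
theorem cf_card {G Ω : Type*} [Group G] [MulAction G Ω] {g : ℕ → G} {pt : ℕ → Ω}
    (M : Md g pt Tm 1728 7 B1 6635520) : Nat.card (Subgroup.centralizer {(wds g cfx_W) 0}) = 768 :=
  (cf M).card_cent1 M.inj cf_c.1
theorem cf_eq {G Ω : Type*} [Group G] [MulAction G Ω] {g : ℕ → G} {pt : ℕ → Ω}
    (M : Md g pt Tm 1728 7 B1 6635520) : Subgroup.centralizer (gen (wds g cfx_W) 1) = gen (wds g cfe_W) 5 ∧ Nat.card (gen (wds g cfe_W) 5) = 768 :=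
  cf_c.1 ▸ cf_c.2 ▸ ⟨(cf M).cent, (cf M).card M.inj⟩
theorem cgx_act {G Ω : Type*} [Group G] [MulAction G Ω] {g : ℕ → G} {pt : ℕ → Ω} {c : ℕ}
    (M : Md g pt Tm 1728 7 B1 c) : Act (wds g cgx_W) pt cgx_P 1728 1 :=
  M.wact cgx_lt
theorem cgth_act {G Ω : Type*} [Group G] [MulAction G Ω] {g : ℕ → G} {pt : ℕ → Ω} {c : ℕ}
    (M : Md g pt Tm 1728 7 B1 c) : Act (wds g cgth_W) pt cgth_P 1728 14 :=
  M.wact cgth_lt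
theorem cgtl0_e : ∀ i < 1727, (dent cgtl0 cgth_P (nat_lit 1728)) i = 0 := allZ_sound0 cgtl0_e_0
theorem cgtl0_ok : DOK cgtl0 cgth_P 1728 := ⟨cgtl0_h, cgtl0_e⟩
theorem cgtl1_e : ∀ i < 9, (dent cgtl1 cgth_P (nat_lit 1728)) i = 0 := allZ_sound0 cgtl1_e_0
theorem cgtl1_ok : DOK cgtl1 cgth_P 1728 := ⟨cgtl1_h, cgtl1_e⟩
theorem cgtl2_e : ∀ i < 7, (dent cgtl2 cgth_P (nat_lit 1728)) i = 0 := allZ_sound0 cgtl2_e_0
theorem cgtl2_ok : DOK cgtl2 cgth_P 1728 := ⟨cgtl2_h, cgtl2_e⟩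
theorem cgtl3_e : ∀ i < 5, (dent cgtl3 cgth_P (nat_lit 1728)) i = 0 := allZ_sound0 cgtl3_e_0
theorem cgtl3_ok : DOK cgtl3 cgth_P 1728 := ⟨cgtl3_h, cgtl3_e⟩
theorem cgtl4_e : ∀ i < 3, (dent cgtl4 cgth_P (nat_lit 1728)) i = 0 := allZ_sound0 cgtl4_e_0
theorem cgtl4_ok : DOK cgtl4 cgth_P 1728 := ⟨cgtl4_h, cgtl4_e⟩
theorem cgtl5_e : ∀ i < 1, (dent cgtl5 cgth_P (nat_lit 1728)) i = 0 := allZ_sound0 cgtl5_e_0
theorem cgtl5_ok : DOK cgtl5 cgth_P 1728 := ⟨cgtl5_h, cgtl5_e⟩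
theorem cgt_low {G Ω : Type*} [Group G] [MulAction G Ω] {g : ℕ → G} {pt : ℕ → Ω} {c : ℕ}
    (M : Md g pt Tm 1728 7 B1 c) : SLow (gi (wds g cgth_W)) pt 1728 [cgtl0, cgtl1, cgtl2, cgtl3, cgtl4, cgtl5] :=
  ((((((SLow.nil).cons cgtl5_ok (cgth_act M) cgt_f5).cons cgtl4_ok (cgth_act M) cgt_f4).cons cgtl3_ok (cgth_act M) cgt_f3).cons cgtl2_ok (cgth_act M) cgt_f2).cons cgtl1_ok (cgth_act M) cgt_f1).cons cgtl0_ok (cgth_act M) cgt_f0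
theorem cgt_S0 {G Ω : Type*} [Group G] [MulAction G Ω] {g : ℕ → G} {pt : ℕ → Ω}
    (M : Md g pt Tm 1728 7 B1 6635520) : Stage ⊤ (wds g cgth_W) pt 1728 [cgtl0, cgtl1, cgtl2, cgtl3, cgtl4, cgtl5] [] :=
  M.stage (cgt_low M) cgt_c
theorem cgt_S1 {G Ω : Type*} [Group G] [MulAction G Ω] {g : ℕ → G} {pt : ℕ → Ω}
    (M : Md g pt Tm 1728 7 B1 6635520) : Stage ⊤ (wds g cgth_W) pt 1728 [cgtl1, cgtl2, cgtl3, cgtl4, cgtl5] [cgtl0.Pt 0] :=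
  (cgt_S0 M).next
theorem cgt_S2 {G Ω : Type*} [Group G] [MulAction G Ω] {g : ℕ → G} {pt : ℕ → Ω}
    (M : Md g pt Tm 1728 7 B1 6635520) : Stage ⊤ (wds g cgth_W) pt 1728 [cgtl2, cgtl3, cgtl4, cgtl5] [cgtl1.Pt 0, cgtl0.Pt 0] :=
  (cgt_S1 M).next
theorem cgt_S3 {G Ω : Type*} [Group G] [MulAction G Ω] {g : ℕ → G} {pt : ℕ → Ω}
    (M : Md g pt Tm 1728 7 B1 6635520) : Stage ⊤ (wds g cgth_W) pt 1728 [cgtl3, cgtl4, cgtl5] [cgtl2.Pt 0, cgtl1.Pt 0, cgtl0.Pt 0] :=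
  (cgt_S2 M).next
theorem cgt_S4 {G Ω : Type*} [Group G] [MulAction G Ω] {g : ℕ → G} {pt : ℕ → Ω}
    (M : Md g pt Tm 1728 7 B1 6635520) : Stage ⊤ (wds g cgth_W) pt 1728 [cgtl4, cgtl5] [cgtl3.Pt 0, cgtl2.Pt 0, cgtl1.Pt 0, cgtl0.Pt 0] :=
  (cgt_S3 M).next
theorem cgt_S5 {G Ω : Type*} [Group G] [MulAction G Ω] {g : ℕ → G} {pt : ℕ → Ω}
    (M : Md g pt Tm 1728 7 B1 6635520) : Stage ⊤ (wds g cgth_W) pt 1728 [cgtl5] [cgtl4.Pt 0, cgtl3.Pt 0, cgtl2.Pt 0, cgtl1.Pt 0, cgtl0.Pt 0] :=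
  (cgt_S4 M).next
theorem cgt_S6 {G Ω : Type*} [Group G] [MulAction G Ω] {g : ℕ → G} {pt : ℕ → Ω}
    (M : Md g pt Tm 1728 7 B1 6635520) : Stage ⊤ (wds g cgth_W) pt 1728 [] [cgtl5.Pt 0, cgtl4.Pt 0, cgtl3.Pt 0, cgtl2.Pt 0, cgtl1.Pt 0, cgtl0.Pt 0] :=
  (cgt_S5 M).next
theorem cge_act {G Ω : Type*} [Group G] [MulAction G Ω] {g : ℕ → G} {pt : ℕ → Ω} {c : ℕ}
    (M : Md g pt Tm 1728 7 B1 c) : Act (wds g cge_W) pt cge_P 1728 7 :=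
  M.wact cge_lt
theorem cgc5_e : ∀ i < 1, (dent cgc5 cge_P (nat_lit 1728)) i = 0 := allZ_sound0 cgc5_e_0
theorem cgc5_ok : DOK cgc5 cge_P 1728 := ⟨cgc5_h, cgc5_e⟩
theorem cgtn0_1 : ∀ i < 2, (cgtn0.ent Tm cgth_P cgx_P cgx_P cge_P (nat_lit 7) (nat_lit 1) B1 cgtl5 [] (memO cgc5)) i = 0 := allZ_sound0 cgtn0_1_0
theorem cgtn0_t {G Ω : Type*} [Group G] [MulAction G Ω] {g : ℕ → G} {pt : ℕ → Ω}
    (M : Md g pt Tm 1728 7 B1 6635520) : TrO (gen (wds g cgth_W) cgtl5.K) (wds g cgx_W) (wds g cgx_W) 1 pt 1728 (cgtl5.Pt 0) (memO cgc5) :=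
  node M (cgt_S5 M) (cgth_act M) (cgx_act M) (cgx_act M) cgtn0 ((cge_act M).mono (by decide)) (fun _ _ => trivial) cgtn0_0 cgtn0_1 (List.forall_mem_nil _)
theorem cgc4_e : ∀ i < 1, (dent cgc4 cge_P (nat_lit 1728)) i = 0 := allZ_sound0 cgc4_e_0
theorem cgc4_ok : DOK cgc4 cge_P 1728 := ⟨cgc4_h, cgc4_e⟩
theorem cgtn1y1146_act {G Ω : Type*} [Group G] [MulAction G Ω] {g : ℕ → G} {pt : ℕ → Ω} {c : ℕ}
    (M : Md g pt Tm 1728 7 B1 c) : Act (wds g cgtn1y1146_W) pt cgtn1y1146_P 1728 1 :=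
  M.wact cgtn1y1146_lt
theorem cgtr2k_act {G Ω : Type*} [Group G] [MulAction G Ω] {g : ℕ → G} {pt : ℕ → Ω} {c : ℕ}
    (M : Md g pt Tm 1728 7 B1 c) : Act (wds g cgtr2k_W) pt cgtr2k_P 1728 2 :=
  M.wact cgtr2k_lt
theorem cgtn2_1 : ∀ i < 2, (cgtn2.ent Tm cgth_P cgx_P cgtn1y1146_P cgtr2k_P (nat_lit 7) (nat_lit 1) B1 cgtl5 [] (fun _ => nat_lit 1)) i = 0 := allZ_sound0 cgtn2_1_0
theorem cgtn2_t {G Ω : Type*} [Group G] [MulAction G Ω] {g : ℕ → G} {pt : ℕ → Ω}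
    (M : Md g pt Tm 1728 7 B1 6635520) : TrO (gen (wds g cgth_W) cgtl5.K) (wds g cgx_W) (wds g cgtn1y1146_W) 1 pt 1728 (cgtl5.Pt 0) (fun _ => nat_lit 1) :=
  node M (cgt_S5 M) (cgth_act M) (cgx_act M) (cgtn1y1146_act M) cgtn2 ((cgtr2k_act M).mono (by decide)) (fun _ _ => trivial) cgtn2_0 cgtn2_1 (List.forall_mem_nil _)
theorem cgtr2 {G Ω : Type*} [Group G] [MulAction G Ω] {g : ℕ → G} {pt : ℕ → Ω}
    (M : Md g pt Tm 1728 7 B1 6635520) : Ref (gen (wds g cgth_W) (topK [cgtl5])) (wds g cgx_W) (wds g cgtn1y1146_W) 1 :=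
  (cgtn2_t M).ref
theorem cgtn1_1 : ∀ i < 4, (cgtn1.ent Tm cgth_P cgx_P cgx_P cge_P (nat_lit 7) (nat_lit 1) B1 cgtl4 [cgtl5] (memO cgc4)) i = 0 := allZ_sound0 cgtn1_1_0
theorem cgtn1_t {G Ω : Type*} [Group G] [MulAction G Ω] {g : ℕ → G} {pt : ℕ → Ω}
    (M : Md g pt Tm 1728 7 B1 6635520) : TrO (gen (wds g cgth_W) cgtl4.K) (wds g cgx_W) (wds g cgx_W) 1 pt 1728 (cgtl4.Pt 0) (memO cgc4) :=
  node M (cgt_S4 M) (cgth_act M) (cgx_act M) (cgx_act M) cgtn1 ((cge_act M).mono (by decide)) (fun _ _ => trivial) cgtn1_0 cgtn1_1 (List.forall_mem_cons.2 ⟨cgtr2 M, List.forall_mem_nil _⟩)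
theorem cgc2_e : ∀ i < 3, (dent cgc2 cge_P (nat_lit 1728)) i = 0 := allZ_sound0 cgc2_e_0
theorem cgc2_ok : DOK cgc2 cge_P 1728 := ⟨cgc2_h, cgc2_e⟩
theorem cgtn3_1 : ∀ i < 8, (cgtn3.ent Tm cgth_P cgx_P cgx_P cge_P (nat_lit 7) (nat_lit 1) B1 cgtl2 [cgtl3, cgtl4, cgtl5] (memO cgc2)) i = 0 := allZ_sound0 cgtn3_1_0
theorem cgtn3_t {G Ω : Type*} [Group G] [MulAction G Ω] {g : ℕ → G} {pt : ℕ → Ω}
    (M : Md g pt Tm 1728 7 B1 6635520) : TrO (gen (wds g cgth_W) cgtl2.K) (wds g cgx_W) (wds g cgx_W) 1 pt 1728 (cgtl2.Pt 0) (memO cgc2) :=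
  node M (cgt_S2 M) (cgth_act M) (cgx_act M) (cgx_act M) cgtn3 ((cge_act M).mono (by decide)) (fun _ _ => trivial) cgtn3_0 cgtn3_1 (List.forall_mem_nil _)
theorem cgc1_e : ∀ i < 5, (dent cgc1 cge_P (nat_lit 1728)) i = 0 := allZ_sound0 cgc1_e_0
theorem cgc1_ok : DOK cgc1 cge_P 1728 := ⟨cgc1_h, cgc1_e⟩
theorem cgtn4_1 : ∀ i < 10, (cgtn4.ent Tm cgth_P cgx_P cgx_P cge_P (nat_lit 7) (nat_lit 1) B1 cgtl1 [cgtl2, cgtl3, cgtl4, cgtl5] (memO cgc1)) i = 0 := allZ_sound0 cgtn4_1_0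
theorem cgtn4_t {G Ω : Type*} [Group G] [MulAction G Ω] {g : ℕ → G} {pt : ℕ → Ω}
    (M : Md g pt Tm 1728 7 B1 6635520) : TrO (gen (wds g cgth_W) cgtl1.K) (wds g cgx_W) (wds g cgx_W) 1 pt 1728 (cgtl1.Pt 0) (memO cgc1) :=
  node M (cgt_S1 M) (cgth_act M) (cgx_act M) (cgx_act M) cgtn4 ((cge_act M).mono (by decide)) (fun _ _ => trivial) cgtn4_0 cgtn4_1 (List.forall_mem_nil _)
theorem cgc0_e : ∀ i < 79, (dent cgc0 cge_P (nat_lit 1728)) i = 0 := allZ_sound0 cgc0_e_0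
theorem cgc0_ok : DOK cgc0 cge_P 1728 := ⟨cgc0_h, cgc0_e⟩
theorem cgtn5_1 : ∀ i < 1728, (cgtn5.ent Tm cgth_P cgx_P cgx_P cge_P (nat_lit 7) (nat_lit 1) B1 cgtl0 [cgtl1, cgtl2, cgtl3, cgtl4, cgtl5] (memO cgc0)) i = 0 := allZ_sound0 cgtn5_1_0
theorem cgtn5_t {G Ω : Type*} [Group G] [MulAction G Ω] {g : ℕ → G} {pt : ℕ → Ω}
    (M : Md g pt Tm 1728 7 B1 6635520) : TrO (gen (wds g cgth_W) cgtl0.K) (wds g cgx_W) (wds g cgx_W) 1 pt 1728 (cgtl0.Pt 0) (memO cgc0) :=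
  node M (cgt_S0 M) (cgth_act M) (cgx_act M) (cgx_act M) cgtn5 ((cge_act M).mono (by decide)) (fun _ _ => trivial) cgtn5_0 cgtn5_1 (List.forall_mem_nil _)
theorem cg {G Ω : Type*} [Group G] [MulAction G Ω] {g : ℕ → G} {pt : ℕ → Ω}
    (M : Md g pt Tm 1728 7 B1 6635520) : Cen ⊤ (wds g cgx_W) 1 (wds g cge_W) pt 1728 [cgc0, cgc1, cgc2, cgc4, cgc5] :=
  (cgt_S0 M).top ▸ Cen.lev M (cgt_S0 M) (Cen.lev M (cgt_S1 M) (Cen.lev M (cgt_S2 M) (Cen.triv (cgt_S3 M) (Cen.lev M (cgt_S4 M) (Cen.lev M (cgt_S5 M) (Cen.bot) (cgtn0_t M) (cgx_act M) (cge_act M) (fun _ _ => trivial) cgc5_ok cg_f5) (cgtn1_t M) (cgx_act M) (cge_act M) (fun _ _ => trivial) cgc4_ok cg_f4) (forced (cgt_S3 M) (cgth_act M) (cgx_act M) _ _ cg_f3)) (cgtn3_t M) (cgx_act M) (cge_act M) (fun _ _ => trivial) cgc2_ok cg_f2) (cgtn4_t M) (cgx_act M) (cge_act M) (fun _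 _ => trivial) cgc1_ok cg_f1) (cgtn5_t M) (cgx_act M) (cge_act M) (fun _ _ => trivial) cgc0_ok cg_f0
theorem cg_card {G Ω : Type*} [Group G] [MulAction G Ω] {g : ℕ → G} {pt : ℕ → Ω}
    (M : Md g pt Tm 1728 7 B1 6635520) : Nat.card (Subgroup.centralizer {(wds g cgx_W) 0}) = 7680 :=
  (cg M).card_cent1 M.inj cg_c.1
theorem cg_eq {G Ω : Type*} [Group G] [MulAction G Ω] {g : ℕ → G} {pt : ℕ → Ω}
    (M : Md g pt Tm 1728 7 B1 6635520) : Subgroup.centralizer (gen (wds g cgx_W) 1) = gen (wds g cge_W) 7 ∧ Nat.card (gen (wds g cge_W) 7) = 7680 :=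
  cg_c.1 ▸ cg_c.2 ▸ ⟨(cg M).cent, (cg M).card M.inj⟩
theorem nfk : ∀ i < 1782, (nfEnt (wdsP P wG) 36) i = 0 := allZ_sound0 nfk_0
theorem ctx_act {G Ω : Type*} [Group G] [MulAction G Ω] {g : ℕ → G} {pt : ℕ → Ω} {c : ℕ}
    (M : Md g pt Tm 1728 7 B1 c) : Act (wds g ctx_W) pt ctx_P 1728 4 :=
  M.wact ctx_lt
theorem ctth_act {G Ω : Type*} [Group G] [MulAction G Ω] {g : ℕ → G} {pt : ℕ → Ω} {c : ℕ}
    (M : Md g pt Tm 1728 7 B1 c) : Act (wds g ctth_W) pt ctth_P 1728 13 :=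
  M.wact ctth_lt
theorem cttl0_e : ∀ i < 1727, (dent cttl0 ctth_P (nat_lit 1728)) i = 0 := allZ_sound0 cttl0_e_0
theorem cttl0_ok : DOK cttl0 ctth_P 1728 := ⟨cttl0_h, cttl0_e⟩
theorem cttl1_e : ∀ i < 9, (dent cttl1 ctth_P (nat_lit 1728)) i = 0 := allZ_sound0 cttl1_e_0
theorem cttl1_ok : DOK cttl1 ctth_P 1728 := ⟨cttl1_h, cttl1_e⟩
theorem cttl2_e : ∀ i < 11, (dent cttl2 ctth_P (nat_lit 1728)) i = 0 := allZ_sound0 cttl2_e_0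
theorem cttl2_ok : DOK cttl2 ctth_P 1728 := ⟨cttl2_h, cttl2_e⟩
theorem cttl3_e : ∀ i < 31, (dent cttl3 ctth_P (nat_lit 1728)) i = 0 := allZ_sound0 cttl3_e_0
theorem cttl3_ok : DOK cttl3 ctth_P 1728 := ⟨cttl3_h, cttl3_e⟩
theorem ctt_low {G Ω : Type*} [Group G] [MulAction G Ω] {g : ℕ → G} {pt : ℕ → Ω} {c : ℕ}
    (M : Md g pt Tm 1728 7 B1 c) : SLow (gi (wds g ctth_W)) pt 1728 [cttl0, cttl1, cttl2, cttl3] :=
  ((((SLow.nil).cons cttl3_ok (ctth_act M) ctt_f3).cons cttl2_ok (ctth_act M) ctt_f2).cons cttl1_ok (ctth_act M) ctt_f1).cons cttl0_ok (ctth_act M) ctt_f0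
theorem ctt_S0 {G Ω : Type*} [Group G] [MulAction G Ω] {g : ℕ → G} {pt : ℕ → Ω}
    (M : Md g pt Tm 1728 7 B1 6635520) : Stage ⊤ (wds g ctth_W) pt 1728 [cttl0, cttl1, cttl2, cttl3] [] :=
  M.stage (ctt_low M) ctt_c
theorem ctt_S1 {G Ω : Type*} [Group G] [MulAction G Ω] {g : ℕ → G} {pt : ℕ → Ω}
    (M : Md g pt Tm 1728 7 B1 6635520) : Stage ⊤ (wds g ctth_W) pt 1728 [cttl1, cttl2, cttl3] [cttl0.Pt 0] :=
  (ctt_S0 M).next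
theorem ctt_S2 {G Ω : Type*} [Group G] [MulAction G Ω] {g : ℕ → G} {pt : ℕ → Ω}
    (M : Md g pt Tm 1728 7 B1 6635520) : Stage ⊤ (wds g ctth_W) pt 1728 [cttl2, cttl3] [cttl1.Pt 0, cttl0.Pt 0] :=
  (ctt_S1 M).next
theorem ctt_S3 {G Ω : Type*} [Group G] [MulAction G Ω] {g : ℕ → G} {pt : ℕ → Ω}
    (M : Md g pt Tm 1728 7 B1 6635520) : Stage ⊤ (wds g ctth_W) pt 1728 [cttl3] [cttl2.Pt 0, cttl1.Pt 0, cttl0.Pt 0] :=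
  (ctt_S2 M).next
theorem ctt_S4 {G Ω : Type*} [Group G] [MulAction G Ω] {g : ℕ → G} {pt : ℕ → Ω}
    (M : Md g pt Tm 1728 7 B1 6635520) : Stage ⊤ (wds g ctth_W) pt 1728 [] [cttl3.Pt 0, cttl2.Pt 0, cttl1.Pt 0, cttl0.Pt 0] :=
  (ctt_S3 M).next
theorem cte_act {G Ω : Type*} [Group G] [MulAction G Ω] {g : ℕ → G} {pt : ℕ → Ω} {c : ℕ}
    (M : Md g pt Tm 1728 7 B1 c) : Act (wds g cte_W) pt cte_P 1728 1 :=
  M.wact cte_lt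
theorem ctc0_e : ∀ i < 1, (dent ctc0 cte_P (nat_lit 1728)) i = 0 := allZ_sound0 ctc0_e_0
theorem ctc0_ok : DOK ctc0 cte_P 1728 := ⟨ctc0_h, ctc0_e⟩
theorem cttn0_1 : ∀ i < 1728, (cttn0.ent Tm ctth_P ctx_P ctx_P cte_P (nat_lit 7) (nat_lit 4) B1 cttl0 [cttl1, cttl2, cttl3] (memO ctc0)) i = 0 := allZ_sound0 cttn0_1_0
theorem cttn0_t {G Ω : Type*} [Group G] [MulAction G Ω] {g : ℕ → G} {pt : ℕ → Ω}
    (M : Md g pt Tm 1728 7 B1 6635520) : TrO (gen (wds g ctth_W) cttl0.K) (wds g ctx_W) (wds g ctx_W) 4 pt 1728 (cttl0.Pt 0) (memO ctc0) :=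
  node M (ctt_S0 M) (ctth_act M) (ctx_act M) (ctx_act M) cttn0 ((cte_act M).mono (by decide)) (fun _ _ => trivial) cttn0_0 cttn0_1 (List.forall_mem_nil _)
theorem ct {G Ω : Type*} [Group G] [MulAction G Ω] {g : ℕ → G} {pt : ℕ → Ω}
    (M : Md g pt Tm 1728 7 B1 6635520) : Cen ⊤ (wds g ctx_W) 4 (wds g cte_W) pt 1728 [ctc0] :=
  (ctt_S0 M).top ▸ Cen.lev M (ctt_S0 M) (Cen.triv (ctt_S1 M) (Cen.triv (ctt_S2 M) (Cen.triv (ctt_S3 M) (Cen.bot) (forced (ctt_S3 M) (ctth_act M) (ctx_act M) _ _ ct_f3)) (forced (ctt_S2 M) (ctth_act M) (ctx_act M) _ _ ct_f2)) (forced (ctt_S1 M) (ctth_act M) (ctx_act M) _ _ ct_f1)) (cttn0_t M) (ctx_act M) (cte_act M) (fun _ _ => trivial) ctc0_ok ct_f0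
theorem ct_eq {G Ω : Type*} [Group G] [MulAction G Ω] {g : ℕ → G} {pt : ℕ → Ω}
    (M : Md g pt Tm 1728 7 B1 6635520) : Subgroup.centralizer (gen (wds g ctx_W) 4) = gen (wds g cte_W) 1 ∧ Nat.card (gen (wds g cte_W) 1) = 2 :=
  ct_c.1 ▸ ct_c.2 ▸ ⟨(ct M).cent, (ct M).card M.inj⟩
theorem en33a : ∀ k < 1, ∀ i < 2, (tupEnt cte_P en33T en33N (nat_lit 1728) (nat_lit 2) (nat_lit 4)) k i = 0 := allZ2_sound en33a_a
theorem en33b : ∀ i < 2, (enEnt cte_P en33T en33W (nat_lit 4)) i = 0 := allZ_sound0 en33b_0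
theorem cl34 : ∀ i < 2, (clEnt cte_P (wdsP Tm wW) 38 39 B1 cl34L en33W) i = 0 := allZ_sound0 cl34_0
theorem cl34g {G Ω : Type*} [Group G] [MulAction G Ω] {pt : ℕ → Ω} {w : ℕ → G} (S : Bm G pt 1728 B1) (hw : Act w pt (wdsP Tm wW) 1728 39) {x : ℕ → G}
    (e : En x 1 en33W 2) (hx : Act x pt cte_P 1728 1) : ∀ v ∈ gen x 1,
    v = 1 ∨ v = w 0 := S.cls e hx hw en33c.2.1 cl34
theorem le35 : ∀ i < 4, (leEnt t_P ctx_P 13 B1 le35W) i = 0 := allZ_sound0 le35_0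
theorem ckx_act {G Ω : Type*} [Group G] [MulAction G Ω] {g : ℕ → G} {pt : ℕ → Ω} {c : ℕ}
    (M : Md g pt Tm 1728 7 B1 c) : Act (wds g ckx_W) pt ckx_P 1728 2 :=
  M.wact ckx_lt
theorem ckth_act {G Ω : Type*} [Group G] [MulAction G Ω] {g : ℕ → G} {pt : ℕ → Ω} {c : ℕ}
    (M : Md g pt Tm 1728 7 B1 c) : Act (wds g ckth_W) pt ckth_P 1728 12 :=
  M.wact ckth_lt
theorem cktl0_e : ∀ i < 1727, (dent cktl0 ckth_P (nat_lit 1728)) i = 0 := allZ_sound0 cktl0_e_0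
theorem cktl0_ok : DOK cktl0 ckth_P 1728 := ⟨cktl0_h, cktl0_e⟩
theorem cktl1_e : ∀ i < 159, (dent cktl1 ckth_P (nat_lit 1728)) i = 0 := allZ_sound0 cktl1_e_0
theorem cktl1_ok : DOK cktl1 ckth_P 1728 := ⟨cktl1_h, cktl1_e⟩
theorem cktl2_e : ∀ i < 5, (dent cktl2 ckth_P (nat_lit 1728)) i = 0 := allZ_sound0 cktl2_e_0
theorem cktl2_ok : DOK cktl2 ckth_P 1728 := ⟨cktl2_h, cktl2_e⟩
theorem cktl3_e : ∀ i < 3, (dent cktl3 ckth_P (nat_lit 1728)) i = 0 := allZ_sound0 cktl3_e_0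
theorem cktl3_ok : DOK cktl3 ckth_P 1728 := ⟨cktl3_h, cktl3_e⟩
theorem ckt_low {G Ω : Type*} [Group G] [MulAction G Ω] {g : ℕ → G} {pt : ℕ → Ω} {c : ℕ}
    (M : Md g pt Tm 1728 7 B1 c) : SLow (gi (wds g ckth_W)) pt 1728 [cktl0, cktl1, cktl2, cktl3] :=
  ((((SLow.nil).cons cktl3_ok (ckth_act M) ckt_f3).cons cktl2_ok (ckth_act M) ckt_f2).cons cktl1_ok (ckth_act M) ckt_f1).cons cktl0_ok (ckth_act M) ckt_f0
theorem ckt_S0 {G Ω : Type*} [Group G] [MulAction G Ω] {g : ℕ → G} {pt : ℕ → Ω}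
    (M : Md g pt Tm 1728 7 B1 6635520) : Stage ⊤ (wds g ckth_W) pt 1728 [cktl0, cktl1, cktl2, cktl3] [] :=
  M.stage (ckt_low M) ckt_c
theorem ckt_S1 {G Ω : Type*} [Group G] [MulAction G Ω] {g : ℕ → G} {pt : ℕ → Ω}
    (M : Md g pt Tm 1728 7 B1 6635520) : Stage ⊤ (wds g ckth_W) pt 1728 [cktl1, cktl2, cktl3] [cktl0.Pt 0] :=
  (ckt_S0 M).next
theorem ckt_S2 {G Ω : Type*} [Group G] [MulAction G Ω] {g : ℕ → G} {pt : ℕ → Ω}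
    (M : Md g pt Tm 1728 7 B1 6635520) : Stage ⊤ (wds g ckth_W) pt 1728 [cktl2, cktl3] [cktl1.Pt 0, cktl0.Pt 0] :=
  (ckt_S1 M).next
theorem ckt_S3 {G Ω : Type*} [Group G] [MulAction G Ω] {g : ℕ → G} {pt : ℕ → Ω}
    (M : Md g pt Tm 1728 7 B1 6635520) : Stage ⊤ (wds g ckth_W) pt 1728 [cktl3] [cktl2.Pt 0, cktl1.Pt 0, cktl0.Pt 0] :=
  (ckt_S2 M).next
theorem ckt_S4 {G Ω : Type*} [Group G] [MulAction G Ω] {g : ℕ → G} {pt : ℕ → Ω}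
    (M : Md g pt Tm 1728 7 B1 6635520) : Stage ⊤ (wds g ckth_W) pt 1728 [] [cktl3.Pt 0, cktl2.Pt 0, cktl1.Pt 0, cktl0.Pt 0] :=
  (ckt_S3 M).next
theorem cke_act {G Ω : Type*} [Group G] [MulAction G Ω] {g : ℕ → G} {pt : ℕ → Ω} {c : ℕ}
    (M : Md g pt Tm 1728 7 B1 c) : Act (wds g cke_W) pt cke_P 1728 1 :=
  M.wact cke_lt
theorem ckc0_e : ∀ i < 1, (dent ckc0 cke_P (nat_lit 1728)) i = 0 := allZ_sound0 ckc0_e_0
theorem ckc0_ok : DOK ckc0 cke_P 1728 := ⟨ckc0_h, ckc0_e⟩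
theorem cktn0_1 : ∀ i < 1728, (cktn0.ent Tm ckth_P ckx_P ckx_P cke_P (nat_lit 7) (nat_lit 2) B1 cktl0 [cktl1, cktl2, cktl3] (memO ckc0)) i = 0 := allZ_sound0 cktn0_1_0
theorem cktn0_t {G Ω : Type*} [Group G] [MulAction G Ω] {g : ℕ → G} {pt : ℕ → Ω}
    (M : Md g pt Tm 1728 7 B1 6635520) : TrO (gen (wds g ckth_W) cktl0.K) (wds g ckx_W) (wds g ckx_W) 2 pt 1728 (cktl0.Pt 0) (memO ckc0) :=
  node M (ckt_S0 M) (ckth_act M) (ckx_act M) (ckx_act M) cktn0 ((cke_act M).mono (by decide)) (fun _ _ => trivial) cktn0_0 cktn0_1 (List.forall_mem_nil _)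
theorem ck {G Ω : Type*} [Group G] [MulAction G Ω] {g : ℕ → G} {pt : ℕ → Ω}
    (M : Md g pt Tm 1728 7 B1 6635520) : Cen ⊤ (wds g ckx_W) 2 (wds g cke_W) pt 1728 [ckc0] :=
  (ckt_S0 M).top ▸ Cen.lev M (ckt_S0 M) (Cen.triv (ckt_S1 M) (Cen.triv (ckt_S2 M) (Cen.triv (ckt_S3 M) (Cen.bot) (forced (ckt_S3 M) (ckth_act M) (ckx_act M) _ _ ck_f3)) (forced (ckt_S2 M) (ckth_act M) (ckx_act M) _ _ ck_f2)) (forced (ckt_S1 M) (ckth_act M) (ckx_act M) _ _ ck_f1)) (cktn0_t M) (ckx_act M) (cke_act M) (fun _ _ => trivial) ckc0_ok ck_f0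
theorem ck_eq {G Ω : Type*} [Group G] [MulAction G Ω] {g : ℕ → G} {pt : ℕ → Ω}
    (M : Md g pt Tm 1728 7 B1 6635520) : Subgroup.centralizer (gen (wds g ckx_W) 2) = gen (wds g cke_W) 1 ∧ Nat.card (gen (wds g cke_W) 1) = 2 :=
  ck_c.1 ▸ ck_c.2 ▸ ⟨(ck M).cent, (ck M).card M.inj⟩
theorem clx_act {G Ω : Type*} [Group G] [MulAction G Ω] {g : ℕ → G} {pt : ℕ → Ω} {c : ℕ}
    (M : Md g pt Tm 1728 6 B1 c) : Act (wds g clx_W) pt clx_P 1728 1 :=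
  M.wact clx_lt
theorem clth_act {G Ω : Type*} [Group G] [MulAction G Ω] {g : ℕ → G} {pt : ℕ → Ω} {c : ℕ}
    (M : Md g pt Tm 1728 6 B1 c) : Act (wds g clth_W) pt clth_P 1728 13 :=
  M.wact clth_lt
theorem cltl0_e : ∀ i < 1727, (dent cltl0 clth_P (nat_lit 1728)) i = 0 := allZ_sound0 cltl0_e_0
theorem cltl0_ok : DOK cltl0 clth_P 1728 := ⟨cltl0_h, cltl0_e⟩
theorem cltl1_e : ∀ i < 9, (dent cltl1 clth_P (nat_lit 1728)) i = 0 := allZ_sound0 cltl1_e_0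
theorem cltl1_ok : DOK cltl1 clth_P 1728 := ⟨cltl1_h, cltl1_e⟩
theorem cltl2_e : ∀ i < 7, (dent cltl2 clth_P (nat_lit 1728)) i = 0 := allZ_sound0 cltl2_e_0
theorem cltl2_ok : DOK cltl2 clth_P 1728 := ⟨cltl2_h, cltl2_e⟩
theorem cltl3_e : ∀ i < 5, (dent cltl3 clth_P (nat_lit 1728)) i = 0 := allZ_sound0 cltl3_e_0
theorem cltl3_ok : DOK cltl3 clth_P 1728 := ⟨cltl3_h, cltl3_e⟩
theorem cltl4_e : ∀ i < 1, (dent cltl4 clth_P (nat_lit 1728)) i = 0 := allZ_sound0 cltl4_e_0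
theorem cltl4_ok : DOK cltl4 clth_P 1728 := ⟨cltl4_h, cltl4_e⟩
theorem cltl5_e : ∀ i < 1, (dent cltl5 clth_P (nat_lit 1728)) i = 0 := allZ_sound0 cltl5_e_0
theorem cltl5_ok : DOK cltl5 clth_P 1728 := ⟨cltl5_h, cltl5_e⟩
theorem clt_low {G Ω : Type*} [Group G] [MulAction G Ω] {g : ℕ → G} {pt : ℕ → Ω} {c : ℕ}
    (M : Md g pt Tm 1728 6 B1 c) : SLow (gi (wds g clth_W)) pt 1728 [cltl0, cltl1, cltl2, cltl3, cltl4, cltl5] :=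
  ((((((SLow.nil).cons cltl5_ok (clth_act M) clt_f5).cons cltl4_ok (clth_act M) clt_f4).cons cltl3_ok (clth_act M) clt_f3).cons cltl2_ok (clth_act M) clt_f2).cons cltl1_ok (clth_act M) clt_f1).cons cltl0_ok (clth_act M) clt_f0
theorem clt_S0 {G Ω : Type*} [Group G] [MulAction G Ω] {g : ℕ → G} {pt : ℕ → Ω}
    (M : Md g pt Tm 1728 6 B1 3317760) : Stage ⊤ (wds g clth_W) pt 1728 [cltl0, cltl1, cltl2, cltl3, cltl4, cltl5] [] :=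
  M.stage (clt_low M) clt_c
theorem clt_S1 {G Ω : Type*} [Group G] [MulAction G Ω] {g : ℕ → G} {pt : ℕ → Ω}
    (M : Md g pt Tm 1728 6 B1 3317760) : Stage ⊤ (wds g clth_W) pt 1728 [cltl1, cltl2, cltl3, cltl4, cltl5] [cltl0.Pt 0] :=
  (clt_S0 M).next
theorem clt_S2 {G Ω : Type*} [Group G] [MulAction G Ω] {g : ℕ → G} {pt : ℕ → Ω}
    (M : Md g pt Tm 1728 6 B1 3317760) : Stage ⊤ (wds g clth_W) pt 1728 [cltl2, cltl3, cltl4, cltl5] [cltl1.Pt 0, cltl0.Pt 0] :=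
  (clt_S1 M).next
theorem clt_S3 {G Ω : Type*} [Group G] [MulAction G Ω] {g : ℕ → G} {pt : ℕ → Ω}
    (M : Md g pt Tm 1728 6 B1 3317760) : Stage ⊤ (wds g clth_W) pt 1728 [cltl3, cltl4, cltl5] [cltl2.Pt 0, cltl1.Pt 0, cltl0.Pt 0] :=
  (clt_S2 M).next
theorem clt_S4 {G Ω : Type*} [Group G] [MulAction G Ω] {g : ℕ → G} {pt : ℕ → Ω}
    (M : Md g pt Tm 1728 6 B1 3317760) : Stage ⊤ (wds g clth_W) pt 1728 [cltl4, cltl5] [cltl3.Pt 0, cltl2.Pt 0, cltl1.Pt 0, cltl0.Pt 0] :=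
  (clt_S3 M).next
theorem clt_S5 {G Ω : Type*} [Group G] [MulAction G Ω] {g : ℕ → G} {pt : ℕ → Ω}
    (M : Md g pt Tm 1728 6 B1 3317760) : Stage ⊤ (wds g clth_W) pt 1728 [cltl5] [cltl4.Pt 0, cltl3.Pt 0, cltl2.Pt 0, cltl1.Pt 0, cltl0.Pt 0] :=
  (clt_S4 M).next
theorem clt_S6 {G Ω : Type*} [Group G] [MulAction G Ω] {g : ℕ → G} {pt : ℕ → Ω}
    (M : Md g pt Tm 1728 6 B1 3317760) : Stage ⊤ (wds g clth_W) pt 1728 [] [cltl5.Pt 0, cltl4.Pt 0, cltl3.Pt 0, cltl2.Pt 0, cltl1.Pt 0, cltl0.Pt 0] :=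
  (clt_S5 M).next
theorem cle_act {G Ω : Type*} [Group G] [MulAction G Ω] {g : ℕ → G} {pt : ℕ → Ω} {c : ℕ}
    (M : Md g pt Tm 1728 6 B1 c) : Act (wds g cle_W) pt cle_P 1728 7 :=
  M.wact cle_lt
theorem clc5_e : ∀ i < 1, (dent clc5 cle_P (nat_lit 1728)) i = 0 := allZ_sound0 clc5_e_0
theorem clc5_ok : DOK clc5 cle_P 1728 := ⟨clc5_h, clc5_e⟩
theorem cltn0_1 : ∀ i < 2, (cltn0.ent Tm clth_P clx_P clx_P cle_P (nat_lit 6) (nat_lit 1) B1 cltl5 [] (memO clc5)) i = 0 := allZ_sound0 cltn0_1_0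
theorem cltn0_t {G Ω : Type*} [Group G] [MulAction G Ω] {g : ℕ → G} {pt : ℕ → Ω}
    (M : Md g pt Tm 1728 6 B1 3317760) : TrO (gen (wds g clth_W) cltl5.K) (wds g clx_W) (wds g clx_W) 1 pt 1728 (cltl5.Pt 0) (memO clc5) :=
  node M (clt_S5 M) (clth_act M) (clx_act M) (clx_act M) cltn0 ((cle_act M).mono (by decide)) (fun _ _ => trivial) cltn0_0 cltn0_1 (List.forall_mem_nil _)
theorem cltn1y990_act {G Ω : Type*} [Group G] [MulAction G Ω] {g : ℕ → G} {pt : ℕ → Ω} {c : ℕ}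
    (M : Md g pt Tm 1728 6 B1 c) : Act (wds g cltn1y990_W) pt cltn1y990_P 1728 1 :=
  M.wact cltn1y990_lt
theorem cltr2k_act {G Ω : Type*} [Group G] [MulAction G Ω] {g : ℕ → G} {pt : ℕ → Ω} {c : ℕ}
    (M : Md g pt Tm 1728 6 B1 c) : Act (wds g cltr2k_W) pt cltr2k_P 1728 2 :=
  M.wact cltr2k_lt
theorem cltn2_1 : ∀ i < 2, (cltn2.ent Tm clth_P clx_P cltn1y990_P cltr2k_P (nat_lit 6) (nat_lit 1) B1 cltl5 [] (fun _ => nat_lit 1)) i = 0 := allZ_sound0 cltn2_1_0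
theorem cltn2_t {G Ω : Type*} [Group G] [MulAction G Ω] {g : ℕ → G} {pt : ℕ → Ω}
    (M : Md g pt Tm 1728 6 B1 3317760) : TrO (gen (wds g clth_W) cltl5.K) (wds g clx_W) (wds g cltn1y990_W) 1 pt 1728 (cltl5.Pt 0) (fun _ => nat_lit 1) :=
  node M (clt_S5 M) (clth_act M) (clx_act M) (cltn1y990_act M) cltn2 ((cltr2k_act M).mono (by decide)) (fun _ _ => trivial) cltn2_0 cltn2_1 (List.forall_mem_nil _)
theorem cltr2 {G Ω : Type*} [Group G] [MulAction G Ω] {g : ℕ → G} {pt : ℕ → Ω}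
    (M : Md g pt Tm 1728 6 B1 3317760) : Ref (gen (wds g clth_W) (topK [cltl5])) (wds g clx_W) (wds g cltn1y990_W) 1 :=
  (cltn2_t M).ref
theorem cltn1_1 : ∀ i < 6, (cltn1.ent Tm clth_P clx_P clx_P cle_P (nat_lit 6) (nat_lit 1) B1 cltl3 [cltl4, cltl5] (fun w => Nat.xor w (cltl3.Pt (nat_lit 0)))) i = 0 := allZ_sound0 cltn1_1_0
theorem cltn1_t {G Ω : Type*} [Group G] [MulAction G Ω] {g : ℕ → G} {pt : ℕ → Ω}
    (M : Md g pt Tm 1728 6 B1 3317760) : TrO (gen (wds g clth_W) cltl3.K) (wds g clx_W) (wds g clx_W) 1 pt 1728 (cltl3.Pt 0) (fun w => Nat.xor w (cltl3.Pt (nat_lit 0))) :=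
  node M (clt_S3 M) (clth_act M) (clx_act M) (clx_act M) cltn1 ((cle_act M).mono (by decide)) (fun _ _ => trivial) cltn1_0 cltn1_1 (List.forall_mem_cons.2 ⟨cltr2 M, List.forall_mem_nil _⟩)
theorem clc1_e : ∀ i < 7, (dent clc1 cle_P (nat_lit 1728)) i = 0 := allZ_sound0 clc1_e_0
theorem clc1_ok : DOK clc1 cle_P 1728 := ⟨clc1_h, clc1_e⟩
theorem cltn3_1 : ∀ i < 10, (cltn3.ent Tm clth_P clx_P clx_P cle_P (nat_lit 6) (nat_lit 1) B1 cltl1 [cltl2, cltl3, cltl4, cltl5] (memO clc1)) i = 0 := allZ_sound0 cltn3_1_0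
theorem cltn3_t {G Ω : Type*} [Group G] [MulAction G Ω] {g : ℕ → G} {pt : ℕ → Ω}
    (M : Md g pt Tm 1728 6 B1 3317760) : TrO (gen (wds g clth_W) cltl1.K) (wds g clx_W) (wds g clx_W) 1 pt 1728 (cltl1.Pt 0) (memO clc1) :=
  node M (clt_S1 M) (clth_act M) (clx_act M) (clx_act M) cltn3 ((cle_act M).mono (by decide)) (fun _ _ => trivial) cltn3_0 cltn3_1 (List.forall_mem_nil _)
theorem clc0_e : ∀ i < 31, (dent clc0 cle_P (nat_lit 1728)) i = 0 := allZ_sound0 clc0_e_0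
theorem clc0_ok : DOK clc0 cle_P 1728 := ⟨clc0_h, clc0_e⟩
theorem cltn4_1 : ∀ i < 1728, (cltn4.ent Tm clth_P clx_P clx_P cle_P (nat_lit 6) (nat_lit 1) B1 cltl0 [cltl1, cltl2, cltl3, cltl4, cltl5] (memO clc0)) i = 0 := allZ_sound0 cltn4_1_0
theorem cltn4_t {G Ω : Type*} [Group G] [MulAction G Ω] {g : ℕ → G} {pt : ℕ → Ω}
    (M : Md g pt Tm 1728 6 B1 3317760) : TrO (gen (wds g clth_W) cltl0.K) (wds g clx_W) (wds g clx_W) 1 pt 1728 (cltl0.Pt 0) (memO clc0) :=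
  node M (clt_S0 M) (clth_act M) (clx_act M) (clx_act M) cltn4 ((cle_act M).mono (by decide)) (fun _ _ => trivial) cltn4_0 cltn4_1 (List.forall_mem_nil _)
theorem cl {G Ω : Type*} [Group G] [MulAction G Ω] {g : ℕ → G} {pt : ℕ → Ω}
    (M : Md g pt Tm 1728 6 B1 3317760) : Cen ⊤ (wds g clx_W) 1 (wds g cle_W) pt 1728 [clc0, clc1, clc5] :=
  (clt_S0 M).top ▸ Cen.lev M (clt_S0 M) (Cen.lev M (clt_S1 M) (Cen.triv (clt_S2 M) (Cen.triv (clt_S3 M) (Cen.triv (clt_S4 M) (Cen.lev M (clt_S5 M) (Cen.bot) (cltn0_t M) (clx_act M) (cle_act M) (fun _ _ => trivial) clc5_ok cl_f5) (forced (clt_S4 M) (clth_act M) (clx_act M) _ _ cl_f4)) (cltn1_t M)) (forced (clt_S2 M) (clth_act M) (clx_act M) _ _ cl_f2)) (cltn3_t M) (clx_act M) (cle_act M) (fun _ _ => trivial) clc1_ok cl_f1) (cltn4_t M) (clx_act M) (cle_act M) (fun _ _ => trivial) clc0_ok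 cl_f0
theorem cl_card {G Ω : Type*} [Group G] [MulAction G Ω] {g : ℕ → G} {pt : ℕ → Ω}
    (M : Md g pt Tm 1728 6 B1 3317760) : Nat.card (Subgroup.centralizer {(wds g clx_W) 0}) = 512 :=
  (cl M).card_cent1 M.inj cl_c.1
theorem cl_eq {G Ω : Type*} [Group G] [MulAction G Ω] {g : ℕ → G} {pt : ℕ → Ω}
    (M : Md g pt Tm 1728 6 B1 3317760) : Subgroup.centralizer (gen (wds g clx_W) 1) = gen (wds g cle_W) 7 ∧ Nat.card (gen (wds g cle_W) 7) = 512 :=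
  cl_c.1 ▸ cl_c.2 ▸ ⟨(cl M).cent, (cl M).card M.inj⟩
theorem nu_act {G Ω : Type*} [Group G] [MulAction G Ω] {g : ℕ → G} {pt : ℕ → Ω} {c : ℕ}
    (M : Md g pt Tm 1728 7 B1 c) : Act (wds g nu_W) pt nu_P 1728 8 :=
  M.wact nu_lt
theorem cnx_act {G Ω : Type*} [Group G] [MulAction G Ω] {g : ℕ → G} {pt : ℕ → Ω} {c : ℕ}
    (M : Md g pt Tm 1728 6 B1 c) : Act (wds g cnx_W) pt cnx_P 1728 4 :=
  M.wact cnx_lt
theorem cnth_act {G Ω : Type*} [Group G] [MulAction G Ω] {g : ℕ → G} {pt : ℕ → Ω} {c : ℕ}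
    (M : Md g pt Tm 1728 6 B1 c) : Act (wds g cnth_W) pt cnth_P 1728 11 :=
  M.wact cnth_lt
theorem cntl0_e : ∀ i < 1727, (dent cntl0 cnth_P (nat_lit 1728)) i = 0 := allZ_sound0 cntl0_e_0
theorem cntl0_ok : DOK cntl0 cnth_P 1728 := ⟨cntl0_h, cntl0_e⟩
theorem cntl1_e : ∀ i < 31, (dent cntl1 cnth_P (nat_lit 1728)) i = 0 := allZ_sound0 cntl1_e_0
theorem cntl1_ok : DOK cntl1 cnth_P 1728 := ⟨cntl1_h, cntl1_e⟩
theorem cntl2_e : ∀ i < 19, (dent cntl2 cnth_P (nat_lit 1728)) i = 0 := allZ_sound0 cntl2_e_0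
theorem cntl2_ok : DOK cntl2 cnth_P 1728 := ⟨cntl2_h, cntl2_e⟩
theorem cntl3_e : ∀ i < 2, (dent cntl3 cnth_P (nat_lit 1728)) i = 0 := allZ_sound0 cntl3_e_0
theorem cntl3_ok : DOK cntl3 cnth_P 1728 := ⟨cntl3_h, cntl3_e⟩
theorem cnt_low {G Ω : Type*} [Group G] [MulAction G Ω] {g : ℕ → G} {pt : ℕ → Ω} {c : ℕ}
    (M : Md g pt Tm 1728 6 B1 c) : SLow (gi (wds g cnth_W)) pt 1728 [cntl0, cntl1, cntl2, cntl3] :=
  ((((SLow.nil).cons cntl3_ok (cnth_act M) cnt_f3).cons cntl2_ok (cnth_act M) cnt_f2).cons cntl1_ok (cnth_act M) cnt_f1).cons cntl0_ok (cnth_act M) cnt_f0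
theorem cnt_S0 {G Ω : Type*} [Group G] [MulAction G Ω] {g : ℕ → G} {pt : ℕ → Ω}
    (M : Md g pt Tm 1728 6 B1 3317760) : Stage ⊤ (wds g cnth_W) pt 1728 [cntl0, cntl1, cntl2, cntl3] [] :=
  M.stage (cnt_low M) cnt_c
theorem cnt_S1 {G Ω : Type*} [Group G] [MulAction G Ω] {g : ℕ → G} {pt : ℕ → Ω}
    (M : Md g pt Tm 1728 6 B1 3317760) : Stage ⊤ (wds g cnth_W) pt 1728 [cntl1, cntl2, cntl3] [cntl0.Pt 0] :=
  (cnt_S0 M).next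
theorem cnt_S2 {G Ω : Type*} [Group G] [MulAction G Ω] {g : ℕ → G} {pt : ℕ → Ω}
    (M : Md g pt Tm 1728 6 B1 3317760) : Stage ⊤ (wds g cnth_W) pt 1728 [cntl2, cntl3] [cntl1.Pt 0, cntl0.Pt 0] :=
  (cnt_S1 M).next
theorem cnt_S3 {G Ω : Type*} [Group G] [MulAction G Ω] {g : ℕ → G} {pt : ℕ → Ω}
    (M : Md g pt Tm 1728 6 B1 3317760) : Stage ⊤ (wds g cnth_W) pt 1728 [cntl3] [cntl2.Pt 0, cntl1.Pt 0, cntl0.Pt 0] :=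
  (cnt_S2 M).next
theorem cnt_S4 {G Ω : Type*} [Group G] [MulAction G Ω] {g : ℕ → G} {pt : ℕ → Ω}
    (M : Md g pt Tm 1728 6 B1 3317760) : Stage ⊤ (wds g cnth_W) pt 1728 [] [cntl3.Pt 0, cntl2.Pt 0, cntl1.Pt 0, cntl0.Pt 0] :=
  (cnt_S3 M).next
theorem cne_act {G Ω : Type*} [Group G] [MulAction G Ω] {g : ℕ → G} {pt : ℕ → Ω} {c : ℕ}
    (M : Md g pt Tm 1728 6 B1 c) : Act (wds g cne_W) pt cne_P 1728 2 :=
  M.wact cne_lt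
theorem cnc0_e : ∀ i < 3, (dent cnc0 cne_P (nat_lit 1728)) i = 0 := allZ_sound0 cnc0_e_0
theorem cnc0_ok : DOK cnc0 cne_P 1728 := ⟨cnc0_h, cnc0_e⟩
theorem cntn0_1 : ∀ i < 1728, (cntn0.ent Tm cnth_P cnx_P cnx_P cne_P (nat_lit 6) (nat_lit 4) B1 cntl0 [cntl1, cntl2, cntl3] (memO cnc0)) i = 0 := allZ_sound0 cntn0_1_0
theorem cntn0_t {G Ω : Type*} [Group G] [MulAction G Ω] {g : ℕ → G} {pt : ℕ → Ω}
    (M : Md g pt Tm 1728 6 B1 3317760) : TrO (gen (wds g cnth_W) cntl0.K) (wds g cnx_W) (wds g cnx_W) 4 pt 1728 (cntl0.Pt 0) (memO cnc0) :=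
  node M (cnt_S0 M) (cnth_act M) (cnx_act M) (cnx_act M) cntn0 ((cne_act M).mono (by decide)) (fun _ _ => trivial) cntn0_0 cntn0_1 (List.forall_mem_nil _)
theorem cn {G Ω : Type*} [Group G] [MulAction G Ω] {g : ℕ → G} {pt : ℕ → Ω}
    (M : Md g pt Tm 1728 6 B1 3317760) : Cen ⊤ (wds g cnx_W) 4 (wds g cne_W) pt 1728 [cnc0] :=
  (cnt_S0 M).top ▸ Cen.lev M (cnt_S0 M) (Cen.triv (cnt_S1 M) (Cen.triv (cnt_S2 M) (Cen.triv (cnt_S3 M) (Cen.bot) (forced (cnt_S3 M) (cnth_act M) (cnx_act M) _ _ cn_f3)) (forced (cnt_S2 M) (cnth_act M) (cnx_act M) _ _ cn_f2)) (forced (cnt_S1 M) (cnth_act M) (cnx_act M) _ _ cn_f1)) (cntn0_t M) (cnx_act M) (cne_act M) (fun _ _ => trivial) cnc0_ok cn_f0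
theorem cn_eq {G Ω : Type*} [Group G] [MulAction G Ω] {g : ℕ → G} {pt : ℕ → Ω}
    (M : Md g pt Tm 1728 6 B1 3317760) : Subgroup.centralizer (gen (wds g cnx_W) 4) = gen (wds g cne_W) 2 ∧ Nat.card (gen (wds g cne_W) 2) = 4 :=
  cn_c.1 ▸ cn_c.2 ▸ ⟨(cn M).cent, (cn M).card M.inj⟩
theorem en36a : ∀ k < 2, ∀ i < 4, (tupEnt cne_P en36T en36N (nat_lit 1728) (nat_lit 4) (nat_lit 4)) k i = 0 := allZ2_sound en36a_a
theorem en36b : ∀ i < 4, (enEnt cne_P en36T en36W (nat_lit 4)) i = 0 := allZ_sound0 en36b_0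
theorem cl37 : ∀ i < 4, (clEnt cne_P (wdsP Tm wW) 38 39 B1 cl37L en36W) i = 0 := allZ_sound0 cl37_0
theorem cl37g {G Ω : Type*} [Group G] [MulAction G Ω] {pt : ℕ → Ω} {w : ℕ → G} (S : Bm G pt 1728 B1) (hw : Act w pt (wdsP Tm wW) 1728 39) {x : ℕ → G}
    (e : En x 2 en36W 4) (hx : Act x pt cne_P 1728 2) : ∀ v ∈ gen x 2,
    v = 1 ∨ v = w 0 ∨ v * w 23 * w 24 = w 23 * v * w 24 * w 22 := S.cls e hx hw en36c.2.1 cl37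
theorem le38 : ∀ i < 3, (leEnt (pk (catP (wdsP P wG) 38 (wdsP P uW)) [25, 26, 65]) (pk (catP (wdsP P wG) 38 (wdsP P uW)) [0, 58, 59]) 3 B le38W) i = 0 := allZ_sound0 le38_0
theorem le40 : ∀ i < 8, (leEnt t_P nu_P 13 B1 le40W) i = 0 := allZ_sound0 le40_0
theorem co41 : ∀ i < 4, (comEnt nu_P cnx_P 8 B1 co41U co41V) i = 0 := allZ_sound0 co41_0
theorem le42 : ∀ i < 3, (leEnt (pk (catP (wdsP P wG) 38 (wdsP P uW)) [66, 67, 68]) (pk (catP (wdsP P wG) 38 (wdsP P uW)) [0, 58, 59]) 3 B le42W) i = 0 := allZ_sound0 le42_0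
theorem le43 : ∀ i < 3, (leEnt (pk (catP (wdsP P wG) 38 (wdsP P uW)) [69, 70, 71]) (pk (catP (wdsP P wG) 38 (wdsP P uW)) [0, 58, 59]) 3 B le43W) i = 0 := allZ_sound0 le43_0
theorem zlx_act {G Ω : Type*} [Group G] [MulAction G Ω] {g : ℕ → G} {pt : ℕ → Ω} {c : ℕ}
    (M : Md g pt Tm 1728 7 B1 c) : Act (wds g zlx_W) pt zlx_P 1728 7 :=
  M.wact zlx_lt
theorem zlth_act {G Ω : Type*} [Group G] [MulAction G Ω] {g : ℕ → G} {pt : ℕ → Ω} {c : ℕ}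
    (M : Md g pt Tm 1728 7 B1 c) : Act (wds g zlth_W) pt zlth_P 1728 13 :=
  M.wact zlth_lt
theorem zltl0_e : ∀ i < 1727, (dent zltl0 zlth_P (nat_lit 1728)) i = 0 := allZ_sound0 zltl0_e_0
theorem zltl0_ok : DOK zltl0 zlth_P 1728 := ⟨zltl0_h, zltl0_e⟩
theorem zltl1_e : ∀ i < 9, (dent zltl1 zlth_P (nat_lit 1728)) i = 0 := allZ_sound0 zltl1_e_0
theorem zltl1_ok : DOK zltl1 zlth_P 1728 := ⟨zltl1_h, zltl1_e⟩
theorem zltl2_e : ∀ i < 7, (dent zltl2 zlth_P (nat_lit 1728)) i = 0 := allZ_sound0 zltl2_e_0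
theorem zltl2_ok : DOK zltl2 zlth_P 1728 := ⟨zltl2_h, zltl2_e⟩
theorem zltl3_e : ∀ i < 15, (dent zltl3 zlth_P (nat_lit 1728)) i = 0 := allZ_sound0 zltl3_e_0
theorem zltl3_ok : DOK zltl3 zlth_P 1728 := ⟨zltl3_h, zltl3_e⟩
theorem zltl4_e : ∀ i < 2, (dent zltl4 zlth_P (nat_lit 1728)) i = 0 := allZ_sound0 zltl4_e_0
theorem zltl4_ok : DOK zltl4 zlth_P 1728 := ⟨zltl4_h, zltl4_e⟩
theorem zlt_low {G Ω : Type*} [Group G] [MulAction G Ω] {g : ℕ → G} {pt : ℕ → Ω} {c : ℕ}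
    (M : Md g pt Tm 1728 7 B1 c) : SLow (gi (wds g zlth_W)) pt 1728 [zltl0, zltl1, zltl2, zltl3, zltl4] :=
  (((((SLow.nil).cons zltl4_ok (zlth_act M) zlt_f4).cons zltl3_ok (zlth_act M) zlt_f3).cons zltl2_ok (zlth_act M) zlt_f2).cons zltl1_ok (zlth_act M) zlt_f1).cons zltl0_ok (zlth_act M) zlt_f0
theorem zlt_S0 {G Ω : Type*} [Group G] [MulAction G Ω] {g : ℕ → G} {pt : ℕ → Ω}
    (M : Md g pt Tm 1728 7 B1 6635520) : Stage ⊤ (wds g zlth_W) pt 1728 [zltl0, zltl1, zltl2, zltl3, zltl4] [] :=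
  M.stage (zlt_low M) zlt_c
theorem zlt_S1 {G Ω : Type*} [Group G] [MulAction G Ω] {g : ℕ → G} {pt : ℕ → Ω}
    (M : Md g pt Tm 1728 7 B1 6635520) : Stage ⊤ (wds g zlth_W) pt 1728 [zltl1, zltl2, zltl3, zltl4] [zltl0.Pt 0] :=
  (zlt_S0 M).next
theorem zlt_S2 {G Ω : Type*} [Group G] [MulAction G Ω] {g : ℕ → G} {pt : ℕ → Ω}
    (M : Md g pt Tm 1728 7 B1 6635520) : Stage ⊤ (wds g zlth_W) pt 1728 [zltl2, zltl3, zltl4] [zltl1.Pt 0, zltl0.Pt 0] :=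
  (zlt_S1 M).next
theorem zlt_S3 {G Ω : Type*} [Group G] [MulAction G Ω] {g : ℕ → G} {pt : ℕ → Ω}
    (M : Md g pt Tm 1728 7 B1 6635520) : Stage ⊤ (wds g zlth_W) pt 1728 [zltl3, zltl4] [zltl2.Pt 0, zltl1.Pt 0, zltl0.Pt 0] :=
  (zlt_S2 M).next
theorem zlt_S4 {G Ω : Type*} [Group G] [MulAction G Ω] {g : ℕ → G} {pt : ℕ → Ω}
    (M : Md g pt Tm 1728 7 B1 6635520) : Stage ⊤ (wds g zlth_W) pt 1728 [zltl4] [zltl3.Pt 0, zltl2.Pt 0, zltl1.Pt 0, zltl0.Pt 0] :=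
  (zlt_S3 M).next
theorem zlt_S5 {G Ω : Type*} [Group G] [MulAction G Ω] {g : ℕ → G} {pt : ℕ → Ω}
    (M : Md g pt Tm 1728 7 B1 6635520) : Stage ⊤ (wds g zlth_W) pt 1728 [] [zltl4.Pt 0, zltl3.Pt 0, zltl2.Pt 0, zltl1.Pt 0, zltl0.Pt 0] :=
  (zlt_S4 M).next
theorem zle_act {G Ω : Type*} [Group G] [MulAction G Ω] {g : ℕ → G} {pt : ℕ → Ω} {c : ℕ}
    (M : Md g pt Tm 1728 7 B1 c) : Act (wds g zle_W) pt zle_P 1728 2 :=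
  M.wact zle_lt
theorem zlc0_e : ∀ i < 3, (dent zlc0 zle_P (nat_lit 1728)) i = 0 := allZ_sound0 zlc0_e_0
theorem zlc0_ok : DOK zlc0 zle_P 1728 := ⟨zlc0_h, zlc0_e⟩
theorem zltn0_1 : ∀ i < 1728, (zltn0.ent Tm zlth_P zlx_P zlx_P zle_P (nat_lit 7) (nat_lit 7) B1 zltl0 [zltl1, zltl2, zltl3, zltl4] (memO zlc0)) i = 0 := allZ_sound0 zltn0_1_0
theorem zltn0_t {G Ω : Type*} [Group G] [MulAction G Ω] {g : ℕ → G} {pt : ℕ → Ω}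
    (M : Md g pt Tm 1728 7 B1 6635520) : TrO (gen (wds g zlth_W) zltl0.K) (wds g zlx_W) (wds g zlx_W) 7 pt 1728 (zltl0.Pt 0) (memO zlc0) :=
  node M (zlt_S0 M) (zlth_act M) (zlx_act M) (zlx_act M) zltn0 ((zle_act M).mono (by decide)) (fun _ _ => trivial) zltn0_0 zltn0_1 (List.forall_mem_nil _)
theorem zl {G Ω : Type*} [Group G] [MulAction G Ω] {g : ℕ → G} {pt : ℕ → Ω}
    (M : Md g pt Tm 1728 7 B1 6635520) : Cen ⊤ (wds g zlx_W) 7 (wds g zle_W) pt 1728 [zlc0] :=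
  (zlt_S0 M).top ▸ Cen.lev M (zlt_S0 M) (Cen.triv (zlt_S1 M) (Cen.triv (zlt_S2 M) (Cen.triv (zlt_S3 M) (Cen.triv (zlt_S4 M) (Cen.bot) (forced (zlt_S4 M) (zlth_act M) (zlx_act M) _ _ zl_f4)) (forced (zlt_S3 M) (zlth_act M) (zlx_act M) _ _ zl_f3)) (forced (zlt_S2 M) (zlth_act M) (zlx_act M) _ _ zl_f2)) (forced (zlt_S1 M) (zlth_act M) (zlx_act M) _ _ zl_f1)) (zltn0_t M) (zlx_act M) (zle_act M) (fun _ _ => trivial) zlc0_ok zl_f0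
theorem zl_eq {G Ω : Type*} [Group G] [MulAction G Ω] {g : ℕ → G} {pt : ℕ → Ω}
    (M : Md g pt Tm 1728 7 B1 6635520) : Subgroup.centralizer (gen (wds g zlx_W) 7) = gen (wds g zle_W) 2 ∧ Nat.card (gen (wds g zle_W) 2) = 4 :=
  zl_c.1 ▸ zl_c.2 ▸ ⟨(zl M).cent, (zl M).card M.inj⟩
theorem en44a : ∀ k < 2, ∀ i < 4, (tupEnt zle_P en44T en44N (nat_lit 1728) (nat_lit 4) (nat_lit 4)) k i = 0 := allZ2_sound en44a_a
theorem en44b : ∀ i < 4, (enEnt zle_P en44T en44W (nat_lit 4)) i = 0 := allZ_sound0 en44b_0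
theorem cl45 : ∀ i < 4, (clEnt zle_P (wdsP Tm wW) 38 39 B1 cl45L en44W) i = 0 := allZ_sound0 cl45_0
theorem cl45g {G Ω : Type*} [Group G] [MulAction G Ω] {pt : ℕ → Ω} {w : ℕ → G} (S : Bm G pt 1728 B1) (hw : Act w pt (wdsP Tm wW) 1728 39) {x : ℕ → G}
    (e : En x 2 en44W 4) (hx : Act x pt zle_P 1728 2) : ∀ v ∈ gen x 2,
    v = 1 ∨ v = w 3 ∨ v = w 0 ∨ v = w 3 * w 0 := S.cls e hx hw en44c.2.1 cl45
theorem nvk : ∀ i < 7, (cllEnt gle_P (catP (wdsP P wG) 38 (wdsP P uW)) 77 (38 + 40) B [(true, [nat_lit 27, nat_lit 77], [nat_lit 77, nat_lit 27]), (true, [nat_lit 27, nat_lit 77], [nat_lit 77, nat_lit 27, nat_lit 3])]) i = 0 := allZ_sound0 nvk_0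
theorem cle_q_0 : ∀ i < 1728, (matEnt cle_P cle_Q (nat_lit 0)) i = 0 := allZ_sound0 cle_q_0_0
theorem cle_q_1 : ∀ i < 1728, (matEnt cle_P cle_Q (nat_lit 1)) i = 0 := allZ_sound0 cle_q_1_0
theorem cle_q_2 : ∀ i < 1728, (matEnt cle_P cle_Q (nat_lit 2)) i = 0 := allZ_sound0 cle_q_2_0
theorem cle_q_3 : ∀ i < 1728, (matEnt cle_P cle_Q (nat_lit 3)) i = 0 := allZ_sound0 cle_q_3_0
theorem cle_q_4 : ∀ i < 1728, (matEnt cle_P cle_Q (nat_lit 4)) i = 0 := allZ_sound0 cle_q_4_0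
theorem cle_q_5 : ∀ i < 1728, (matEnt cle_P cle_Q (nat_lit 5)) i = 0 := allZ_sound0 cle_q_5_0
theorem cle_q_6 : ∀ i < 1728, (matEnt cle_P cle_Q (nat_lit 6)) i = 0 := allZ_sound0 cle_q_6_0
theorem cle_q : ∀ k < 7, ∀ i < 1728, (matEnt cle_P cle_Q) k i = 0 :=
  letters_glue (letters_glue (letters_glue (letters_glue (letters_glue (letters_glue (letters_glue (letters_nil) cle_q_0) cle_q_1) cle_q_2) cle_q_3) cle_q_4) cle_q_5) cle_q_6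
theorem en46a : ∀ k < 7, ∀ i < 512, (tupEnt cle_Q en46T en46N (nat_lit 1728) (nat_lit 512) (nat_lit 4)) k i = 0 := allZ2_sound en46a_a
theorem en46b : ∀ i < 512, (enEnt cle_Q en46T en46W (nat_lit 4)) i = 0 := allZ_sound0 en46b_0
theorem cl47 : ∀ i < 512, (clEnt cle_Q (wdsP Tm wW) 38 39 B1 cl47L en46W) i = 0 := allZ_sound0 cl47_0
theorem cl47g {G Ω : Type*} [Group G] [MulAction G Ω] {pt : ℕ → Ω} {w : ℕ → G} (S : Bm G pt 1728 B1) (hw : Act w pt (wdsP Tm wW) 1728 39) {x : ℕ → G}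
    (e : En x 7 en46W 512) (hx : Act x pt cle_Q 1728 7) : ∀ v ∈ gen x 7,
    v * v ≠ w 3 * w 0 ∨ v * w 27 ≠ w 27 * v := S.cls e hx hw en46c.2.1 cl47
theorem le49 : ∀ i < 7, (leEnt t_P cle_P 13 B1 le49W) i = 0 := allZ_sound0 le49_0
theorem co51 : ∀ i < 2, (comEnt (pk (catP (wdsP P wG) 38 (wdsP P uW)) [76, 29]) (pk (catP (wdsP P wG) 38 (wdsP P uW)) [76, 29]) 2 B co51U co51V) i = 0 := allZ_sound0 co51_0
theorem cs54 : ∀ k < 2, ∀ i < 2, (cmEnt t_P t_P B1) k i = 0 := allZ2_sound cs54_a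
theorem co55 : ∀ i < 1, (comEnt t_P t_P 13 B1 co55U co55V) i = 0 := allZ_sound0 co55_0
theorem ns56 : ∀ k < 5, ∀ i < 1, (nrmEnt t_P Tm (nat_lit 1) B1 ns56W) k i = 0 := allZ2_sound ns56_a
theorem cpx_act {G Ω : Type*} [Group G] [MulAction G Ω] {g : ℕ → G} {pt : ℕ → Ω} {c : ℕ}
    (M : Md g pt Tm 1728 6 B1 c) : Act (wds g cpx_W) pt cpx_P 1728 1 :=
  M.wact cpx_lt
theorem cpth_act {G Ω : Type*} [Group G] [MulAction G Ω] {g : ℕ → G} {pt : ℕ → Ω} {c : ℕ}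
    (M : Md g pt Tm 1728 6 B1 c) : Act (wds g cpth_W) pt cpth_P 1728 12 :=
  M.wact cpth_lt
theorem cptl0_e : ∀ i < 1727, (dent cptl0 cpth_P (nat_lit 1728)) i = 0 := allZ_sound0 cptl0_e_0
theorem cptl0_ok : DOK cptl0 cpth_P 1728 := ⟨cptl0_h, cptl0_e⟩
theorem cptl1_e : ∀ i < 9, (dent cptl1 cpth_P (nat_lit 1728)) i = 0 := allZ_sound0 cptl1_e_0
theorem cptl1_ok : DOK cptl1 cpth_P 1728 := ⟨cptl1_h, cptl1_e⟩
theorem cptl2_e : ∀ i < 7, (dent cptl2 cpth_P (nat_lit 1728)) i = 0 := allZ_sound0 cptl2_e_0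
theorem cptl2_ok : DOK cptl2 cpth_P 1728 := ⟨cptl2_h, cptl2_e⟩
theorem cptl3_e : ∀ i < 5, (dent cptl3 cpth_P (nat_lit 1728)) i = 0 := allZ_sound0 cptl3_e_0
theorem cptl3_ok : DOK cptl3 cpth_P 1728 := ⟨cptl3_h, cptl3_e⟩
theorem cptl4_e : ∀ i < 1, (dent cptl4 cpth_P (nat_lit 1728)) i = 0 := allZ_sound0 cptl4_e_0
theorem cptl4_ok : DOK cptl4 cpth_P 1728 := ⟨cptl4_h, cptl4_e⟩
theorem cptl5_e : ∀ i < 1, (dent cptl5 cpth_P (nat_lit 1728)) i = 0 := allZ_sound0 cptl5_e_0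
theorem cptl5_ok : DOK cptl5 cpth_P 1728 := ⟨cptl5_h, cptl5_e⟩
theorem cpt_low {G Ω : Type*} [Group G] [MulAction G Ω] {g : ℕ → G} {pt : ℕ → Ω} {c : ℕ}
    (M : Md g pt Tm 1728 6 B1 c) : SLow (gi (wds g cpth_W)) pt 1728 [cptl0, cptl1, cptl2, cptl3, cptl4, cptl5] :=
  ((((((SLow.nil).cons cptl5_ok (cpth_act M) cpt_f5).cons cptl4_ok (cpth_act M) cpt_f4).cons cptl3_ok (cpth_act M) cpt_f3).cons cptl2_ok (cpth_act M) cpt_f2).cons cptl1_ok (cpth_act M) cpt_f1).cons cptl0_ok (cpth_act M) cpt_f0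
theorem cpt_S0 {G Ω : Type*} [Group G] [MulAction G Ω] {g : ℕ → G} {pt : ℕ → Ω}
    (M : Md g pt Tm 1728 6 B1 3317760) : Stage ⊤ (wds g cpth_W) pt 1728 [cptl0, cptl1, cptl2, cptl3, cptl4, cptl5] [] :=
  M.stage (cpt_low M) cpt_c
theorem cpt_S1 {G Ω : Type*} [Group G] [MulAction G Ω] {g : ℕ → G} {pt : ℕ → Ω}
    (M : Md g pt Tm 1728 6 B1 3317760) : Stage ⊤ (wds g cpth_W) pt 1728 [cptl1, cptl2, cptl3, cptl4, cptl5] [cptl0.Pt 0] :=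
  (cpt_S0 M).next
theorem cpt_S2 {G Ω : Type*} [Group G] [MulAction G Ω] {g : ℕ → G} {pt : ℕ → Ω}
    (M : Md g pt Tm 1728 6 B1 3317760) : Stage ⊤ (wds g cpth_W) pt 1728 [cptl2, cptl3, cptl4, cptl5] [cptl1.Pt 0, cptl0.Pt 0] :=
  (cpt_S1 M).next
theorem cpt_S3 {G Ω : Type*} [Group G] [MulAction G Ω] {g : ℕ → G} {pt : ℕ → Ω}
    (M : Md g pt Tm 1728 6 B1 3317760) : Stage ⊤ (wds g cpth_W) pt 1728 [cptl3, cptl4, cptl5] [cptl2.Pt 0, cptl1.Pt 0, cptl0.Pt 0] :=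
  (cpt_S2 M).next
theorem cpt_S4 {G Ω : Type*} [Group G] [MulAction G Ω] {g : ℕ → G} {pt : ℕ → Ω}
    (M : Md g pt Tm 1728 6 B1 3317760) : Stage ⊤ (wds g cpth_W) pt 1728 [cptl4, cptl5] [cptl3.Pt 0, cptl2.Pt 0, cptl1.Pt 0, cptl0.Pt 0] :=
  (cpt_S3 M).next
theorem cpt_S5 {G Ω : Type*} [Group G] [MulAction G Ω] {g : ℕ → G} {pt : ℕ → Ω}
    (M : Md g pt Tm 1728 6 B1 3317760) : Stage ⊤ (wds g cpth_W) pt 1728 [cptl5] [cptl4.Pt 0, cptl3.Pt 0, cptl2.Pt 0, cptl1.Pt 0, cptl0.Pt 0] :=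
  (cpt_S4 M).next
theorem cpt_S6 {G Ω : Type*} [Group G] [MulAction G Ω] {g : ℕ → G} {pt : ℕ → Ω}
    (M : Md g pt Tm 1728 6 B1 3317760) : Stage ⊤ (wds g cpth_W) pt 1728 [] [cptl5.Pt 0, cptl4.Pt 0, cptl3.Pt 0, cptl2.Pt 0, cptl1.Pt 0, cptl0.Pt 0] :=
  (cpt_S5 M).next
theorem cpe_act {G Ω : Type*} [Group G] [MulAction G Ω] {g : ℕ → G} {pt : ℕ → Ω} {c : ℕ}
    (M : Md g pt Tm 1728 6 B1 c) : Act (wds g cpe_W) pt cpe_P 1728 3 :=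
  M.wact cpe_lt
theorem cpc5_e : ∀ i < 1, (dent cpc5 cpe_P (nat_lit 1728)) i = 0 := allZ_sound0 cpc5_e_0
theorem cpc5_ok : DOK cpc5 cpe_P 1728 := ⟨cpc5_h, cpc5_e⟩
theorem cptn0_1 : ∀ i < 2, (cptn0.ent Tm cpth_P cpx_P cpx_P cpe_P (nat_lit 6) (nat_lit 1) B1 cptl5 [] (memO cpc5)) i = 0 := allZ_sound0 cptn0_1_0
theorem cptn0_t {G Ω : Type*} [Group G] [MulAction G Ω] {g : ℕ → G} {pt : ℕ → Ω}
    (M : Md g pt Tm 1728 6 B1 3317760) : TrO (gen (wds g cpth_W) cptl5.K) (wds g cpx_W) (wds g cpx_W) 1 pt 1728 (cptl5.Pt 0) (memO cpc5) :=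
  node M (cpt_S5 M) (cpth_act M) (cpx_act M) (cpx_act M) cptn0 ((cpe_act M).mono (by decide)) (fun _ _ => trivial) cptn0_0 cptn0_1 (List.forall_mem_nil _)
theorem cpc1_e : ∀ i < 4, (dent cpc1 cpe_P (nat_lit 1728)) i = 0 := allZ_sound0 cpc1_e_0
theorem cpc1_ok : DOK cpc1 cpe_P 1728 := ⟨cpc1_h, cpc1_e⟩
theorem cptn1_1 : ∀ i < 10, (cptn1.ent Tm cpth_P cpx_P cpx_P cpe_P (nat_lit 6) (nat_lit 1) B1 cptl1 [cptl2, cptl3, cptl4, cptl5] (memO cpc1)) i = 0 := allZ_sound0 cptn1_1_0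
theorem cptn1_t {G Ω : Type*} [Group G] [MulAction G Ω] {g : ℕ → G} {pt : ℕ → Ω}
    (M : Md g pt Tm 1728 6 B1 3317760) : TrO (gen (wds g cpth_W) cptl1.K) (wds g cpx_W) (wds g cpx_W) 1 pt 1728 (cptl1.Pt 0) (memO cpc1) :=
  node M (cpt_S1 M) (cpth_act M) (cpx_act M) (cpx_act M) cptn1 ((cpe_act M).mono (by decide)) (fun _ _ => trivial) cptn1_0 cptn1_1 (List.forall_mem_nil _)
theorem cpc0_e : ∀ i < 3, (dent cpc0 cpe_P (nat_lit 1728)) i = 0 := allZ_sound0 cpc0_e_0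
theorem cpc0_ok : DOK cpc0 cpe_P 1728 := ⟨cpc0_h, cpc0_e⟩
theorem cptn2y1211_act {G Ω : Type*} [Group G] [MulAction G Ω] {g : ℕ → G} {pt : ℕ → Ω} {c : ℕ}
    (M : Md g pt Tm 1728 6 B1 c) : Act (wds g cptn2y1211_W) pt cptn2y1211_P 1728 1 :=
  M.wact cptn2y1211_lt
theorem cptr3k_act {G Ω : Type*} [Group G] [MulAction G Ω] {g : ℕ → G} {pt : ℕ → Ω} {c : ℕ}
    (M : Md g pt Tm 1728 6 B1 c) : Act (wds g cptr3k_W) pt cptr3k_P 1728 2 :=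
  M.wact cptr3k_lt
theorem cptn3_1 : ∀ i < 10, (cptn3.ent Tm cpth_P cpx_P cptn2y1211_P cptr3k_P (nat_lit 6) (nat_lit 1) B1 cptl1 [cptl2, cptl3, cptl4, cptl5] (fun _ => nat_lit 1)) i = 0 := allZ_sound0 cptn3_1_0
theorem cptn3_t {G Ω : Type*} [Group G] [MulAction G Ω] {g : ℕ → G} {pt : ℕ → Ω}
    (M : Md g pt Tm 1728 6 B1 3317760) : TrO (gen (wds g cpth_W) cptl1.K) (wds g cpx_W) (wds g cptn2y1211_W) 1 pt 1728 (cptl1.Pt 0) (fun _ => nat_lit 1) :=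
  node M (cpt_S1 M) (cpth_act M) (cpx_act M) (cptn2y1211_act M) cptn3 ((cptr3k_act M).mono (by decide)) (fun _ _ => trivial) cptn3_0 cptn3_1 (List.forall_mem_nil _)
theorem cptr3 {G Ω : Type*} [Group G] [MulAction G Ω] {g : ℕ → G} {pt : ℕ → Ω}
    (M : Md g pt Tm 1728 6 B1 3317760) : Ref (gen (wds g cpth_W) (topK [cptl1, cptl2, cptl3, cptl4, cptl5])) (wds g cpx_W) (wds g cptn2y1211_W) 1 :=
  (cptn3_t M).ref
theorem cptn2_1 : ∀ i < 1728, (cptn2.ent Tm cpth_P cpx_P cpx_P cpe_P (nat_lit 6) (nat_lit 1) B1 cptl0 [cptl1, cptl2, cptl3, cptl4, cptl5] (memO cpc0)) i = 0 := allZ_sound0 cptn2_1_0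
theorem cptn2_t {G Ω : Type*} [Group G] [MulAction G Ω] {g : ℕ → G} {pt : ℕ → Ω}
    (M : Md g pt Tm 1728 6 B1 3317760) : TrO (gen (wds g cpth_W) cptl0.K) (wds g cpx_W) (wds g cpx_W) 1 pt 1728 (cptl0.Pt 0) (memO cpc0) :=
  node M (cpt_S0 M) (cpth_act M) (cpx_act M) (cpx_act M) cptn2 ((cpe_act M).mono (by decide)) (fun _ _ => trivial) cptn2_0 cptn2_1 (List.forall_mem_cons.2 ⟨cptr3 M, List.forall_mem_nil _⟩)
theorem cp {G Ω : Type*} [Group G] [MulAction G Ω] {g : ℕ → G} {pt : ℕ → Ω}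
    (M : Md g pt Tm 1728 6 B1 3317760) : Cen ⊤ (wds g cpx_W) 1 (wds g cpe_W) pt 1728 [cpc0, cpc1, cpc5] :=
  (cpt_S0 M).top ▸ Cen.lev M (cpt_S0 M) (Cen.lev M (cpt_S1 M) (Cen.triv (cpt_S2 M) (Cen.triv (cpt_S3 M) (Cen.triv (cpt_S4 M) (Cen.lev M (cpt_S5 M) (Cen.bot) (cptn0_t M) (cpx_act M) (cpe_act M) (fun _ _ => trivial) cpc5_ok cp_f5) (forced (cpt_S4 M) (cpth_act M) (cpx_act M) _ _ cp_f4)) (forced (cpt_S3 M) (cpth_act M) (cpx_act M) _ _ cp_f3)) (forced (cpt_S2 M) (cpth_act M) (cpx_act M) _ _ cp_f2)) (cptn1_t M) (cpx_act M) (cpe_act M) (fun _ _ => trivial) cpc1_ok cp_f1) (cptn2_t M) (cpx_act M) (cpe_act M) (fun _ _ => trivial) cpc0_ok cp_f0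
theorem cp_card {G Ω : Type*} [Group G] [MulAction G Ω] {g : ℕ → G} {pt : ℕ → Ω}
    (M : Md g pt Tm 1728 6 B1 3317760) : Nat.card (Subgroup.centralizer {(wds g cpx_W) 0}) = 40 :=
  (cp M).card_cent1 M.inj cp_c.1
theorem cp_eq {G Ω : Type*} [Group G] [MulAction G Ω] {g : ℕ → G} {pt : ℕ → Ω}
    (M : Md g pt Tm 1728 6 B1 3317760) : Subgroup.centralizer (gen (wds g cpx_W) 1) = gen (wds g cpe_W) 3 ∧ Nat.card (gen (wds g cpe_W) 3) = 40 :=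
  cp_c.1 ▸ cp_c.2 ▸ ⟨(cp M).cent, (cp M).card M.inj⟩
theorem en57a : ∀ k < 3, ∀ i < 40, (tupEnt cpe_P en57T en57N (nat_lit 1728) (nat_lit 40) (nat_lit 4)) k i = 0 := allZ2_sound en57a_a
theorem en57b : ∀ i < 40, (enEnt cpe_P en57T en57W (nat_lit 4)) i = 0 := allZ_sound0 en57b_0
theorem cl58 : ∀ i < 40, (clEnt cpe_P (wdsP Tm wW) 38 39 B1 cl58L en57W) i = 0 := allZ_sound0 cl58_0
theorem cl58g {G Ω : Type*} [Group G] [MulAction G Ω] {pt : ℕ → Ω} {w : ℕ → G} (S : Bm G pt 1728 B1) (hw : Act w pt (wdsP Tm wW) 1728 39) {x : ℕ → G}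
    (e : En x 3 en57W 40) (hx : Act x pt cpe_P 1728 3) : ∀ v ∈ gen x 3,
    v * v ≠ 1 ∨ v = 1 ∨ v = w 0 ∨ v = w 1 ∨ v = w 0 * w 1 ∨ v = w 2 ∨ v = w 0 * w 2 := S.cls e hx hw en57c.2.1 cl58
theorem le59 : ∀ i < 4, (leEnt pf_P (pk (wdsP Tm wW) [4, 30, 31, 32]) 1 B1 le59W) i = 0 := allZ_sound0 le59_0
theorem rq_act {G Ω : Type*} [Group G] [MulAction G Ω] {g : ℕ → G} {pt : ℕ → Ω} {c : ℕ}
    (M : Md g pt Tm 1728 7 B1 c) : Act (wds g rq_W) pt rq_P 1728 6 :=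
  M.wact rq_lt
theorem ns60 : ∀ k < 6, ∀ i < 6, (nrmEnt rq_P Tm (nat_lit 6) B1 ns60W) k i = 0 := allZ2_sound ns60_a
theorem rq_q : ∀ k < 6, ∀ i < 1728, (matEnt rq_P rq_Q) k i = 0 := allZ2_sound rq_q_a
theorem en61a : ∀ k < 6, ∀ i < 128, (tupEnt rq_Q en61T en61N (nat_lit 1728) (nat_lit 128) (nat_lit 4)) k i = 0 := allZ2_sound en61a_a
theorem en61b : ∀ i < 128, (enEnt rq_Q en61T en61W (nat_lit 4)) i = 0 := allZ_sound0 en61b_0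
theorem cl62 : ∀ i < 128, (clEnt rq_Q (pk (wdsP Tm wW) [4, 30, 31, 32, 1, 2, 33, 33]) 6 8 B1 cl62L en61W) i = 0 := allZ_sound0 cl62_0
theorem cqth_act {G Ω : Type*} [Group G] [MulAction G Ω] {g : ℕ → G} {pt : ℕ → Ω} {c : ℕ}
    (M : Md g pt Tm 1728 7 B1 c) : Act (wds g cqth_W) pt cqth_P 1728 13 :=
  M.wact cqth_lt
theorem cqtl0_e : ∀ i < 1727, (dent cqtl0 cqth_P (nat_lit 1728)) i = 0 := allZ_sound0 cqtl0_e_0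
theorem cqtl0_ok : DOK cqtl0 cqth_P 1728 := ⟨cqtl0_h, cqtl0_e⟩
theorem cqtl1_e : ∀ i < 31, (dent cqtl1 cqth_P (nat_lit 1728)) i = 0 := allZ_sound0 cqtl1_e_0
theorem cqtl1_ok : DOK cqtl1 cqth_P 1728 := ⟨cqtl1_h, cqtl1_e⟩
theorem cqtl2_e : ∀ i < 9, (dent cqtl2 cqth_P (nat_lit 1728)) i = 0 := allZ_sound0 cqtl2_e_0
theorem cqtl2_ok : DOK cqtl2 cqth_P 1728 := ⟨cqtl2_h, cqtl2_e⟩
theorem cqtl3_e : ∀ i < 3, (dent cqtl3 cqth_P (nat_lit 1728)) i = 0 := allZ_sound0 cqtl3_e_0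
theorem cqtl3_ok : DOK cqtl3 cqth_P 1728 := ⟨cqtl3_h, cqtl3_e⟩
theorem cqtl4_e : ∀ i < 2, (dent cqtl4 cqth_P (nat_lit 1728)) i = 0 := allZ_sound0 cqtl4_e_0
theorem cqtl4_ok : DOK cqtl4 cqth_P 1728 := ⟨cqtl4_h, cqtl4_e⟩
theorem cqt_low {G Ω : Type*} [Group G] [MulAction G Ω] {g : ℕ → G} {pt : ℕ → Ω} {c : ℕ}
    (M : Md g pt Tm 1728 7 B1 c) : SLow (gi (wds g cqth_W)) pt 1728 [cqtl0, cqtl1, cqtl2, cqtl3, cqtl4] :=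
  (((((SLow.nil).cons cqtl4_ok (cqth_act M) cqt_f4).cons cqtl3_ok (cqth_act M) cqt_f3).cons cqtl2_ok (cqth_act M) cqt_f2).cons cqtl1_ok (cqth_act M) cqt_f1).cons cqtl0_ok (cqth_act M) cqt_f0
theorem cqt_S0 {G Ω : Type*} [Group G] [MulAction G Ω] {g : ℕ → G} {pt : ℕ → Ω}
    (M : Md g pt Tm 1728 7 B1 6635520) : Stage ⊤ (wds g cqth_W) pt 1728 [cqtl0, cqtl1, cqtl2, cqtl3, cqtl4] [] :=
  M.stage (cqt_low M) cqt_c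
theorem cqt_S1 {G Ω : Type*} [Group G] [MulAction G Ω] {g : ℕ → G} {pt : ℕ → Ω}
    (M : Md g pt Tm 1728 7 B1 6635520) : Stage ⊤ (wds g cqth_W) pt 1728 [cqtl1, cqtl2, cqtl3, cqtl4] [cqtl0.Pt 0] :=
  (cqt_S0 M).next
theorem cqt_S2 {G Ω : Type*} [Group G] [MulAction G Ω] {g : ℕ → G} {pt : ℕ → Ω}
    (M : Md g pt Tm 1728 7 B1 6635520) : Stage ⊤ (wds g cqth_W) pt 1728 [cqtl2, cqtl3, cqtl4] [cqtl1.Pt 0, cqtl0.Pt 0] :=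
  (cqt_S1 M).next
theorem cqt_S3 {G Ω : Type*} [Group G] [MulAction G Ω] {g : ℕ → G} {pt : ℕ → Ω}
    (M : Md g pt Tm 1728 7 B1 6635520) : Stage ⊤ (wds g cqth_W) pt 1728 [cqtl3, cqtl4] [cqtl2.Pt 0, cqtl1.Pt 0, cqtl0.Pt 0] :=
  (cqt_S2 M).next
theorem cqt_S4 {G Ω : Type*} [Group G] [MulAction G Ω] {g : ℕ → G} {pt : ℕ → Ω}
    (M : Md g pt Tm 1728 7 B1 6635520) : Stage ⊤ (wds g cqth_W) pt 1728 [cqtl4] [cqtl3.Pt 0, cqtl2.Pt 0, cqtl1.Pt 0, cqtl0.Pt 0] :=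
  (cqt_S3 M).next
theorem cqt_S5 {G Ω : Type*} [Group G] [MulAction G Ω] {g : ℕ → G} {pt : ℕ → Ω}
    (M : Md g pt Tm 1728 7 B1 6635520) : Stage ⊤ (wds g cqth_W) pt 1728 [] [cqtl4.Pt 0, cqtl3.Pt 0, cqtl2.Pt 0, cqtl1.Pt 0, cqtl0.Pt 0] :=
  (cqt_S4 M).next
theorem cqe_act {G Ω : Type*} [Group G] [MulAction G Ω] {g : ℕ → G} {pt : ℕ → Ω} {c : ℕ}
    (M : Md g pt Tm 1728 7 B1 c) : Act (wds g cqe_W) pt cqe_P 1728 1 :=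
  M.wact cqe_lt
theorem cqc0_e : ∀ i < 1, (dent cqc0 cqe_P (nat_lit 1728)) i = 0 := allZ_sound0 cqc0_e_0
theorem cqc0_ok : DOK cqc0 cqe_P 1728 := ⟨cqc0_h, cqc0_e⟩
theorem cqtn0_1 : ∀ i < 1728, (cqtn0.ent Tm cqth_P rq_P rq_P cqe_P (nat_lit 7) (nat_lit 6) B1 cqtl0 [cqtl1, cqtl2, cqtl3, cqtl4] (memO cqc0)) i = 0 := allZ_sound0 cqtn0_1_0
theorem cqtn0_t {G Ω : Type*} [Group G] [MulAction G Ω] {g : ℕ → G} {pt : ℕ → Ω}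
    (M : Md g pt Tm 1728 7 B1 6635520) : TrO (gen (wds g cqth_W) cqtl0.K) (wds g rq_W) (wds g rq_W) 6 pt 1728 (cqtl0.Pt 0) (memO cqc0) :=
  node M (cqt_S0 M) (cqth_act M) (rq_act M) (rq_act M) cqtn0 ((cqe_act M).mono (by decide)) (fun _ _ => trivial) cqtn0_0 cqtn0_1 (List.forall_mem_nil _)
theorem cq {G Ω : Type*} [Group G] [MulAction G Ω] {g : ℕ → G} {pt : ℕ → Ω}
    (M : Md g pt Tm 1728 7 B1 6635520) : Cen ⊤ (wds g rq_W) 6 (wds g cqe_W) pt 1728 [cqc0] :=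
  (cqt_S0 M).top ▸ Cen.lev M (cqt_S0 M) (Cen.triv (cqt_S1 M) (Cen.triv (cqt_S2 M) (Cen.triv (cqt_S3 M) (Cen.triv (cqt_S4 M) (Cen.bot) (forced (cqt_S4 M) (cqth_act M) (rq_act M) _ _ cq_f4)) (forced (cqt_S3 M) (cqth_act M) (rq_act M) _ _ cq_f3)) (forced (cqt_S2 M) (cqth_act M) (rq_act M) _ _ cq_f2)) (forced (cqt_S1 M) (cqth_act M) (rq_act M) _ _ cq_f1)) (cqtn0_t M) (rq_act M) (cqe_act M) (fun _ _ => trivial) cqc0_ok cq_f0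
theorem cq_eq {G Ω : Type*} [Group G] [MulAction G Ω] {g : ℕ → G} {pt : ℕ → Ω}
    (M : Md g pt Tm 1728 7 B1 6635520) : Subgroup.centralizer (gen (wds g rq_W) 6) = gen (wds g cqe_W) 1 ∧ Nat.card (gen (wds g cqe_W) 1) = 2 :=
  cq_c.1 ▸ cq_c.2 ▸ ⟨(cq M).cent, (cq M).card M.inj⟩
theorem en65a : ∀ k < 1, ∀ i < 2, (tupEnt cqe_P en65T en65N (nat_lit 1728) (nat_lit 2) (nat_lit 4)) k i = 0 := allZ2_sound en65a_a
theorem en65b : ∀ i < 2, (enEnt cqe_P en65T en65W (nat_lit 4)) i = 0 := allZ_sound0 en65b_0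
theorem cl66 : ∀ i < 2, (clEnt cqe_P (wdsP Tm wW) 38 39 B1 cl66L en65W) i = 0 := allZ_sound0 cl66_0
theorem cl66g {G Ω : Type*} [Group G] [MulAction G Ω] {pt : ℕ → Ω} {w : ℕ → G} (S : Bm G pt 1728 B1) (hw : Act w pt (wdsP Tm wW) 1728 39) {x : ℕ → G}
    (e : En x 1 en65W 2) (hx : Act x pt cqe_P 1728 1) : ∀ v ∈ gen x 1,
    v = 1 ∨ v = w 0 := S.cls e hx hw en65c.2.1 cl66
theorem le67 : ∀ i < 6, (leEnt (pk (wdsP Tm wW) [1, 2, 33, 33, 4]) rq_P 5 B1 le67W) i = 0 := allZ_sound0 le67_0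
theorem cvx_act {G Ω : Type*} [Group G] [MulAction G Ω] {g : ℕ → G} {pt : ℕ → Ω} {c : ℕ}
    (M : Md g pt Tm 1728 7 B1 c) : Act (wds g cvx_W) pt cvx_P 1728 2 :=
  M.wact cvx_lt
theorem cvth_act {G Ω : Type*} [Group G] [MulAction G Ω] {g : ℕ → G} {pt : ℕ → Ω} {c : ℕ}
    (M : Md g pt Tm 1728 7 B1 c) : Act (wds g cvth_W) pt cvth_P 1728 13 :=
  M.wact cvth_lt
theorem cvtl0_e : ∀ i < 1727, (dent cvtl0 cvth_P (nat_lit 1728)) i = 0 := allZ_sound0 cvtl0_e_0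
theorem cvtl0_ok : DOK cvtl0 cvth_P 1728 := ⟨cvtl0_h, cvtl0_e⟩
theorem cvtl1_e : ∀ i < 19, (dent cvtl1 cvth_P (nat_lit 1728)) i = 0 := allZ_sound0 cvtl1_e_0
theorem cvtl1_ok : DOK cvtl1 cvth_P 1728 := ⟨cvtl1_h, cvtl1_e⟩
theorem cvtl2_e : ∀ i < 5, (dent cvtl2 cvth_P (nat_lit 1728)) i = 0 := allZ_sound0 cvtl2_e_0
theorem cvtl2_ok : DOK cvtl2 cvth_P 1728 := ⟨cvtl2_h, cvtl2_e⟩
theorem cvtl3_e : ∀ i < 3, (dent cvtl3 cvth_P (nat_lit 1728)) i = 0 := allZ_sound0 cvtl3_e_0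
theorem cvtl3_ok : DOK cvtl3 cvth_P 1728 := ⟨cvtl3_h, cvtl3_e⟩
theorem cvtl4_e : ∀ i < 3, (dent cvtl4 cvth_P (nat_lit 1728)) i = 0 := allZ_sound0 cvtl4_e_0
theorem cvtl4_ok : DOK cvtl4 cvth_P 1728 := ⟨cvtl4_h, cvtl4_e⟩
theorem cvtl5_e : ∀ i < 1, (dent cvtl5 cvth_P (nat_lit 1728)) i = 0 := allZ_sound0 cvtl5_e_0
theorem cvtl5_ok : DOK cvtl5 cvth_P 1728 := ⟨cvtl5_h, cvtl5_e⟩
theorem cvt_low {G Ω : Type*} [Group G] [MulAction G Ω] {g : ℕ → G} {pt : ℕ → Ω} {c : ℕ}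
    (M : Md g pt Tm 1728 7 B1 c) : SLow (gi (wds g cvth_W)) pt 1728 [cvtl0, cvtl1, cvtl2, cvtl3, cvtl4, cvtl5] :=
  ((((((SLow.nil).cons cvtl5_ok (cvth_act M) cvt_f5).cons cvtl4_ok (cvth_act M) cvt_f4).cons cvtl3_ok (cvth_act M) cvt_f3).cons cvtl2_ok (cvth_act M) cvt_f2).cons cvtl1_ok (cvth_act M) cvt_f1).cons cvtl0_ok (cvth_act M) cvt_f0
theorem cvt_S0 {G Ω : Type*} [Group G] [MulAction G Ω] {g : ℕ → G} {pt : ℕ → Ω}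
    (M : Md g pt Tm 1728 7 B1 6635520) : Stage ⊤ (wds g cvth_W) pt 1728 [cvtl0, cvtl1, cvtl2, cvtl3, cvtl4, cvtl5] [] :=
  M.stage (cvt_low M) cvt_c
theorem cvt_S1 {G Ω : Type*} [Group G] [MulAction G Ω] {g : ℕ → G} {pt : ℕ → Ω}
    (M : Md g pt Tm 1728 7 B1 6635520) : Stage ⊤ (wds g cvth_W) pt 1728 [cvtl1, cvtl2, cvtl3, cvtl4, cvtl5] [cvtl0.Pt 0] :=
  (cvt_S0 M).next
theorem cvt_S2 {G Ω : Type*} [Group G] [MulAction G Ω] {g : ℕ → G} {pt : ℕ → Ω}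
    (M : Md g pt Tm 1728 7 B1 6635520) : Stage ⊤ (wds g cvth_W) pt 1728 [cvtl2, cvtl3, cvtl4, cvtl5] [cvtl1.Pt 0, cvtl0.Pt 0] :=
  (cvt_S1 M).next
theorem cvt_S3 {G Ω : Type*} [Group G] [MulAction G Ω] {g : ℕ → G} {pt : ℕ → Ω}
    (M : Md g pt Tm 1728 7 B1 6635520) : Stage ⊤ (wds g cvth_W) pt 1728 [cvtl3, cvtl4, cvtl5] [cvtl2.Pt 0, cvtl1.Pt 0, cvtl0.Pt 0] :=
  (cvt_S2 M).next
theorem cvt_S4 {G Ω : Type*} [Group G] [MulAction G Ω] {g : ℕ → G} {pt : ℕ → Ω}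
    (M : Md g pt Tm 1728 7 B1 6635520) : Stage ⊤ (wds g cvth_W) pt 1728 [cvtl4, cvtl5] [cvtl3.Pt 0, cvtl2.Pt 0, cvtl1.Pt 0, cvtl0.Pt 0] :=
  (cvt_S3 M).next
theorem cvt_S5 {G Ω : Type*} [Group G] [MulAction G Ω] {g : ℕ → G} {pt : ℕ → Ω}
    (M : Md g pt Tm 1728 7 B1 6635520) : Stage ⊤ (wds g cvth_W) pt 1728 [cvtl5] [cvtl4.Pt 0, cvtl3.Pt 0, cvtl2.Pt 0, cvtl1.Pt 0, cvtl0.Pt 0] :=
  (cvt_S4 M).next
theorem cvt_S6 {G Ω : Type*} [Group G] [MulAction G Ω] {g : ℕ → G} {pt : ℕ → Ω}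
    (M : Md g pt Tm 1728 7 B1 6635520) : Stage ⊤ (wds g cvth_W) pt 1728 [] [cvtl5.Pt 0, cvtl4.Pt 0, cvtl3.Pt 0, cvtl2.Pt 0, cvtl1.Pt 0, cvtl0.Pt 0] :=
  (cvt_S5 M).next
theorem cve_act {G Ω : Type*} [Group G] [MulAction G Ω] {g : ℕ → G} {pt : ℕ → Ω} {c : ℕ}
    (M : Md g pt Tm 1728 7 B1 c) : Act (wds g cve_W) pt cve_P 1728 3 :=
  M.wact cve_lt
theorem cvc5_e : ∀ i < 1, (dent cvc5 cve_P (nat_lit 1728)) i = 0 := allZ_sound0 cvc5_e_0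
theorem cvc5_ok : DOK cvc5 cve_P 1728 := ⟨cvc5_h, cvc5_e⟩
theorem cvtn0_1 : ∀ i < 2, (cvtn0.ent Tm cvth_P cvx_P cvx_P cve_P (nat_lit 7) (nat_lit 2) B1 cvtl5 [] (memO cvc5)) i = 0 := allZ_sound0 cvtn0_1_0
theorem cvtn0_t {G Ω : Type*} [Group G] [MulAction G Ω] {g : ℕ → G} {pt : ℕ → Ω}
    (M : Md g pt Tm 1728 7 B1 6635520) : TrO (gen (wds g cvth_W) cvtl5.K) (wds g cvx_W) (wds g cvx_W) 2 pt 1728 (cvtl5.Pt 0) (memO cvc5) :=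
  node M (cvt_S5 M) (cvth_act M) (cvx_act M) (cvx_act M) cvtn0 ((cve_act M).mono (by decide)) (fun _ _ => trivial) cvtn0_0 cvtn0_1 (List.forall_mem_nil _)
theorem cvc0_e : ∀ i < 9, (dent cvc0 cve_P (nat_lit 1728)) i = 0 := allZ_sound0 cvc0_e_0
theorem cvc0_ok : DOK cvc0 cve_P 1728 := ⟨cvc0_h, cvc0_e⟩
theorem cvtn1_1 : ∀ i < 1728, (cvtn1.ent Tm cvth_P cvx_P cvx_P cve_P (nat_lit 7) (nat_lit 2) B1 cvtl0 [cvtl1, cvtl2, cvtl3, cvtl4, cvtl5] (memO cvc0)) i = 0 := allZ_sound0 cvtn1_1_0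
theorem cvtn1_t {G Ω : Type*} [Group G] [MulAction G Ω] {g : ℕ → G} {pt : ℕ → Ω}
    (M : Md g pt Tm 1728 7 B1 6635520) : TrO (gen (wds g cvth_W) cvtl0.K) (wds g cvx_W) (wds g cvx_W) 2 pt 1728 (cvtl0.Pt 0) (memO cvc0) :=
  node M (cvt_S0 M) (cvth_act M) (cvx_act M) (cvx_act M) cvtn1 ((cve_act M).mono (by decide)) (fun _ _ => trivial) cvtn1_0 cvtn1_1 (List.forall_mem_nil _)
theorem cv {G Ω : Type*} [Group G] [MulAction G Ω] {g : ℕ → G} {pt : ℕ → Ω}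
    (M : Md g pt Tm 1728 7 B1 6635520) : Cen ⊤ (wds g cvx_W) 2 (wds g cve_W) pt 1728 [cvc0, cvc5] :=
  (cvt_S0 M).top ▸ Cen.lev M (cvt_S0 M) (Cen.triv (cvt_S1 M) (Cen.triv (cvt_S2 M) (Cen.triv (cvt_S3 M) (Cen.triv (cvt_S4 M) (Cen.lev M (cvt_S5 M) (Cen.bot) (cvtn0_t M) (cvx_act M) (cve_act M) (fun _ _ => trivial) cvc5_ok cv_f5) (forced (cvt_S4 M) (cvth_act M) (cvx_act M) _ _ cv_f4)) (forced (cvt_S3 M) (cvth_act M) (cvx_act M) _ _ cv_f3)) (forced (cvt_S2 M) (cvth_act M) (cvx_act M) _ _ cv_f2)) (forced (cvt_S1 M) (cvth_act M) (cvx_act M) _ _ cv_f1)) (cvtn1_t M) (cvx_act M) (cve_act M) (fun _ _ => trivial) cvc0_ok cv_f0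
theorem cv_eq {G Ω : Type*} [Group G] [MulAction G Ω] {g : ℕ → G} {pt : ℕ → Ω}
    (M : Md g pt Tm 1728 7 B1 6635520) : Subgroup.centralizer (gen (wds g cvx_W) 2) = gen (wds g cve_W) 3 ∧ Nat.card (gen (wds g cve_W) 3) = 20 :=
  cv_c.1 ▸ cv_c.2 ▸ ⟨(cv M).cent, (cv M).card M.inj⟩
theorem cs69 : ∀ k < 1, ∀ i < 1, (cmEnt pf_P pf_P B1) k i = 0 := allZ2_sound cs69_a
theorem le71 : ∀ i < 3, (leEnt (pk (wdsP Tm wW) [0, 1, 4, 4]) cve_P 4 B1 le71W) i = 0 := allZ_sound0 le71_0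
theorem rL0g {G Ω : Type*} [Group G] [MulAction G Ω] {pt : ℕ → Ω} {w : ℕ → G} (S : Bm G pt 1728 B1) (hw : Act w pt (wdsP Tm wW) 1728 39) :
    w 36 * w 36 = 1 ∧ w 0 * w 0 = 1 ∧ w 0 ≠ 1 ∧ w 1 * w 1 = 1 ∧ w 1 * w 0 = w 0 * w 1 ∧ w 7 * w 0 = w 0 * w 7 ∧ w 8 * w 0 = w 0 * w 8 ∧ w 10 * w 0 = w 0 * w 10 ∧ w 10 * w 8 = w 8 * w 10 ∧ w 0 * w 8 = w 9 ∧ w 11 * w 0 = w 0 * w 11 ∧ w 11 * w 1 = w 10 * w 11 ∧ w 12 * w 13 * w 12 * w 13 = w 0 ∧ w 17 * w 0 = w 0 * w 17 ∧ w 17 * w 8 = w 12 * w 17 ∧ w 18 * w 0 = w 0 * w 18 ∧ True := S.rl hw rL0k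
theorem rL1g {G Ω : Type*} [Group G] [MulAction G Ω] {pt : ℕ → Ω} {w : ℕ → G} (S : Bm G pt 1728 B1) (hw : Act w pt (wdsP Tm wW) 1728 39) :
    w 18 * w 8 = w 13 * w 18 ∧ w 0 * w 12 = w 12 * w 0 ∧ w 0 * w 13 = w 13 * w 0 ∧ w 36 * w 3 = w 3 * w 36 ∧ w 36 * w 37 = w 37 * w 36 ∧ w 37 * w 37 = 1 ∧ w 36 * w 0 = w 0 * w 36 ∧ w 37 * w 0 = w 0 * w 37 ∧ w 3 * w 3 = 1 ∧ w 19 * w 3 = w 21 * w 19 ∧ w 20 * w 3 = w 3 * w 21 * w 20 ∧ w 22 * w 22 = 1 ∧ w 22 ≠ 1 ∧ w 3 ≠ 1 ∧ w 29 * w 29 = w 0 ∧ w 27 * w 3 = w 3 * w 27 ∧ True := S.rl hw rL1k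
theorem rL2g {G Ω : Type*} [Group G] [MulAction G Ω] {pt : ℕ → Ω} {w : ℕ → G} (S : Bm G pt 1728 B1) (hw : Act w pt (wdsP Tm wW) 1728 39) :
    w 1 * w 2 ≠ w 2 * w 1 ∧ w 2 * w 2 = 1 ∧ w 34 * w 1 = w 33 * w 34 ∧ w 35 * w 2 = w 33 * w 35 ∧ w 2 * w 1 * w 2 = w 1 * w 0 ∧ True := S.rl hw rL2k
theorem rG0g {G Ω : Type*} [Group G] [MulAction G Ω] {pt : ℕ → Ω} {w u : ℕ → G} (S : Bm G pt 1782 B) (hw : Act (cat w 38 u) pt (catP (wdsP P wG) 38 (wdsP P uW)) 1782 (38 + 40)) :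
    u 0 * w 0 = w 1 * u 0 ∧ u 0 * w 1 = w 0 * w 1 * u 0 ∧ u 3 * w 1 = w 1 * u 3 ∧ u 4 * w 1 = w 1 * u 4 ∧ u 2 * w 1 = w 1 * u 2 ∧ u 2 * w 7 = w 7 * u 2 ∧ u 3 * w 0 = w 7 * u 3 ∧ u 4 * w 0 = w 0 * w 7 * u 4 ∧ u 2 * w 0 = w 0 * w 1 * u 2 ∧ u 5 * w 0 = w 8 * u 5 ∧ u 5 * w 8 = w 0 * w 8 * u 5 ∧ u 6 * w 0 = w 10 * u 6 ∧ u 6 * w 1 = w 8 * u 6 ∧ u 7 * w 0 = w 10 * u 7 ∧ u 7 * w 1 = w 9 * u 7 ∧ u 9 * w 12 = w 12 * u 9 ∧ True := S.rl hw rG0k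
theorem rG1g {G Ω : Type*} [Group G] [MulAction G Ω] {pt : ℕ → Ω} {w u : ℕ → G} (S : Bm G pt 1782 B) (hw : Act (cat w 38 u) pt (catP (wdsP P wG) 38 (wdsP P uW)) 1782 (38 + 40)) :
    u 10 * w 12 = w 12 * u 10 ∧ u 9 * w 13 = u 8 * u 9 ∧ u 10 * w 13 = w 13 * u 8 * u 10 ∧ u 13 * w 0 = w 13 * u 13 ∧ u 13 * w 8 = u 8 * u 13 ∧ u 9 * u 11 = 1 ∧ u 10 * u 12 = 1 ∧ u 14 * u 15 * u 14 = u 16 ∧ u 17 * w 12 = w 0 * u 17 ∧ u 17 * w 13 = u 14 * u 17 ∧ u 18 * w 12 = w 0 * u 18 ∧ u 18 * w 13 = u 15 * u 18 ∧ u 19 * w 12 = u 14 * u 19 ∧ u 19 * w 13 = u 15 * u 19 ∧ u 24 * w 12 = w 0 * u 24 ∧ u 24 * w 13 = u 20 * u 24 ∧ True := S.rl hw rG1k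
theorem rG2g {G Ω : Type*} [Group G] [MulAction G Ω] {pt : ℕ → Ω} {w u : ℕ → G} (S : Bm G pt 1782 B) (hw : Act (cat w 38 u) pt (catP (wdsP P wG) 38 (wdsP P uW)) 1782 (38 + 40)) :
    u 25 * w 12 = w 0 * u 25 ∧ u 25 * w 13 = u 21 * u 25 ∧ u 26 * w 0 = u 20 * u 26 ∧ u 26 * u 16 = u 21 * u 26 ∧ u 22 * w 0 = u 20 * u 22 ∧ u 23 * w 0 = u 21 * u 23 ∧ u 27 * w 22 = w 22 * u 27 ∧ u 28 * w 36 = w 36 * u 28 ∧ u 29 * w 36 = w 36 * u 29 ∧ w 36 * u 30 * w 36 * u 29 * u 28 = u 30 * u 28 * u 29 ∧ u 31 * w 37 = w 37 * u 31 ∧ u 32 * w 37 = w 37 * u 32 ∧ w 37 * u 33 * w 37 * u 32 * u 31 = u 33 * u 31 * u 32 ∧ u 34 * w 3 = w 3 * u 34 ∧ u 35 * w 3 = w 3 * u 35 ∧ u 34 * w 0 = w 28 * u 34 ∧ True := S.rl hw rG2k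
theorem rG3g {G Ω : Type*} [Group G] [MulAction G Ω] {pt : ℕ → Ω} {w u : ℕ → G} (S : Bm G pt 1782 B) (hw : Act (cat w 38 u) pt (catP (wdsP P wG) 38 (wdsP P uW)) 1782 (38 + 40)) :
    u 35 * w 0 = w 0 * w 28 * u 35 ∧ u 37 * w 3 = w 3 * w 0 * u 37 ∧ u 36 * w 3 = w 3 * u 36 ∧ u 36 * u 36 = 1 ∧ u 36 * w 27 = w 3 * w 27 * u 36 ∧ u 1 * w 0 = w 2 * u 1 ∧ u 1 * w 2 = w 0 * w 2 * u 1 ∧ True := S.rl hw rG3k
theorem lnk : ∀ i < 38, (lnkEnt (wdsP (wdsP P mW) wW) (wdsP P wG) B) i = 0 := allZ_sound0 lnk_0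

set_option linter.unusedSectionVars false
open Cfsg Subgroup H19 H28.SF H7.NS
variable {G Ω : Type*} [Group G] [Finite G] [MulAction G Ω] {g : ℕ → G} {pt : ℕ → Ω}
noncomputable def D (g : ℕ → G) : Dt G := ⟨gen g 12, (gen (wds (m g) t_W) 13), gen (m g) 5, (gen (wds (m g) pf_W) 1), (gen (wds (m g) t_W) 1), (w g 0), (w g 1), (w g 2), (w g 36), 2, 512, 64, 5⟩
section
variable (X : Cx g pt)
include X
theorem aw : Act (w g) (pl pt) (wdsP Tm wW) 1728 39 :=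
  (aL X).wds w_lt _
theorem weq : ∀ k < 38, w g k = wds g wG k :=
  (SG X).eqs ((am X).wds w_lt _) (X.M.wact wG_lt) lnk
theorem awG : Act (w g) pt (wdsP P wG) 1782 38 :=
  (SG X).link ((am X).wds w_lt _) (X.M.wact wG_lt) lnk
theorem au : Act (u g) pt (wdsP P uW) 1782 40 :=
  (X.M.act.mono (by decide)).wds u_lt _
theorem aU : Act (cat (w g) 38 (u g)) pt (catP (wdsP P wG) 38 (wdsP P uW)) 1782 (38 + 40) :=
  act_cat (awG X) (au X)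
omit X in
theorem uI (_ : Cx g pt) (k : ℕ) : u g k ∈ gen g 12 :=
  evA_mem_gen _ (nth_lt u_lt k)
theorem rL0 : type_of% (rL0g (SL X) (aw X)) := rL0g (SL X) (aw X)
theorem rL1 : type_of% (rL1g (SL X) (aw X)) := rL1g (SL X) (aw X)
theorem rL2 : type_of% (rL2g (SL X) (aw X)) := rL2g (SL X) (aw X)
theorem rG0 : type_of% (rG0g (SG X) (aU X)) := rG0g (SG X) (aU X)
theorem rG1 : type_of% (rG1g (SG X) (aU X)) := rG1g (SG X) (aU X)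
theorem rG2 : type_of% (rG2g (SG X) (aU X)) := rG2g (SG X) (aU X)
theorem rG3 : type_of% (rG3g (SG X) (aU X)) := rG3g (SG X) (aU X)
theorem tu : PC0 (wds (m g) t_W) 14 2 ∧ #(gen (wds (m g) t_W) 14) = 2 ^ 14 :=
  have ⟨_, M, u⟩ := (R0 X).md
  pc_up (u.wds t_lt _) (t_pc0 M)
theorem pfu : PC0 (wds (m g) pf_W) 1 5 ∧ #(gen (wds (m g) pf_W) 1) = 5 ^ 1 :=
  have ⟨_, M, u⟩ := (R0 X).md
  pc_up (u.wds pf_lt _) (pf_pc0 M)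
theorem cz' : #C[(w g 0)] = 6635520 :=
  have h := ceq (weq X 0 (by decide)) (gz_eq X.M) rfl
  h.1 ▸ h.2
theorem cz : #C[(w g 0)] ≤ 6635520 :=
  (cz' X).le
theorem RA : Rm C[(w g 0)] (m g) (pl pt) Tm 1728 7 B1 6635520 :=
  up X ((SL X).cm1 ((aL X).mono (K' := 7) (by decide)) (aw X) cm1) (cz X)
theorem RM : Rm (gen g 12 ⊓ C[(w g 0)]) (m g) (pl pt) Tm 1728 6 B1 3317760 :=
  (RA X).half (leD (by decide +kernel)) (nmD X.M X.i (by decide +kernel)) (by have h := (rL0 X).1; rwa [show (w g 36) = m g 6 from one_mul _] at h) ((SL X).nm1 ((aL X).mono (K' := 6) (by decide)) ((aL X).mono (K' := 7) (by decide)) nm2)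
theorem wM (k : ℕ) (h : k < 36 := by decide) : w g k ∈ gen g 12 ⊓ C[(w g 0)] :=
  (leD (Ws := wW) (K := 6) (n := 36) (by decide +kernel)).trans (RM X).top.le (mem_gen _ h)
theorem phI : (w g 36) ∉ gen g 12 :=
  fun h => nmD X.M X.i (by decide +kernel) (Set.mem_of_eq_of_mem (one_mul _).symm h)
theorem co : Co (D g) (m g) (wds (m g) t_W) 5 13 448345497600 :=
  ⟨X.i, cardI X.M X.i, by decide, (RA X).top, (RM X).top, rfl, one_mul _, rfl, tu X, rfl, rfl, (leD (Ws := t_W) (K := 6) (n := 13) (by decide +kernel)), gen_wds_le t_lt _, phI X,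
    (rL0 X).1, (rL0 X).2.1, (rL0 X).2.2.1, (rL0 X).2.2.2.1, ((SL X).nm1 ((aL X).mono (K' := 5) (by decide)) (aw X) nm3), (mD (Ws := wW) (k := 0) (K := 5) (by decide +kernel)), ((SL X).coms ((aL X).mono (K' := 5) (by decide)) ((aL X).mono (K' := 5) (by decide)) co4)⟩
theorem wzpu : C[(w g 0)] ⊓ C(gen (wds (m g) wzpx_W) 2) = gen (wds (m g) wzpe_W) 2 ∧ #(gen (wds (m g) wzpe_W) 2) = 4 :=
  have ⟨_, M, u⟩ := (RA X).md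
  cen_up (u.wds wzpx_lt _) (u.wds wzpe_lt _) (wzp_eq M)
theorem en7 : En (wds (m g) wzpe_W) 2 en7W 4 :=
  (SL X).en ((aL X).wds wzpe_lt 2) en7a en7b en7c
theorem cl8a : type_of% (cl8g (SL X) (aw X) (en7 X) ((aL X).wds wzpe_lt 2)) := cl8g (SL X) (aw X) (en7 X) ((aL X).wds wzpe_lt 2)
theorem bzpu : C[(w g 0)] ⊓ C(gen (wds (m g) bzpx_W) 2) = gen (wds (m g) bzpe_W) 2 ∧ #(gen (wds (m g) bzpe_W) 2) = 4 :=
  have ⟨_, M, u⟩ := (RA X).md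
  cen_up (u.wds bzpx_lt _) (u.wds bzpe_lt _) (bzp_eq M)
theorem en10 : En (wds (m g) bzpe_W) 2 en10W 4 :=
  (SL X).en ((aL X).wds bzpe_lt 2) en10a en10b en10c
theorem cl11a : type_of% (cl11g (SG X) (aU X) (en10 X) ((am X).wds bzpe_lt 2)) := cl11g (SG X) (aU X) (en10 X) ((am X).wds bzpe_lt 2)
theorem dkzp {Bz : G → G → Prop} : Dv (gen g 12) (w g 0) Bz true (w g 0) (w g 1) :=
  dbk (wl1 (wM X 0).1 (rL0 X).2.2.2.2.1 (uI X 0) (rG0 X).1 (rG0 X).2.1 ((leD (Ws := wzpx_W) (K := 6) (n := 2) (by decide +kernel)).trans (RM X).top.le) ((SL X).cm1 ((aL X).wds wzpx_lt 2) (aw X) cm9) (fun v hv => (cl8a X) v ((wzpu X).1.le hv))) (wM X 0).1 (uI X 3) (uI X 4) (uI X 2) (rG0 X).2.2.1 (rG0 X).2.2.2.1 (rG0 X).2.2.2.2.1 (rG0 X).2.2.2.2.2.1 (rG0 X).2.2.2.2.2.2.1 (rG0 X).2.2.2.2.2.2.2.1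
    (rG0 X).2.2.2.2.2.2.2.2.1 (rL0 X).2.2.2.2.2.1 ((leD (Ws := bzpx_W) (K := 6) (n := 2) (by decide +kernel)).trans (RM X).top.le) ((SL X).cm1 ((aL X).wds bzpx_lt 2) (aw X) cm12) (fun v hv => (cl11a X) v ((bzpu X).1.le hv))
theorem wb1u : C[(w g 0)] ⊓ C(gen (wds (m g) wb1x_W) 2) = gen (wds (m g) wb1e_W) 2 ∧ #(gen (wds (m g) wb1e_W) 2) = 4 :=
  have ⟨_, M, u⟩ := (RA X).md
  cen_up (u.wds wb1x_lt _) (u.wds wb1e_lt _) (wb1_eq M)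
theorem en13 : En (wds (m g) wb1e_W) 2 en13W 4 :=
  (SL X).en ((aL X).wds wb1e_lt 2) en13a en13b en13c
theorem cl14a : type_of% (cl14g (SL X) (aw X) (en13 X) ((aL X).wds wb1e_lt 2)) := cl14g (SL X) (aw X) (en13 X) ((aL X).wds wb1e_lt 2)
theorem dpb1 {Bz : G → G → Prop} : Dv (gen g 12) (w g 0) Bz true (w g 0) (w g 8) :=
  dpt (wl1 (wM X 0).1 (rL0 X).2.2.2.2.2.2.1 (uI X 5) (rG0 X).2.2.2.2.2.2.2.2.2.1 (rG0 X).2.2.2.2.2.2.2.2.2.2.1 ((leD (Ws := wb1x_W) (K := 6) (n := 2) (by decide +kernel)).trans (RM X).top.le) ((SL X).cm1 ((aL X).wds wb1x_lt 2) (aw X) cm15) (fun v hv => (cl14a X) v ((wb1u X).1.le hv))) (rL0 X).2.2.2.2.2.2.2.1 (rL0 X).2.2.2.2.2.2.2.2.1 (rL0 X).2.2.2.2.2.2.2.2.2.1 (dcj (dkzp X) (wM X 11).1 (rL0 X).2.2.2.2.2.2.2.2.2.2.1 (rL0 X).2.2.2.2.2.2.2.2.2.2.2.1).symm (dcj (dkzp X) (uI X 6) (rG0 X).2.2.2.2.2.2.2.2.2.2.2.1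 (rG0 X).2.2.2.2.2.2.2.2.2.2.2.2.1) (dcj (dkzp X) (uI X 7) (rG0 X).2.2.2.2.2.2.2.2.2.2.2.2.2.1 (rG0 X).2.2.2.2.2.2.2.2.2.2.2.2.2.2.1)
theorem n3u : C[(w g 0)] ⊓ C(gen (wds (m g) n3x_W) 5) = gen (wds (m g) n3e_W) 2 ∧ #(gen (wds (m g) n3e_W) 2) = 4 :=
  have ⟨_, M, u⟩ := (RA X).md
  cen_up (u.wds n3x_lt _) (u.wds n3e_lt _) (n3_eq M)
theorem en19 : En (wds (m g) n3e_W) 2 en19W 4 :=
  (SL X).en ((aL X).wds n3e_lt 2) en19a en19b en19c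
theorem cl20a : type_of% (cl20g (SG X) (aU X) (en19 X) ((am X).wds n3e_lt 2)) := cl20g (SG X) (aU X) (en19 X) ((am X).wds n3e_lt 2)
theorem dn {Bz : G → G → Prop} : Dv (gen g 12) (w g 0) Bz false (w g 12) (w g 13) :=
  dn3 (y := (wds (m g) n3x_W)) (rL0 X).2.2.2.2.2.2.2.2.2.2.2.2.1 (dcj (dpb1 X) (wM X 17).1 (rL0 X).2.2.2.2.2.2.2.2.2.2.2.2.2.1 (rL0 X).2.2.2.2.2.2.2.2.2.2.2.2.2.2.1).symm (dcj (dpb1 X) (wM X 18).1 (rL0 X).2.2.2.2.2.2.2.2.2.2.2.2.2.2.2.1 (rL1 X).1).symm (uI X 9) (uI X 10) (rG0 X).2.2.2.2.2.2.2.2.2.2.2.2.2.2.2.1 (rG1 X).1 (rG1 X).2.1 (rG1 X).2.2.1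
    (dcj (dpb1 X) (uI X 13) (rG1 X).2.2.2.1 (rG1 X).2.2.2.2.1) (wM X 0).1 (rL1 X).2.1 (rL1 X).2.2.1 (rG1 X).2.2.2.2.2.1 (rG1 X).2.2.2.2.2.2.1 (X := (gen (pk (w g) [14, 15, 16]) 3)) (gen_le.2 fun k hk => match k, hk with | 0, _ => (wM X 14) | 1, _ => (wM X 15) | 2, _ => (wM X 16)) ((SL X).cm1 (act_pk (W := [14, 15, 16]) (m := 3) (aw X) (by decide +kernel)) (aw X) cm24) ((SL X).cm1 (act_pk (W := [14, 15, 16]) (m := 3) (aw X) (by decide +kernel)) (aw X) cm25)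
    (fun k hk => match k, hk with | 0, _ => .inl rfl | 1, _ => .inr (.inl rfl) | 2, _ => .inr (.inr (mem_gen (pk (w g) [14, 15, 16]) (by decide : 0 < 3))) | 3, _ => .inr (.inr (mem_gen (pk (w g) [14, 15, 16]) (by decide : 1 < 3))) | 4, _ => .inr (.inr (mem_gen (pk (w g) [14, 15, 16]) (by decide : 2 < 3)))) (n3u X).1 ((leD (Ws := n3e_W) (K := 6) (n := 2) (by decide +kernel)).trans (RM X).top.le) (cl20a X)
theorem dsc {Bz : G → G → Prop} : Dv (gen g 12) (w g 0) Bz false (w g 0) (u g 16) :=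
  .tri (rG1 X).2.2.2.2.2.2.2.1 (dcj (dn X) (uI X 17) (rG1 X).2.2.2.2.2.2.2.2.1 (rG1 X).2.2.2.2.2.2.2.2.2.1) (dcj (dn X) (uI X 18) (rG1 X).2.2.2.2.2.2.2.2.2.2.1 (rG1 X).2.2.2.2.2.2.2.2.2.2.2.1) (dcj (dn X) (uI X 19) (rG1 X).2.2.2.2.2.2.2.2.2.2.2.2.1 (rG1 X).2.2.2.2.2.2.2.2.2.2.2.2.2.1)
theorem gS : gen g 12 ≤ (gen (pk (cat (w g) 38 (u g)) [0, 58, 59]) 3) :=
  ((SG X).le (act_pk (W := [0, 58, 59]) (m := 3) (aU X) (by decide +kernel)) (X.M.act.mono (K' := 12) (by decide)) le29)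
theorem cvr : Cv C[(w g 0)] (wds (m g) covr_W) (4 + 2) :=
  have ⟨_, M, u⟩ := (RA X).md
  cov_up (u.wds covr_lt _) fun _ h => cov M (e := 1) h h
theorem psI : (w g 37) ∉ gen g 12 :=
  weq X 37 (by decide) ▸ nmD X.M X.i (by decide +kernel)
theorem cs : Cs (D g) (w g 3) (w g 37) :=
  (co X).cls (y := (pk (cat (w g) 38 (u g)) [0, 3, 36, 37])) (cvr X) ((SG X).cjs ((cj_act X.M).mono (K' := 6) (by decide)) ((am X).wds covr_lt 6) (act_pk (W := [0, 3, 36, 37]) (m := 4) (aU X) (by decide +kernel)) cjk) rfl rfl rfl rfl (rL1 X).2.2.2.1 (rL1 X).2.2.2.2.1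
theorem cfu : C[(w g 0)] ⊓ C(gen (wds (m g) cfx_W) 1) = gen (wds (m g) cfe_W) 5 ∧ #(gen (wds (m g) cfe_W) 5) = 768 :=
  have ⟨_, M, u⟩ := (RA X).md
  cen_up (u.wds cfx_lt _) (u.wds cfe_lt _) (cf_eq M)
theorem cgu : C[(w g 0)] ⊓ C(gen (wds (m g) cgx_W) 1) = gen (wds (m g) cge_W) 7 ∧ #(gen (wds (m g) cge_W) 7) = 7680 :=
  have ⟨_, M, u⟩ := (RA X).md
  cen_up (u.wds cgx_lt _) (u.wds cge_lt _) (cg_eq M)
theorem ee1 : EE (D g).I (w g 36) ≤ 2 ^ 7 :=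
  (co X).ee (cvr X) (((leD (Ws := covr_W) (K := 6) (n := 4) (by decide +kernel)).trans (RM X).top.le).trans inf_le_left) rfl rfl (phI X) (rL0 X).1 (cen2 (cfu X) :) (cen2 (cgu X) :) (by decide) (.inl (nconj X.M (awG X) nfk nfb))
theorem ee2 : EE (D g).I (w g 37) ≤ 2 ^ 8 :=
  (co X).ee (cvr X) (((leD (Ws := covr_W) (K := 6) (n := 4) (by decide +kernel)).trans (RM X).top.le).trans inf_le_left) rfl rfl (psI X) (rL1 X).2.2.2.2.2.1 (cen2 (cfu X) :) (cen2 (cgu X) :) (by decide) (.inr (by decide))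
theorem eo1 : 2 ^ 6 ≤ EE (D g).I (w g 36) :=
  (co X).eo1 (phI X) (cen2 (cfu X) :) (rL1 X).2.2.2.2.2.2.1 (by decide)
theorem eo2 : 2 ^ 6 ≤ EE (D g).I (w g 37) :=
  (co X).eo1 (psI X) (cen2 (cgu X) :) (rL1 X).2.2.2.2.2.2.2.1 (by decide)
theorem ctu : C[(w g 0)] ⊓ C(gen (wds (m g) ctx_W) 4) = gen (wds (m g) cte_W) 1 ∧ #(gen (wds (m g) cte_W) 1) = 2 :=
  have ⟨_, M, u⟩ := (RA X).md
  cen_up (u.wds ctx_lt _) (u.wds cte_lt _) (ct_eq M)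
theorem en33 : En (wds (m g) cte_W) 1 en33W 2 :=
  (SL X).en ((aL X).wds cte_lt 1) en33a en33b en33c
theorem cl34a : type_of% (cl34g (SL X) (aw X) (en33 X) ((aL X).wds cte_lt 1)) := cl34g (SL X) (aw X) (en33 X) ((aL X).wds cte_lt 1)
theorem cT : ∀ β ∈ C((D g).T), β = 1 ∨ β = (D g).z :=
  (co X).cen (co X).zT ((SL X).le ((aL X).wds t_lt 13) ((aL X).wds ctx_lt 4) le35) (fun v hv => (cl34a X) v ((ctu X).1.le hv))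
theorem cku : C[(w g 0)] ⊓ C(gen (wds (m g) ckx_W) 2) = gen (wds (m g) cke_W) 1 ∧ #(gen (wds (m g) cke_W) 1) = 2 :=
  have ⟨_, M, u⟩ := (RA X).md
  cen_up (u.wds ckx_lt _) (u.wds cke_lt _) (ck_eq M)
theorem clu : gen g 12 ⊓ C[(w g 0)] ⊓ C(gen (wds (m g) clx_W) 1) = gen (wds (m g) cle_W) 7 ∧ #(gen (wds (m g) cle_W) 7) = 512 :=
  have ⟨_, M, u⟩ := (RM X).md
  cen_up (u.wds clx_lt _) (u.wds cle_lt _) (cl_eq M)
theorem om : ∀ J ≤ gen g 12 ⊓ C[(w g 0)], gen g 12 ⊓ C[(w g 0)] ≤ N(J) → Odd #J → J = ⊥ :=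
  odd_triv (k := 9) (wM X 3) (wM X 19) (wM X 20) (rL1 X).2.2.2.2.2.2.2.2.1 (cen2 (clu X) :) (rL1 X).2.2.2.2.2.2.2.2.2.1 (rL1 X).2.2.2.2.2.2.2.2.2.2.1
theorem cnu : gen g 12 ⊓ C[(w g 0)] ⊓ C(gen (wds (m g) cnx_W) 4) = gen (wds (m g) cne_W) 2 ∧ #(gen (wds (m g) cne_W) 2) = 4 :=
  have ⟨_, M, u⟩ := (RM X).md
  cen_up (u.wds cnx_lt _) (u.wds cne_lt _) (cn_eq M)
theorem en36 : En (wds (m g) cne_W) 2 en36W 4 :=
  (SL X).en ((aM X).wds cne_lt 2) en36a en36b en36c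
theorem cl37a : type_of% (cl37g (SL X) (aw X) (en36 X) ((aM X).wds cne_lt 2)) := cl37g (SL X) (aw X) (en36 X) ((aM X).wds cne_lt 2)
theorem g3j1 : G3 (D g) (w g 22) :=
  ⟨(rL1 X).2.2.2.2.2.2.2.2.2.2.2.1, (rL1 X).2.2.2.2.2.2.2.2.2.2.2.2.1, (pk (cat (w g) 38 (u g)) [25, 26, 65]), (wM X 25), (wM X 26), (uI X 27), (rG2 X).2.2.2.2.2.2.1, ((gS X).trans ((SG X).le (act_pk (W := [25, 26, 65]) (m := 3) (aU X) (by decide +kernel)) (act_pk (W := [0, 58, 59]) (m := 3) (aU X) (by decide +kernel)) le38))⟩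
theorem nj : ∀ J ≤ (D g).K, (D g).z ∈ J → (D g).I ⊓ C[(D g).z] ≤ N(J) →
    #J ∣ (D g).d ∨ ∀ H, (∀ j ∈ J, j * j = 1 → j ≠ 1 → (D g).I ⊓ C[j] ≤ H) → (D g).I ≤ H :=
  (co X).nj (om X) ((SL X).cm1 ((aL X).mono (K' := 5) (by decide)) (aw X) cm39) (od2 (rL0 X).2.1) ((SL X).le ((aL X).wds t_lt 13) ((aL X).wds nu_lt 8) le40) (leD (Ws := nu_W) (K := 5) (n := 8) (by decide +kernel)) ((SL X).coms ((aL X).wds nu_lt 8) ((aM X).wds cnx_lt 4) co41)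
    (fun v hv => have e := (cl37a X) v ((cnu X).1.le hv); by rcases e with e | e | e; exacts [.inl (Set.mem_of_eq_of_mem e (one_mem _)), .inl (Set.mem_of_eq_of_mem e (mem_zpowers _)), .inr ⟨_, (wM X 23), _, (wM X 24), .inl e⟩]) (g3j1 X) (g3j1 X)
theorem gn1 : Gen (D g).I (w g 36) :=
  (gen_of (x := (pk (cat (w g) 38 (u g)) [66, 67, 68])) (uI X 30) (uI X 28) (uI X 29) (rG2 X).2.2.2.2.2.2.2.1 (rG2 X).2.2.2.2.2.2.2.2.1 (rL0 X).1 (rG2 X).2.2.2.2.2.2.2.2.2.1 ((gS X).trans ((SG X).le (act_pk (W := [66, 67, 68]) (m := 3) (aU X) (by decide +kernel)) (act_pk (W := [0, 58, 59]) (m := 3) (aU X) (by decide +kernel)) le42)))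
theorem gn2 : Gen (D g).I (w g 37) :=
  (gen_of (x := (pk (cat (w g) 38 (u g)) [69, 70, 71])) (uI X 33) (uI X 31) (uI X 32) (rG2 X).2.2.2.2.2.2.2.2.2.2.1 (rG2 X).2.2.2.2.2.2.2.2.2.2.2.1 (rL1 X).2.2.2.2.2.1 (rG2 X).2.2.2.2.2.2.2.2.2.2.2.2.1 ((gS X).trans ((SG X).le (act_pk (W := [69, 70, 71]) (m := 3) (aU X) (by decide +kernel)) (act_pk (W := [0, 58, 59]) (m := 3) (aU X) (by decide +kernel)) le43)))
theorem zlu : C[(w g 0)] ⊓ C(gen (wds (m g) zlx_W) 7) = gen (wds (m g) zle_W) 2 ∧ #(gen (wds (m g) zle_W) 2) = 4 :=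
  have ⟨_, M, u⟩ := (RA X).md
  cen_up (u.wds zlx_lt _) (u.wds zle_lt _) (zl_eq M)
theorem en44 : En (wds (m g) zle_W) 2 en44W 4 :=
  (SL X).en ((aL X).wds zle_lt 2) en44a en44b en44c
theorem cl45a : type_of% (cl45g (SL X) (aw X) (en44 X) ((aL X).wds zle_lt 2)) := cl45g (SL X) (aw X) (en44 X) ((aL X).wds zle_lt 2)
theorem en46 : En (wds (m g) cle_W) 7 en46W 512 :=
  (SL X).en ((act_mat ((aM X).wds cle_lt 7) cle_q).mono (K' := 7) (by decide)) en46a en46b en46c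
theorem cl47a : type_of% (cl47g (SL X) (aw X) (en46 X) ((act_mat ((aM X).wds cle_lt 7) cle_q).mono (K' := 7) (by decide))) := cl47g (SL X) (aw X) (en46 X) ((act_mat ((aM X).wds cle_lt 7) cle_q).mono (K' := 7) (by decide))
theorem lf : (D g).LF (w g 3) ∧ 2 ^ 9 ≤ EE (D g).I (w g 3) :=
  (co X).lf (l' := (w g 27)) (cs X) (psI X) ((SL X).mem1 ((aL X).mono (K' := 5) (by decide)) (aw X) me5) ((SL X).mem1 ((aL X).wds t_lt 13) (aw X) me48) (rL1 X).2.2.2.2.2.2.2.2.1 (rL1 X).2.2.2.2.2.2.2.2.2.2.2.2.2.1 (rL1 X).2.2.2.1 (ceq (weq X 3 (by decide)) (gl_eq X.M) rfl) (cz' X)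
    (cen1 (clu X) :) ((SL X).le ((aL X).wds t_lt 13) ((aM X).wds cle_lt 7) le49) (by dsimp only [D]; decide) (fun v hv => (cl45a X) v ((zlu X).1.le hv)) (uI X 34) (uI X 35) (rG2 X).2.2.2.2.2.2.2.2.2.2.2.2.2.1 (rG2 X).2.2.2.2.2.2.2.2.2.2.2.2.2.2.1 (rG2 X).2.2.2.2.2.2.2.2.2.2.2.2.2.2.2.1 (rG3 X).1
    (uI X 37) (rG3 X).2.1 (H := (gen (pk (cat (w g) 38 (u g)) [76, 29]) 2)) (gen_le.2 fun k hk => match k, hk with | 0, _ => (uI X 38) | 1, _ => (wM X 29).1) ((SG X).cm1 (act_pk (W := [76, 29]) (m := 2) (aU X) (by decide +kernel)) (awG X) cm50) ((SG X).coms (act_pk (W := [76, 29]) (m := 2) (aU X) (by decide +kernel)) (act_pk (W := [76, 29]) (m := 2) (aU X) (by decide +kernel)) co51) (mem_gen _ (by decide : 1 < 2)) (rL1 X).2.2.2.2.2.2.2.2.2.2.2.2.2.2.1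
    ((SG X).cll (gle_act X.M) (aU X) nvk) (uI X 36) (rG3 X).2.2.1 (rG3 X).2.2.2.1 (rG3 X).2.2.2.2.1 (wM X 27).1 (rL1 X).2.2.2.2.2.2.2.2.2.2.2.2.2.2.2.1 (cl47a X)
theorem fa {Y : Type*} [Group Y] [IsSimpleGroup Y] (e : gen g 12 ≃* Y) (o : Nat.card (Out Y) = 2) : (D g).FA :=
  (co X).fa e o ((SL X).mem1 ((aL X).wds t_lt 13) (aw X) me52) ((SL X).mem1 ((aL X).wds t_lt 13) (aw X) me53) (rL2 X).1 (cT X) (leD (Ws := ckx_W) (K := 5) (n := 2) (by decide +kernel)) (cku X).1 (leD (Ws := cke_W) (K := 5) (n := 1) (by decide +kernel)) (om X) (by dsimp only [D]; decide) (nj X)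
    ((co X).smo (cs X) (wM X 3).1 (ee1 X) (ee2 X) (by dsimp only [D]; decide)) ((co X).gen' (cs X) (wM X 3).1 (gn1 X) (gn2 X)) (.inr ⟨_, (lf X).1⟩)
theorem fe : (D g).FE :=
  (co X).fe (H := (gen (m g) 5)) (j' := 2) (cs X) (wM X 3).1 (psI X) (rL1 X).2.2.2.1 (rL1 X).2.2.2.2.1 ((SL X).mem1 ((aL X).wds t_lt 13) (aw X) me52) ((SL X).mem1 ((aL X).wds t_lt 13) (aw X) me53) (rL2 X).2.1 (rL2 X).1 rfl (by decide) ((SL X).cms ((aL X).wds t_lt 2) ((aL X).wds t_lt 2) cs54)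
    (fun k hk => match k, hk with | 0, _ => ((SL X).rl ((aL X).wds t_lt 14) elk).1 | 1, _ => ((SL X).rl ((aL X).wds t_lt 14) elk).2.1) ((SL X).coms ((aL X).wds t_lt 13) ((aL X).wds t_lt 1) co55) ((co X).uY1 (cT X))
    (leD (Ws := t_W) (K := 5) (n := 13) (by decide +kernel)) (co X).Kp ((co X).KM.trans inf_le_left) ((SL X).norms ((aL X).wds t_lt 1) ((aL X).mono (K' := 5) (by decide)) ns56) (lf X).2 (eo1 X) (eo2 X) (ee1 X) (by dsimp only [D]; decide)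
theorem cpu : gen g 12 ⊓ C[(w g 0)] ⊓ C(gen (wds (m g) cpx_W) 1) = gen (wds (m g) cpe_W) 3 ∧ #(gen (wds (m g) cpe_W) 3) = 40 :=
  have ⟨_, M, u⟩ := (RM X).md
  cen_up (u.wds cpx_lt _) (u.wds cpe_lt _) (cp_eq M)
theorem en57 : En (wds (m g) cpe_W) 3 en57W 40 :=
  (SL X).en ((aM X).wds cpe_lt 3) en57a en57b en57c
theorem cl58a : type_of% (cl58g (SL X) (aw X) (en57 X) ((aM X).wds cpe_lt 3)) := cl58g (SL X) (aw X) (en57 X) ((aM X).wds cpe_lt 3)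
theorem nQ : gen g 12 ⊓ C[(w g 0)] ≤ N(gen (wds (m g) rq_W) 6) :=
  ((RM X).top.ge.trans ((SL X).norms ((aL X).wds rq_lt 6) ((aL X).mono (K' := 6) (by decide)) ns60))
theorem en61 : En (wds (m g) rq_W) 6 en61W 128 :=
  (SL X).en ((act_mat ((aL X).wds rq_lt 6) rq_q).mono (K' := 6) (by decide)) en61a en61b en61c
theorem cqu : C[(w g 0)] ⊓ C(gen (wds (m g) rq_W) 6) = gen (wds (m g) cqe_W) 1 ∧ #(gen (wds (m g) cqe_W) 1) = 2 :=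
  have ⟨_, M, u⟩ := (RA X).md
  cen_up (u.wds rq_lt _) (u.wds cqe_lt _) (cq_eq M)
theorem en65 : En (wds (m g) cqe_W) 1 en65W 2 :=
  (SL X).en ((aL X).wds cqe_lt 1) en65a en65b en65c
theorem cl66a : type_of% (cl66g (SL X) (aw X) (en65 X) ((aL X).wds cqe_lt 1)) := cl66g (SL X) (aw X) (en65 X) ((aL X).wds cqe_lt 1)
theorem rig : Rig (gen g 12 ⊓ C[(w g 0)]) (insert (D g).z' (insert (D g).w (D g).P)) :=
  rigQ (co X) ((SL X).mem1 ((aL X).mono (K' := 5) (by decide)) (aw X) me5) ((PiN.of_card_pow (by decide) (pfu X).2).sing_ne (by decide)) (leD (Ws := pf_W) (K := 5) (n := 1) (by decide +kernel)) (wM X 2)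
    (y1 := (pk (w g) [4, 30, 31, 32, 1, 2, 33, 33])) (j1 := 6) (gen_le.2 fun k hk => match k, hk with | 0, _ => mem_sup_left (mem_sup_left (((SL X).le ((aL X).wds pf_lt 1) (act_pk (W := [4, 30, 31, 32]) (m := 4) (aw X) (by decide +kernel)) le59) (mem_gen _ (by decide : 0 < 4)))) | 1, _ => mem_sup_left (mem_sup_left (((SL X).le ((aL X).wds pf_lt 1) (act_pk (W := [4, 30, 31, 32]) (m := 4) (aw X) (by decide +kernel)) le59) (mem_gen _ (by decide : 1 < 4)))) | 2, _ => mem_sup_left (mem_sup_left (((SL X).le ((aL X).wds pf_lt 1) (act_pk (W := [4, 30, 31, 32]) (m := 4) (aw X) (by decide +kernel)) le59) (mem_gen _ (by decide : 2 < 4)))) | 3, _ => mem_sup_left (mem_sup_left (((SL X).le ((aL X).wds pf_lt 1) (act_pk (W := [4, 30, 31, 32]) (m := 4) (aw X) (by decide +kernel)) le59) (mem_gen _ (by decide : 3 < 4)))) | 4, _ =>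 mem_sup_left (mem_sup_right (mem_zpowers _)) | 5, _ => mem_sup_right (mem_zpowers _)) (wM X 34) ((SL X).mem1 ((aL X).wds rq_lt 6) (aw X) me63) (nQ X) (rL2 X).2.2.1 cl62a ((SL X).rl (act_pk (W := [4, 30, 31, 32, 1, 2, 33, 33]) (m := 8) (aw X) (by decide +kernel)) cl62b)
    (fun v hv => (cl_app (((SL X).cls (en61 X) ((act_mat ((aL X).wds rq_lt 6) rq_q).mono (K' := 6) (by decide)) (act_pk (W := [4, 30, 31, 32, 1, 2, 33, 33]) (m := 8) (aw X) (by decide +kernel)) en61c.2.1 cl62) v hv)).imp_right fun e => by rcases e with e | e | e | e | e; exacts [.inl e, .inr ⟨_, (((SL X).le ((aL X).wds pf_lt 1) (act_pk (W := [4, 30, 31, 32]) (m := 4) (aw X) (by decide +kernel)) le59) (mem_gen _ (by decide : 0 < 4))), e⟩, .inr ⟨_, (((SL X).le ((aL X).wds pf_lt 1) (act_pk (W := [4, 30, 31, 32]) (m := 4) (aw X) (by decide +kernel)) le59)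 (mem_gen _ (by decide : 1 < 4))), e⟩, .inr ⟨_, (((SL X).le ((aL X).wds pf_lt 1) (act_pk (W := [4, 30, 31, 32]) (m := 4) (aw X) (by decide +kernel)) le59) (mem_gen _ (by decide : 2 < 4))), e⟩, .inr ⟨_, (((SL X).le ((aL X).wds pf_lt 1) (act_pk (W := [4, 30, 31, 32]) (m := 4) (aw X) (by decide +kernel)) le59) (mem_gen _ (by decide : 3 < 4))), e⟩])
    (y2 := (pk (w g) [4, 30, 31, 32, 1, 2, 33, 33])) (j2 := 6) (gen_le.2 fun k hk => match k, hk with | 0, _ => mem_sup_left (mem_sup_left (((SL X).le ((aL X).wds pf_lt 1) (act_pk (W := [4, 30, 31, 32]) (m := 4) (aw X) (by decide +kernel)) le59) (mem_gen _ (by decide : 0 < 4)))) | 1, _ => mem_sup_left (mem_sup_left (((SL X).le ((aL X).wds pf_lt 1) (act_pk (W := [4, 30, 31, 32]) (m := 4) (aw X) (by decide +kernel)) le59) (mem_gen _ (by decide : 1 < 4)))) | 2, _ => mem_sup_left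 (mem_sup_left (((SL X).le ((aL X).wds pf_lt 1) (act_pk (W := [4, 30, 31, 32]) (m := 4) (aw X) (by decide +kernel)) le59) (mem_gen _ (by decide : 2 < 4)))) | 3, _ => mem_sup_left (mem_sup_left (((SL X).le ((aL X).wds pf_lt 1) (act_pk (W := [4, 30, 31, 32]) (m := 4) (aw X) (by decide +kernel)) le59) (mem_gen _ (by decide : 3 < 4)))) | 4, _ => mem_sup_left (mem_sup_right (mem_zpowers _)) | 5, _ => mem_sup_right (mem_zpowers _)) (wM X 35) ((SL X).mem1 ((aL X).wds rq_lt 6) (aw X) me64) (nQ X) (rL2 X).2.2.2.1 cl62a ((SL X).rl (act_pk (W := [4, 30, 31, 32, 1, 2, 33, 33]) (m := 8) (aw X) (by decide +kernel)) cl62b)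
    (fun v hv => (cl_app (((SL X).cls (en61 X) ((act_mat ((aL X).wds rq_lt 6) rq_q).mono (K' := 6) (by decide)) (act_pk (W := [4, 30, 31, 32, 1, 2, 33, 33]) (m := 8) (aw X) (by decide +kernel)) en61c.2.1 cl62) v hv)).imp_right fun e => by rcases e with e | e | e | e | e; exacts [.inl e, .inr ⟨_, (((SL X).le ((aL X).wds pf_lt 1) (act_pk (W := [4, 30, 31, 32]) (m := 4) (aw X) (by decide +kernel)) le59) (mem_gen _ (by decide : 0 < 4))), e⟩, .inr ⟨_, (((SL X).le ((aL X).wds pf_lt 1) (act_pk (W := [4, 30, 31, 32]) (m := 4) (aw X) (by decide +kernel)) le59) (mem_gen _ (by decide : 1 < 4))), e⟩, .inr ⟨_, (((SL X).le ((aL X).wds pf_lt 1) (act_pk (W := [4, 30, 31, 32]) (m := 4) (aw X) (by decide +kernel)) le59) (mem_gen _ (by decide : 2 < 4))), e⟩, .inr ⟨_, (((SL X).le ((aL X).wds pf_lt 1) (act_pk (W := [4, 30, 31, 32]) (m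 := 4) (aw X) (by decide +kernel)) le59) (mem_gen _ (by decide : 3 < 4))), e⟩])
    (q := (pk (w g) [1, 2, 33, 33, 4])) rfl rfl rfl rfl (((SL X).le ((aL X).wds pf_lt 1) (act_pk (W := [4, 30, 31, 32]) (m := 4) (aw X) (by decide +kernel)) le59) (mem_gen _ (by decide : 0 < 4))) ((SL X).le (act_pk (W := [1, 2, 33, 33, 4]) (m := 5) (aw X) (by decide +kernel)) ((aL X).wds rq_lt 6) le67) (nQ X) ((SL X).mem1 ((aL X).wds rq_lt 6) (aw X) me68) (fun v hv => (cl66a X) v ((cqu X).1.le hv))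
theorem cvu : C[(w g 0)] ⊓ C(gen (wds (m g) cvx_W) 2) = gen (wds (m g) cve_W) 3 ∧ #(gen (wds (m g) cve_W) 3) = 20 :=
  have ⟨_, M, u⟩ := (RA X).md
  cen_up (u.wds cvx_lt _) (u.wds cve_lt _) (cv_eq M)
theorem fc' : (D g).FC :=
  fc (co X) (by dsimp only [D]; decide) (pfu X).2 (RM X).card (leD (Ws := pf_W) (K := 5) (n := 1) (by decide +kernel)) ((SL X).cms ((aL X).wds pf_lt 1) ((aL X).wds pf_lt 1) cs69) ((SL X).cm1 ((aL X).wds pf_lt 1) (aw X) cm6) ((SL X).cm1 ((aL X).wds pf_lt 1) (aw X) cm70) (wM X 2) (rL2 X).2.1 (rL2 X).2.2.2.2.1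
    (fun v hv => (cl58a X) v ((cpu X).1.le hv)) (.inl ⟨((SL X).mem1 ((aL X).mono (K' := 5) (by decide)) (aw X) me5), (mD (Ws := wW) (k := 2) (K := 5) (by decide +kernel))⟩) (X := (gen (wds (m g) cvx_W) 2)) (gen_le.2 fun k hk => match k, hk with | 0, _ => mem_sup_left (mem_gen (wds (m g) pf_W) (by decide : 0 < 1)) | 1, _ => mem_sup_right (mem_zpowers _))
    ((cvu X).1.le.trans ((SL X).le (act_pk (W := [0, 1, 4, 4]) (m := 4) (aw X) (by decide +kernel)) ((aL X).wds cve_lt 3) le71)) rfl rfl (mem_gen (wds (m g) pf_W) (by decide : 0 < 1)) (mem_gen (wds (m g) pf_W) (by decide : 0 < 1)) (uI X 0) ((SG X).cm1 ((am X).wds pf_lt 1) (au X) cm72) (rG0 X).1 (rG0 X).2.1 (uI X 1) ((SG X).cm1 ((am X).wds pf_lt 1) (au X) cm73) (rG3 X).2.2.2.2.2.1 (rG3 X).2.2.2.2.2.2.1 (rig X) (clq (x := (pk (cat (w g) 38 (u g)) [0, 58, 59])) (gS X)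 (dcj (dn X) (uI X 24) (rG1 X).2.2.2.2.2.2.2.2.2.2.2.2.2.2.1 (rG1 X).2.2.2.2.2.2.2.2.2.2.2.2.2.2.2.1) (dcj (dn X) (uI X 25) (rG2 X).1 (rG2 X).2.1) (dcj (dsc X) (uI X 26) (rG2 X).2.2.1 (rG2 X).2.2.2.1) rfl (uI X 22) (rG2 X).2.2.2.2.1 (uI X 23) (rG2 X).2.2.2.2.2.1)
end
end H15.NS.Suz
theorem H15.NS.suz : H7.NS.SUZ := by
  obtain ⟨Y, Ω, _, _, γ, pt, X, ⟨e⟩⟩ := H15.NS.Suz.ex
  have := X.M.fin
  have := H16.PSuz.simple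
  exact ⟨Y, _, ‹_›, H15.NS.Suz.D γ, ⟨H16.PSuz.equiv.trans e.symm⟩, H15.NS.Suz.fa X e H16.OSuz.out, H15.NS.Suz.fc' X, H15.NS.Suz.fe X⟩
namespace H15.NS.Suz

end H15.NS.Suz
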